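import Mathlib
import Cfsg.Agent.Classical.Unitary.Action
import Cfsg.Agent.Classical.Unitary.Isotropic

/-!
# Coordinate embeddings `SU_k(q) →* SU_m(q)`

An injection `f : Fin k ↪ Fin m` of coordinates gives the homomorphism `M ↦ 1 + P (M - 1) Pᵀ`, `P` the
inclusion matrix; its image is the set of elements fixing the standard vectors outside the range of `f`.
-/

set_option autoImplicit false

namespace CfsgLib.Phan

open Cfsg Matrix CfsgLib.Unitary

variable {F : Type*} [Field F] {k l m q : ℕ}

/-- The inclusion matrix of an injection of coordinates. -/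
def incl (F : Type*) [Field F] (f : Fin k ↪ Fin m) : Matrix (Fin m) (Fin k) F := Matrix.of fun i j => if i = f j then 1 else 0

theorem incl_apply (f : Fin k ↪ Fin m) (i : Fin m) (j : Fin k) :
    incl F f i j = if i = f j then 1 else 0 := rfl

theorem inclT_mul (f : Fin k ↪ Fin m) : (incl F f)ᵀ * incl F f = 1 := by
  ext i j
  simp [Matrix.mul_apply, incl_apply, Matrix.one_apply, eq_comm, f.injective.eq_iff]

theorem inclT_mul_of_disjoint (f : Fin k ↪ Fin m) (g : Fin l ↪ Fin m) (h : ∀ i j, f i ≠ g j) :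
    (incl F f)ᵀ * incl F g = 0 := by
  ext i j
  simp [Matrix.mul_apply, incl_apply, h i j, Ne.symm (h i j)]

theorem incl_mul_incl {n : ℕ} (g : Fin m ↪ Fin n) (f : Fin k ↪ Fin m) :
    incl F g * incl F f = incl F (f.trans g) := by
  ext i j
  rw [Matrix.mul_apply, Finset.sum_eq_single (f j)]
  · simp [incl_apply]
  · intro b _ hb; simp [incl_apply, hb]
  · simp

/-- The extension of a matrix by the identity outside the range of `f`. -/
def extM (f : Fin k ↪ Fin m) (M : Matrix (Fin k) (Fin k) F) : Matrix (Fin m) (Fin m) F :=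
  1 + incl F f * (M - 1) * (incl F f)ᵀ

@[simp] theorem extM_one (f : Fin k ↪ Fin m) : extM f (1 : Matrix (Fin k) (Fin k) F) = 1 := by
  simp [extM]

theorem extM_mul (f : Fin k ↪ Fin m) (M M' : Matrix (Fin k) (Fin k) F) :
    extM f (M * M') = extM f M * extM f M' := by
  have h : incl F f * (M - 1) * (incl F f)ᵀ * (incl F f * (M' - 1) * (incl F f)ᵀ)
      = incl F f * ((M - 1) * (M' - 1)) * (incl F f)ᵀ := by
    rw [Matrix.mul_assoc (incl F f * (M - 1)), ← Matrix.mul_assoc (incl F f)ᵀ, ← Matrix.mul_assoc (incl F f)ᵀ,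
      inclT_mul, Matrix.one_mul]
    simp [Matrix.mul_assoc]
  simp only [extM]
  rw [Matrix.mul_add, Matrix.add_mul, Matrix.add_mul, h]
  simp only [Matrix.one_mul, Matrix.mul_one, add_assoc]
  congr 1
  simp only [← Matrix.add_mul, ← Matrix.mul_add]
  congr 2
  noncomm_ring

theorem extM_trans {n : ℕ} (g : Fin m ↪ Fin n) (f : Fin k ↪ Fin m) (M : Matrix (Fin k) (Fin k) F) :
    extM g (extM f M) = extM (f.trans g) M := by
  simp [extM, ← incl_mul_incl g f, Matrix.transpose_mul, Matrix.mul_assoc]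

theorem det_extM (f : Fin k ↪ Fin m) (M : Matrix (Fin k) (Fin k) F) : (extM f M).det = M.det := by
  rw [extM, Matrix.det_one_add_mul_comm, ← Matrix.mul_assoc, inclT_mul, Matrix.one_mul]
  congr 1
  abel

theorem extM_commute (f : Fin k ↪ Fin m) (g : Fin l ↪ Fin m) (h : ∀ i j, f i ≠ g j)
    (M : Matrix (Fin k) (Fin k) F) (M' : Matrix (Fin l) (Fin l) F) : Commute (extM f M) (extM g M') := by
  have h1 : incl F f * (M - 1) * (incl F f)ᵀ * (incl F g * (M' - 1) * (incl F g)ᵀ) = 0 := by
    rw [Matrix.mul_assoc (incl F f * (M - 1)), ← Matrix.mul_assoc (incl F f)ᵀ, ← Matrix.mul_assoc (incl F f)ᵀ,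
      inclT_mul_of_disjoint f g h]
    simp
  have h2 : incl F g * (M' - 1) * (incl F g)ᵀ * (incl F f * (M - 1) * (incl F f)ᵀ) = 0 := by
    rw [Matrix.mul_assoc (incl F g * (M' - 1)), ← Matrix.mul_assoc (incl F g)ᵀ, ← Matrix.mul_assoc (incl F g)ᵀ,
      inclT_mul_of_disjoint g f (fun i j => Ne.symm (h j i))]
    simp
  show _ * _ = _ * _
  simp only [extM, Matrix.mul_add, Matrix.add_mul, Matrix.one_mul, Matrix.mul_one, h1, h2]
  abel

theorem incl_mulVec_single (f : Fin k ↪ Fin m) (j : Fin k) :
    (incl F f).mulVec (Pi.single j 1) = Pi.single (f j) 1 := by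
  ext i
  simp [Matrix.mulVec_single, incl_apply, Pi.single_apply]

theorem extM_mulVec_incl (f : Fin k ↪ Fin m) (M : Matrix (Fin k) (Fin k) F) (u : Fin k → F) :
    (extM f M).mulVec ((incl F f).mulVec u) = (incl F f).mulVec (M.mulVec u) := by
  rw [extM, Matrix.add_mulVec, Matrix.one_mulVec, Matrix.mulVec_mulVec, Matrix.mul_assoc, inclT_mul,
    Matrix.mul_one, ← Matrix.mulVec_mulVec, ← Matrix.mulVec_add, Matrix.sub_mulVec, Matrix.one_mulVec,
    add_sub_cancel]

theorem extM_mulVec_single_range (f : Fin k ↪ Fin m) (M : Matrix (Fin k) (Fin k) F) (j : Fin k) :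
    (extM f M).mulVec (Pi.single (f j) 1) = (incl F f).mulVec (M.mulVec (Pi.single j 1)) := by
  rw [← incl_mulVec_single, extM_mulVec_incl]

theorem extM_mulVec_fix (f : Fin k ↪ Fin m) (M : Matrix (Fin k) (Fin k) F) {u : Fin m → F}
    (hu : ∀ j, u (f j) = 0) : (extM f M).mulVec u = u := by
  have h : (incl F f)ᵀ.mulVec u = 0 := by
    ext j
    simp [Matrix.mulVec, dotProduct, incl_apply, hu j]
  rw [extM, Matrix.add_mulVec, Matrix.one_mulVec, ← Matrix.mulVec_mulVec, h, Matrix.mulVec_zero, add_zero]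

theorem incl_mulVec_apply (f : Fin k ↪ Fin m) (u : Fin k → F) (j : Fin k) :
    (incl F f).mulVec u (f j) = u j := by
  simp [Matrix.mulVec, dotProduct, incl_apply]

theorem incl_mulVec_apply_of_notMem (f : Fin k ↪ Fin m) (u : Fin k → F) {i : Fin m} (hi : ∀ j, f j ≠ i) :
    (incl F f).mulVec u i = 0 := by
  simp [Matrix.mulVec, dotProduct, incl_apply, fun j => Ne.symm (hi j)]

theorem herm_incl [Fintype F] (hF : Fintype.card F = q ^ 2) (f : Fin k ↪ Fin m) (u v : Fin k → F) :
    hermForm m F q ((incl F f).mulVec u) ((incl F f).mulVec v) = hermForm k F q u v := by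
  classical
  unfold hermForm
  rw [← Finset.sum_subset (Finset.subset_univ (Finset.univ.map f)) (fun i _ hi => by
    rw [incl_mulVec_apply_of_notMem f u (i := i) (fun j hj => hi (by simp [← hj])), zero_mul]),
    Finset.sum_map]
  refine Finset.sum_congr rfl fun j _ => ?_
  rw [incl_mulVec_apply, incl_mulVec_apply]

/-- Conjugate transpose for the field automorphism `x ↦ x ^ q`. -/
def cjT (q : ℕ) {a b : Type*} (M : Matrix a b F) : Matrix b a F := M.transpose.map (fun x => x ^ q)

section

variable [Fintype F]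

theorem cjT_extM (hF : Fintype.card F = q ^ 2) (f : Fin k ↪ Fin m) (M : Matrix (Fin k) (Fin k) F) :
    cjT q (extM f M) = extM f (cjT q M) := by
  have hc : ∀ {a b : ℕ} (X : Matrix (Fin a) (Fin b) F), cjT q X = X.transpose.map (conjHom hF) :=
    fun X => rfl
  have hP : (incl F f).map (conjHom hF) = incl F f := by
    ext i j
    simp only [Matrix.map_apply, incl_apply]
    split <;> simp [zero_pow_q hF]
  rw [hc, hc, extM, extM]
  simp only [Matrix.transpose_add, Matrix.transpose_one, Matrix.transpose_mul, Matrix.transpose_transpose,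
    Matrix.transpose_sub]
  rw [Matrix.map_add _ (map_add _), Matrix.map_mul, Matrix.map_mul, Matrix.map_one _ (map_zero _) (map_one _),
    Matrix.map_sub _ (map_sub _), Matrix.map_one _ (map_zero _) (map_one _), Matrix.transpose_map, hP,
    Matrix.mul_assoc, show (incl F f)ᵀ.map (conjHom hF) = (incl F f)ᵀ by rw [Matrix.transpose_map, hP]]

theorem preserves_iff_cjT (hF : Fintype.card F = q ^ 2) (M : Matrix (Fin m) (Fin m) F) :
    (∀ u v, hermForm m F q (M.mulVec u) (M.mulVec v) = hermForm m F q u v) ↔ cjT q M * M = 1 := by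
  rw [preserves_iff_orthonorm_cols hF]
  refine ⟨fun h => conjTranspose_mul_self hF h, fun h i j => ?_⟩
  have h' := congrFun (congrFun h j) i
  rw [Matrix.mul_apply, Matrix.one_apply] at h'
  simp only [eq_comm (a := j)] at h'
  rw [← h']
  exact Finset.sum_congr rfl fun r _ => by
    simp only [cjT, Matrix.map_apply, Matrix.transpose_apply, cols]; ring

theorem cjT_mul_self (hF : Fintype.card F = q ^ 2) (A : ↥(SU m F q)) :
    cjT q ((A : Matrix.SpecialLinearGroup (Fin m) F) : Matrix (Fin m) (Fin m) F)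
      * ((A : Matrix.SpecialLinearGroup (Fin m) F) : Matrix (Fin m) (Fin m) F) = 1 :=
  (preserves_iff_cjT hF _).1 A.2

theorem extM_preserves (hF : Fintype.card F = q ^ 2) (f : Fin k ↪ Fin m) (A : ↥(SU k F q)) (u v : Fin m → F) :
    hermForm m F q ((extM f ((A : Matrix.SpecialLinearGroup (Fin k) F) : Matrix (Fin k) (Fin k) F)).mulVec u)
      ((extM f ((A : Matrix.SpecialLinearGroup (Fin k) F) : Matrix (Fin k) (Fin k) F)).mulVec v)
      = hermForm m F q u v :=
  (preserves_iff_cjT hF _).2 (by rw [cjT_extM hF, ← extM_mul, cjT_mul_self hF, extM_one]) u v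

/-- The embedding `SU_k →* SU_m` along an injection of coordinates. -/
def emb (hF : Fintype.card F = q ^ 2) (f : Fin k ↪ Fin m) : ↥(SU k F q) →* ↥(SU m F q) where
  toFun A := ⟨⟨extM f (A : Matrix.SpecialLinearGroup (Fin k) F).1, by
      rw [det_extM]; exact (A : Matrix.SpecialLinearGroup (Fin k) F).2⟩,
    mem_SU.2 (extM_preserves hF f A)⟩
  map_one' := Subtype.ext (Subtype.ext (extM_one f))
  map_mul' A B := Subtype.ext (Subtype.ext (extM_mul f _ _))

theorem emb_val (hF : Fintype.card F = q ^ 2) (f : Fin k ↪ Fin m) (A : ↥(SU k F q)) :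
    ((emb hF f A : Matrix.SpecialLinearGroup (Fin m) F) : Matrix (Fin m) (Fin m) F)
      = extM f ((A : Matrix.SpecialLinearGroup (Fin k) F) : Matrix (Fin k) (Fin k) F) := rfl

theorem emb_trans (hF : Fintype.card F = q ^ 2) {n : ℕ} (g : Fin m ↪ Fin n) (f : Fin k ↪ Fin m)
    (A : ↥(SU k F q)) : emb hF g (emb hF f A) = emb hF (f.trans g) A :=
  Subtype.ext (Subtype.ext (extM_trans g f _))

theorem emb_comp (hF : Fintype.card F = q ^ 2) {n : ℕ} (g : Fin m ↪ Fin n) (f : Fin k ↪ Fin m) :
    (emb hF g).comp (emb hF f) = emb hF (f.trans g) :=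
  MonoidHom.ext (emb_trans hF g f)

theorem emb_commute (hF : Fintype.card F = q ^ 2) (f : Fin k ↪ Fin m) (g : Fin l ↪ Fin m)
    (h : ∀ i j, f i ≠ g j) (A : ↥(SU k F q)) (B : ↥(SU l F q)) :
    Commute (emb hF f A) (emb hF g B) :=
  Subtype.ext (Subtype.ext (extM_commute f g h _ _).eq)

theorem sv_emb_incl (hF : Fintype.card F = q ^ 2) (f : Fin k ↪ Fin m) (A : ↥(SU k F q)) (u : Fin k → F) :
    sv (emb hF f A) ((incl F f).mulVec u) = (incl F f).mulVec (sv A u) :=
  extM_mulVec_incl f _ u

theorem sv_emb_fix (hF : Fintype.card F = q ^ 2) (f : Fin k ↪ Fin m) (A : ↥(SU k F q)) {u : Fin m → F}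
    (hu : ∀ j, u (f j) = 0) : sv (emb hF f A) u = u :=
  extM_mulVec_fix f _ hu

theorem sv_emb_single_of_notMem (hF : Fintype.card F = q ^ 2) (f : Fin k ↪ Fin m) (A : ↥(SU k F q))
    {i : Fin m} (hi : ∀ j, f j ≠ i) : sv (emb hF f A) (Pi.single i 1) = Pi.single i 1 :=
  sv_emb_fix hF f A fun j => Pi.single_eq_of_ne (hi j) 1

theorem emb_injective (hF : Fintype.card F = q ^ 2) (f : Fin k ↪ Fin m) :
    Function.Injective (emb (F := F) hF f) := by
  intro A B h
  refine sv_ext fun u => ?_
  have h' := congrArg (fun x => sv x ((incl F f).mulVec u)) h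
  simp only [sv_emb_incl] at h'
  funext j
  simpa [incl_mulVec_apply] using congrFun h' (f j)

/-- The image of `emb f` consists of the elements fixing the standard vectors outside the range of `f`. -/
theorem exists_emb_eq (hF : Fintype.card F = q ^ 2) (f : Fin k ↪ Fin m) (g : ↥(SU m F q))
    (hg : ∀ i, (∀ j, f j ≠ i) → sv g (Pi.single i 1) = Pi.single i 1) :
    ∃ A : ↥(SU k F q), emb hF f A = g := by
  set M := ((g : Matrix.SpecialLinearGroup (Fin m) F) : Matrix (Fin m) (Fin m) F) with hM
  have hq0 : q ≠ 0 := by have := two_le_q hF; omega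
  have hcol : ∀ i, (∀ j, f j ≠ i) → ∀ r, M r i = if r = i then 1 else 0 := by
    intro i hi r
    have := congrFun (hg i hi) r
    rw [sv, ← hM, Matrix.mulVec_single] at this
    simpa [Pi.single_apply] using this
  have hrow : ∀ i, (∀ j, f j ≠ i) → ∀ r, r ≠ i → M i r = 0 := by
    intro i hi r hr
    have h1 := sv_herm g (Pi.single r 1) (Pi.single i 1)
    rw [hg i hi, herm_single_right _ _ hq0, herm_single_single hF, if_neg hr, sv, ← hM,
      Matrix.mulVec_single] at h1
    simpa using h1
  have key : extM f (M.submatrix f f) = M := by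
    ext a b
    have hexp : ∀ a b, (incl F f * (M.submatrix f f - 1) * (incl F f)ᵀ : Matrix (Fin m) (Fin m) F) a b
        = ∑ j, (∑ i, (if a = f i then 1 else 0) * (M.submatrix f f - 1) i j) * (if b = f j then 1 else 0) := by
      intro a b
      simp only [Matrix.mul_apply, Matrix.transpose_apply, incl_apply]
    rw [extM, Matrix.add_apply, hexp]
    by_cases hb : ∀ j, f j ≠ b
    · rw [Finset.sum_eq_zero (fun j _ => by rw [if_neg (fun h => hb j h.symm), mul_zero]), add_zero,
        Matrix.one_apply, hcol b hb a]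
    push Not at hb
    obtain ⟨j, rfl⟩ := hb
    rw [Finset.sum_eq_single j (fun x _ hx => by
      rw [if_neg (fun h => hx (f.injective h).symm), mul_zero]) (fun h => absurd (Finset.mem_univ j) h),
      if_pos rfl, mul_one]
    by_cases ha : ∀ i, f i ≠ a
    · rw [Finset.sum_eq_zero (fun i _ => by rw [if_neg (fun h => ha i h.symm), zero_mul]), add_zero,
        Matrix.one_apply, if_neg (fun h => ha j h.symm), hrow a ha _ (ha j)]
    push Not at ha
    obtain ⟨i, rfl⟩ := ha
    rw [Finset.sum_eq_single i (fun x _ hx => by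
      rw [if_neg (fun h => hx (f.injective h).symm), zero_mul]) (fun h => absurd (Finset.mem_univ i) h),
      if_pos rfl, one_mul, Matrix.sub_apply, Matrix.submatrix_apply, Matrix.one_apply, Matrix.one_apply]
    simp only [f.injective.eq_iff]
    ring
  have hdet : (M.submatrix f f).det = 1 := by
    rw [← det_extM f, key]; exact (g : Matrix.SpecialLinearGroup (Fin m) F).2
  have hpres : ∀ u v, hermForm k F q ((M.submatrix f f).mulVec u) ((M.submatrix f f).mulVec v)
      = hermForm k F q u v := by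
    intro u v
    rw [← herm_incl hF f, ← extM_mulVec_incl, ← extM_mulVec_incl, key]
    exact (sv_herm g _ _).trans (herm_incl hF f u v)
  exact ⟨⟨⟨_, hdet⟩, mem_SU.2 hpres⟩, Subtype.ext (Subtype.ext key)⟩

end

/-- The window of coordinates `a, …, a + k - 1`. -/
def win (a : ℕ) (h : a + k ≤ m) : Fin k ↪ Fin m :=
  ⟨fun i => ⟨a + i, by omega⟩, fun i j hij => Fin.ext (by simpa using hij)⟩

@[simp] theorem win_apply_val (a : ℕ) (h : a + k ≤ m) (i : Fin k) : ((win a h i : Fin m) : ℕ) = a + i := rfl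

theorem win_trans {n : ℕ} (b : ℕ) (hb : b + m ≤ n) (a : ℕ) (ha : a + k ≤ m) :
    (win a ha).trans (win b hb) = win (b + a) (by omega) := by
  ext i
  simp [add_assoc]

theorem win_zero_self (h : 0 + m ≤ m) : win 0 h = Function.Embedding.refl (Fin m) := by
  ext i
  simp

@[simp] theorem emb_refl [Fintype F] (hF : Fintype.card F = q ^ 2) (A : ↥(SU m F q)) :
    emb hF (Function.Embedding.refl (Fin m)) A = A := by
  refine sv_ext fun u => ?_
  have h : (incl F (Function.Embedding.refl (Fin m))) = 1 := by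
    ext i j
    simp [incl_apply, Matrix.one_apply]
  have h' := sv_emb_incl hF (Function.Embedding.refl (Fin m)) A u
  simpa [h] using h'

end CfsgLib.Phan
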