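import Mathlib
import Cfsg.Agent.Phan.Embed
import Cfsg.Agent.Classical.Unitary.Parabolic

/-!
# Unit vectors orthogonal to prescribed vectors

A totally isotropic subspace orthogonal to a given orthonormal pair has dimension at most `(m - 2) / 2`; this gives the
unit vectors needed to contract cycles of the orthogonality graph of unit vectors.
-/

set_option autoImplicit false

namespace CfsgLib.Phan

open Cfsg CfsgLib.Unitary

variable {F : Type*} [Field F] [Fintype F] {m q : ℕ}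

local notation "⟪" u ", " v "⟫" => hermForm m F q u v

theorem exists_unit_of_not_isotropic (hF : Fintype.card F = q ^ 2) {T : Submodule F (Fin m → F)}
    (h : ∀ w ∈ T, ⟪w, w⟫ ≠ 1) : T ≤ perp q T := by
  intro u hu v hv
  by_contra huv
  obtain ⟨w, hw, hw1⟩ := exists_norm_one_mem hF ⟨u, hu, v, hv, huv⟩
  exact h w hw hw1

/-- A subspace orthogonal to an orthonormal family of size `k` and of large dimension contains a unit vector. -/
theorem exists_unit_mem_perp (hF : Fintype.card F = q ^ 2) {k : ℕ} {f : Fin k → Fin m → F} (hf : Orthonorm q f)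
    {T : Submodule F (Fin m → F)} (hT : ∀ t ∈ T, ∀ i, ⟪t, f i⟫ = 0)
    (hdim : m < 2 * Module.finrank F T + k) : ∃ w ∈ T, ⟪w, w⟫ = 1 := by
  by_contra h
  push Not at h
  have hTI := exists_unit_of_not_isotropic hF h
  set P := Submodule.span F (Set.range f)
  have hP : P ≤ perp q T := by
    rw [Submodule.span_le]
    rintro _ ⟨i, rfl⟩ v hv
    exact herm_eq_zero_comm hF (hT v hv i)
  have hdis : T ⊓ P = ⊥ := by
    rw [Submodule.eq_bot_iff]
    rintro x ⟨hxT, hxP⟩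
    obtain ⟨c, rfl⟩ := (Submodule.mem_span_range_iff_exists_fun F).1 hxP
    refine Finset.sum_eq_zero fun j _ => ?_
    have h0 := hT _ hxT j
    rw [herm_sum_left, Finset.sum_eq_single j (fun i _ hij => by rw [herm_smul_left, hf, if_neg hij, mul_zero])
      (fun hj => absurd (Finset.mem_univ j) hj), herm_smul_left, hf, if_pos rfl, mul_one] at h0
    rw [h0, zero_smul]
  have h1 := Submodule.finrank_sup_add_finrank_inf_eq T P
  rw [hdis, finrank_bot, finrank_span_eq_card (hf.linearIndependent hF), Fintype.card_fin] at h1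
  have h2 := Submodule.finrank_mono (sup_le hTI hP)
  have h3 := finrank_perp_add hF T
  omega

theorem orthonorm_one {u : Fin m → F} (hu : ⟪u, u⟫ = 1) : Orthonorm q ![u] := by
  intro i j
  fin_cases i; fin_cases j
  simpa using hu

theorem orthonorm_two (hF : Fintype.card F = q ^ 2) {u v : Fin m → F} (hu : ⟪u, u⟫ = 1) (hv : ⟪v, v⟫ = 1)
    (huv : ⟪u, v⟫ = 0) : Orthonorm q ![u, v] := by
  intro i j
  fin_cases i <;> fin_cases j <;> simp [hu, hv, huv, herm_eq_zero_comm hF huv]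

theorem orthonorm_three (hF : Fintype.card F = q ^ 2) {u v w : Fin m → F} (hu : ⟪u, u⟫ = 1) (hv : ⟪v, v⟫ = 1)
    (hw : ⟪w, w⟫ = 1) (huv : ⟪u, v⟫ = 0) (huw : ⟪u, w⟫ = 0) (hvw : ⟪v, w⟫ = 0) : Orthonorm q ![u, v, w] := by
  intro i j
  fin_cases i <;> fin_cases j <;>
    simp [hu, hv, hw, huv, huw, hvw, herm_eq_zero_comm hF huv, herm_eq_zero_comm hF huw, herm_eq_zero_comm hF hvw]

/-- The vectors orthogonal to each member of a family. -/
def perpFam (q : ℕ) {s : ℕ} (v : Fin s → Fin m → F) : Submodule F (Fin m → F) :=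
  perp q (Submodule.span F (Set.range v))

theorem mem_perpFam (hF : Fintype.card F = q ^ 2) {s : ℕ} {v : Fin s → Fin m → F} {x : Fin m → F} :
    x ∈ perpFam q v ↔ ∀ i, ⟪x, v i⟫ = 0 := by
  refine ⟨fun h i => h _ (Submodule.subset_span ⟨i, rfl⟩), fun h w hw => ?_⟩
  induction hw using Submodule.span_induction with
  | mem y hy => obtain ⟨i, rfl⟩ := hy; exact h i
  | zero => exact herm_zero_right hF x
  | add a b _ _ ha hb => rw [herm_add_right hF, ha, hb, add_zero]
  | smul c a _ ha => rw [herm_smul_right, ha, mul_zero]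

theorem le_finrank_perpFam (hF : Fintype.card F = q ^ 2) {s : ℕ} (v : Fin s → Fin m → F) :
    m ≤ Module.finrank F (perpFam q v) + s := by
  have h := finrank_perp_add hF (Submodule.span F (Set.range v))
  have h2 := finrank_range_le_card (R := F) v
  rw [Set.finrank] at h2
  rw [Fintype.card_fin] at h2
  unfold perpFam
  omega

/-- A unit vector orthogonal to two given vectors, one of them a unit vector (`m ≥ 4`). -/
theorem exists_unit_perp_two (hF : Fintype.card F = q ^ 2) (hm : 4 ≤ m) {p : Fin m → F} (hp : ⟪p, p⟫ = 1)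
    (r : Fin m → F) : ∃ w, ⟪w, w⟫ = 1 ∧ ⟪w, p⟫ = 0 ∧ ⟪w, r⟫ = 0 := by
  have h := le_finrank_perpFam hF ![p, r]
  obtain ⟨w, hw, hw1⟩ := exists_unit_mem_perp hF (orthonorm_one hp) (T := perpFam q ![p, r])
    (fun t ht i => by
      have h := (mem_perpFam hF).1 ht 0
      fin_cases i; simpa using h) (by omega)
  exact ⟨w, hw1, by simpa using (mem_perpFam hF).1 hw 0, by simpa using (mem_perpFam hF).1 hw 1⟩

/-- A unit vector orthogonal to three given vectors, two of them orthonormal (`m ≥ 5`). -/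
theorem exists_unit_perp_three (hF : Fintype.card F = q ^ 2) (hm : 5 ≤ m) {p a : Fin m → F} (hp : ⟪p, p⟫ = 1)
    (ha : ⟪a, a⟫ = 1) (hpa : ⟪p, a⟫ = 0) (x : Fin m → F) :
    ∃ w, ⟪w, w⟫ = 1 ∧ ⟪w, p⟫ = 0 ∧ ⟪w, a⟫ = 0 ∧ ⟪w, x⟫ = 0 := by
  have h := le_finrank_perpFam hF ![p, a, x]
  obtain ⟨w, hw, hw1⟩ := exists_unit_mem_perp hF (orthonorm_two hF hp ha hpa) (T := perpFam q ![p, a, x])
    (fun t ht i => by
      have h0 := (mem_perpFam hF).1 ht 0
      have h1 := (mem_perpFam hF).1 ht 1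
      fin_cases i
      · simpa using h0
      · simpa using h1) (by omega)
  exact ⟨w, hw1, by simpa using (mem_perpFam hF).1 hw 0, by simpa using (mem_perpFam hF).1 hw 1,
    by simpa using (mem_perpFam hF).1 hw 2⟩

/-- The pair `p, r` spans a non-degenerate subspace. -/
def NdPair (q : ℕ) (p r : Fin m → F) : Prop :=
  r = hermForm m F q r p • p ∨ hermForm m F q r p ^ (q + 1) ≠ 1

/-- The component of `r` orthogonal to the unit vector `p`. -/
def proj (q : ℕ) (p r : Fin m → F) : Fin m → F := r - hermForm m F q r p • p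

theorem proj_perp {p r : Fin m → F} (hp : ⟪p, p⟫ = 1) : ⟪proj q p r, p⟫ = 0 := by
  rw [proj, herm_sub_left, herm_smul_left, hp, mul_one, sub_self]

theorem proj_orth {p r x : Fin m → F} (hr : ⟪r, x⟫ = 0) (hpx : ⟪p, x⟫ = 0) : ⟪proj q p r, x⟫ = 0 := by
  rw [proj, herm_sub_left, herm_smul_left, hr, hpx, mul_zero, sub_zero]

theorem herm_proj_right (hF : Fintype.card F = q ^ 2) (x p r : Fin m → F) :
    ⟪x, proj q p r⟫ = ⟪x, r⟫ - ⟪r, p⟫ ^ q * ⟪x, p⟫ := by
  rw [proj, herm_sub_right hF, herm_smul_right]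

theorem herm_proj_self (hF : Fintype.card F = q ^ 2) {p r : Fin m → F} (hp : ⟪p, p⟫ = 1) (hr : ⟪r, r⟫ = 1) :
    ⟪proj q p r, proj q p r⟫ = 1 - ⟪r, p⟫ ^ (q + 1) := by
  rw [herm_proj_right hF, proj_perp hp, mul_zero, sub_zero, proj, herm_sub_left, herm_smul_left, hr,
    herm_conj hF r p]
  ring

theorem eq_add_proj (q : ℕ) (p r : Fin m → F) : r = hermForm m F q r p • p + proj q p r := by
  rw [proj, add_sub_cancel]

theorem herm_perp_of_decomp (hF : Fintype.card F = q ^ 2) {w p r : Fin m → F} (hwp : ⟪w, p⟫ = 0)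
    (hwz : ⟪w, proj q p r⟫ = 0) : ⟪w, r⟫ = 0 := by
  conv_lhs => rw [eq_add_proj q p r]
  rw [herm_add_right hF, herm_smul_right, hwp, hwz, mul_zero, add_zero]

/-- Two non-degenerate pairs spanning orthogonal planes leave room for a unit vector. -/
theorem exists_unit_of_ndPairs (hF : Fintype.card F = q ^ 2) (hm : 5 ≤ m) {p r a b : Fin m → F}
    (hp : ⟪p, p⟫ = 1) (hr : ⟪r, r⟫ = 1) (ha : ⟪a, a⟫ = 1) (hb : ⟪b, b⟫ = 1) (hap : ⟪a, p⟫ = 0)
    (har : ⟪a, r⟫ = 0) (hbp : ⟪b, p⟫ = 0) (hbr : ⟪b, r⟫ = 0) (hL : NdPair q p r) (hM : NdPair q a b) :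
    ∃ w, ⟪w, w⟫ = 1 ∧ ⟪w, p⟫ = 0 ∧ ⟪w, r⟫ = 0 ∧ ⟪w, a⟫ = 0 ∧ ⟪w, b⟫ = 0 := by
  have hpa := herm_eq_zero_comm hF hap
  by_cases hz : proj q p r = 0
  · obtain ⟨w, h1, h2, h3, h4⟩ := exists_unit_perp_three hF hm hp ha hpa b
    exact ⟨w, h1, h2, herm_perp_of_decomp hF h2 (by rw [hz, herm_zero_right hF]), h3, h4⟩
  by_cases hz' : proj q a b = 0
  · obtain ⟨w, h1, h2, h3, h4⟩ := exists_unit_perp_three hF hm hp ha hpa r
    exact ⟨w, h1, h2, h4, h3, herm_perp_of_decomp hF h3 (by rw [hz', herm_zero_right hF])⟩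
  have hn : ∀ {u v : Fin m → F}, ⟪u, u⟫ = 1 → ⟪v, v⟫ = 1 → NdPair q u v → proj q u v ≠ 0 →
      ∃ c : F, c ≠ 0 ∧ ⟪c • proj q u v, c • proj q u v⟫ = 1 := by
    intro u v hu hv hnd hne
    have hN : ⟪proj q u v, proj q u v⟫ ≠ 0 := by
      rw [herm_proj_self hF hu hv, sub_ne_zero]
      rcases hnd with h | h
      · exact absurd (sub_eq_zero.2 h) hne
      · exact fun h' => h h'.symm
    obtain ⟨c, hc⟩ := exists_norm_eq hF (a := ⟪proj q u v, proj q u v⟫⁻¹)
      (by rw [inv_pow_q, herm_self_fixed hF])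
    refine ⟨c, fun h0 => ?_, by rw [herm_self_smul, hc, inv_mul_cancel₀ hN]⟩
    rw [h0, zero_pow (Nat.succ_ne_zero q)] at hc
    exact inv_ne_zero hN hc.symm
  obtain ⟨c, hc0, hc⟩ := hn hp hr hL hz
  obtain ⟨d, hd0, hd⟩ := hn ha hb hM hz'
  set z := c • proj q p r with hzd
  set z' := d • proj q a b with hz'd
  have hra : ⟪r, a⟫ = 0 := herm_eq_zero_comm hF har
  have hzp : ⟪z, p⟫ = 0 := by rw [hzd, herm_smul_left, proj_perp hp, mul_zero]
  have hza : ⟪z, a⟫ = 0 := by rw [hzd, herm_smul_left, proj_orth hra hpa, mul_zero]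
  have hz'a : ⟪z', a⟫ = 0 := by rw [hz'd, herm_smul_left, proj_perp ha, mul_zero]
  have hz'p : ⟪z', p⟫ = 0 := by rw [hz'd, herm_smul_left, proj_orth hbp hap, mul_zero]
  have hz'z : ⟪z', z⟫ = 0 := by
    rw [hz'd, hzd, herm_smul_left, herm_smul_right]
    have h1 : ⟪proj q a b, r⟫ = 0 := proj_orth hbr har
    rw [show ⟪proj q a b, proj q p r⟫ = 0 by
      rw [herm_proj_right hF, h1, proj_orth hbp hap, mul_zero, sub_zero]]
    ring
  have hf : Orthonorm q ![p, a, z, z'] := by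
    intro i j
    fin_cases i <;> fin_cases j <;>
      simp [hp, ha, hc, hd, hpa, hap, hzp, hza, hz'a, hz'p, hz'z, herm_eq_zero_comm hF hzp,
        herm_eq_zero_comm hF hza, herm_eq_zero_comm hF hz'a, herm_eq_zero_comm hF hz'p, herm_eq_zero_comm hF hz'z]
  obtain ⟨w, -, hw1, hwf⟩ := exists_orthonorm_next hF (isNondeg_top hF) hf (fun _ => trivial) (by simp; omega)
  have h2 : ⟪w, p⟫ = 0 := by simpa using hwf 0
  have h3 : ⟪w, a⟫ = 0 := by simpa using hwf 1
  have h4 : ⟪w, z⟫ = 0 := by simpa using hwf 2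
  have h5 : ⟪w, z'⟫ = 0 := by simpa using hwf 3
  rw [hzd, herm_smul_right, mul_eq_zero] at h4
  rw [hz'd, herm_smul_right, mul_eq_zero] at h5
  have hq0 : ∀ {x : F}, x ≠ 0 → x ^ q ≠ 0 := fun h => pow_ne_zero _ h
  exact ⟨w, hw1, h2, herm_perp_of_decomp hF h2 (h4.resolve_left (hq0 hc0)), h3,
    herm_perp_of_decomp hF h3 (h5.resolve_left (hq0 hd0))⟩

/-- For `q ≥ 3`, a subspace with a unit vector and an isotropic vector `z` has a unit vector whose product with `z`
has norm different from `1`. -/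
theorem exists_unit_avoid (hF : Fintype.card F = q ^ 2) (hq : 3 ≤ q) {P : Submodule F (Fin m → F)}
    {z u : Fin m → F} (hz : z ∈ P) (hzz : ⟪z, z⟫ = 0) (hu : u ∈ P) (hu1 : ⟪u, u⟫ = 1) :
    ∃ c ∈ P, ⟪c, c⟫ = 1 ∧ ⟪c, z⟫ ^ (q + 1) ≠ 1 := by
  by_cases hd : ⟪u, z⟫ = 0
  · exact ⟨u, hu, hu1, by rw [hd, zero_pow (Nat.succ_ne_zero q)]; exact zero_ne_one⟩
  set d := ⟪u, z⟫ with hdd
  obtain ⟨a, ha, ha0, had⟩ : ∃ a : F, a ^ q = a ∧ a ≠ 0 ∧ a * d ^ (q + 1) ≠ 1 := by
    classical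
    have hcard : 3 ≤ (Finset.univ.filter fun x : F => x ^ q = x).card := by
      rw [← Fintype.card_subtype, ← Nat.card_eq_fintype_card, card_fixed hF]; exact hq
    obtain ⟨a, ha⟩ : ((Finset.univ.filter fun x : F => x ^ q = x) \ {0, (d ^ (q + 1))⁻¹}).Nonempty := by
      rw [← Finset.card_pos]
      have h1 := Finset.le_card_sdiff {0, (d ^ (q + 1))⁻¹} (Finset.univ.filter fun x : F => x ^ q = x)
      have h2 := Finset.card_le_two (a := (0 : F)) (b := (d ^ (q + 1))⁻¹)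
      omega
    simp only [Finset.mem_sdiff, Finset.mem_filter, Finset.mem_univ, true_and, Finset.mem_insert,
      Finset.mem_singleton, not_or] at ha
    exact ⟨a, ha.1, ha.2.1, fun h => ha.2.2 (eq_inv_of_mul_eq_one_left h)⟩
  obtain ⟨x, hx⟩ := exists_norm_eq hF ha
  have hx0 : x ≠ 0 := fun h => ha0 (by rw [← hx, h, zero_pow (Nat.succ_ne_zero q)])
  obtain ⟨w, hw⟩ := exists_trace_eq hF (a := 1 - a) (by rw [sub_pow_q hF, one_pow, ha])
  set y := (w * (x * d)⁻¹) ^ q with hy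
  have hyq : y ^ q = w * (x * d)⁻¹ := pow_q_q hF _
  refine ⟨x • u + y • z, P.add_mem (P.smul_mem _ hu) (P.smul_mem _ hz), ?_, ?_⟩
  · have hzu : ⟪z, u⟫ = d ^ q := by rw [hdd, ← herm_conj hF u z]
    rw [herm_add_left, herm_add_right hF, herm_add_right hF, herm_smul_left, herm_smul_left, herm_smul_left,
      herm_smul_left, herm_smul_right, herm_smul_right, herm_smul_right, herm_smul_right, hu1, hzz, hzu, ← hdd]
    have h1 : x * (y ^ q * d) = w := by rw [hyq]; field_simp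
    have h2 : y * (x ^ q * d ^ q) = w ^ q := by
      rw [← h1, mul_pow, mul_pow, pow_q_q hF]; ring
    linear_combination h1 + h2 + hx + hw
  · rw [herm_add_left, herm_smul_left, herm_smul_left, hzz, ← hdd, mul_zero, add_zero, mul_pow, hx]
    exact had

end CfsgLib.Phan
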