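import Mathlib
import Cfsg.Agent.Phan.Geometry

/-!
# Gluing homomorphisms on two point stabilisers of `SU_m(q)`, `m ≥ 5`

Let `A`, `B` be homomorphisms on the stabilisers of the orthogonal unit vectors `eL`, `e0` agreeing on the
intersection and satisfying the edge condition for an element `β` moving `eL` to an orthogonal vector. The cosets of the
graph of `A` in the subgroup of `SU_m × G` generated by both graphs form a covering of the orthogonality graph of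
unit vectors in which every cycle having a common orthogonal unit vector is closed; such cycles generate all cycles.
-/

set_option autoImplicit false

namespace CfsgLib.Phan

open Cfsg CfsgLib.Unitary

variable {F : Type*} [Field F] [Fintype F] {m q : ℕ}

local notation "⟪" u ", " v "⟫" => hermForm m F q u v

/-- The stabiliser of a vector. -/
def stab (v : Fin m → F) : Subgroup ↥(SU m F q) where
  carrier := {g | sv g v = v}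
  one_mem' := sv_one v
  mul_mem' {a b} ha hb := by
    simp only [Set.mem_setOf_eq] at ha hb ⊢
    rw [sv_mul, hb, ha]
  inv_mem' {a} ha := by
    simp only [Set.mem_setOf_eq] at ha ⊢
    conv_lhs => rw [← ha]
    rw [sv_inv_sv]

omit [Fintype F] in
theorem mem_stab {v : Fin m → F} {g : ↥(SU m F q)} : g ∈ stab v ↔ sv g v = v := Iff.rfl

omit [Fintype F] in
theorem sv_inv_eq {g : ↥(SU m F q)} {u v : Fin m → F} (h : sv g u = v) : sv g⁻¹ v = u := by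
  rw [← h, sv_inv_sv]

theorem expand_orthonorm (hF : Fintype.card F = q ^ 2) {f : Fin m → Fin m → F} (hf : Orthonorm q f)
    (v : Fin m → F) : v = ∑ i, ⟪v, f i⟫ • f i := by
  have hspan : Submodule.span F (Set.range f) = ⊤ :=
    (hf.linearIndependent hF).span_eq_top_of_card_eq_finrank' (by simp)
  refine sub_eq_zero.1 (herm_nondeg hF _ fun w => ?_)
  exact sub_proj_mem_perp hF hf hspan v w trivial

/-- The data glued by the covering argument. -/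
structure Amalgam (m : ℕ) (F : Type*) [Field F] (q : ℕ) (G : Type*) [Group G] where
  /-- first vector -/
  e0 : Fin m → F
  /-- last vector -/
  eL : Fin m → F
  h0 : hermForm m F q e0 e0 = 1
  hL : hermForm m F q eL eL = 1
  h0L : hermForm m F q e0 eL = 0
  /-- homomorphism on the stabiliser of `eL` -/
  A : ↥(stab (q := q) eL) →* G
  /-- homomorphism on the stabiliser of `e0` -/
  B : ↥(stab (q := q) e0) →* G
  agree : ∀ (c : ↥(SU m F q)) (h1 : c ∈ stab eL) (h2 : c ∈ stab e0), A ⟨c, h1⟩ = B ⟨c, h2⟩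
  /-- an element moving `eL` to an orthogonal vector -/
  β : ↥(SU m F q)
  hβ : β ∈ stab e0
  hβL : hermForm m F q (sv β eL) eL = 0
  cond : ∀ (c : ↥(SU m F q)) (h1 : c ∈ stab eL), sv c (sv β eL) = sv β eL →
    ∀ h2 : β⁻¹ * c * β ∈ stab eL, A ⟨c, h1⟩ * B ⟨β, hβ⟩ = B ⟨β, hβ⟩ * A ⟨β⁻¹ * c * β, h2⟩
  extra : q = 2 → m = 6 → ∃ f : Fin 6 → Fin m → F, Orthonorm q f ∧ f 0 = e0 ∧ f 5 = eL ∧
    ∀ (x y : ↥(SU m F q)) (hx : x ∈ stab eL) (hy : y ∈ stab e0),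
      sv x (f 3) = f 3 → sv x (f 4) = f 4 → sv y (f 1) = f 1 → sv y (f 2) = f 2 →
        Commute (A ⟨x, hx⟩) (B ⟨y, hy⟩)

namespace Amalgam

variable {G : Type*} [Group G] (D : Amalgam m F q G)

/-- The graph of `A`. -/
def gA : Subgroup (↥(SU m F q) × G) := ((stab (q := q) D.eL).subtype.prod D.A).range

/-- The graph of `B`. -/
def gB : Subgroup (↥(SU m F q) × G) := ((stab (q := q) D.e0).subtype.prod D.B).range

/-- The graph of `β`. -/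
def bh : ↥(SU m F q) × G := (D.β, D.B ⟨D.β, D.hβ⟩)

/-- The vertex of an element. -/
def P (γ : ↥(SU m F q) × G) : Fin m → F := sv γ.1 D.eL

/-- The same coset of the graph of `A`. -/
def Sim (γ δ : ↥(SU m F q) × G) : Prop := γ⁻¹ * δ ∈ D.gA

/-- Adjacency of cosets. -/
def Adj (γ δ : ↥(SU m F q) × G) : Prop := ∃ a ∈ D.gA, ∃ x ∈ D.gA, δ = γ * a * D.bh * x

omit [Fintype F] in
theorem mem_gA_of {c : ↥(SU m F q)} (h : c ∈ stab D.eL) : (c, D.A ⟨c, h⟩) ∈ D.gA := ⟨⟨c, h⟩, rfl⟩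

omit [Fintype F] in
theorem mem_gB_of {c : ↥(SU m F q)} (h : c ∈ stab D.e0) : (c, D.B ⟨c, h⟩) ∈ D.gB := ⟨⟨c, h⟩, rfl⟩

omit [Fintype F] in
theorem bh_mem : D.bh ∈ D.gB := D.mem_gB_of D.hβ

omit [Fintype F] in
theorem gA_fst {γ : ↥(SU m F q) × G} (h : γ ∈ D.gA) : γ.1 ∈ stab D.eL := by
  obtain ⟨x, rfl⟩ := h; exact x.2

omit [Fintype F] in
theorem gB_fst {γ : ↥(SU m F q) × G} (h : γ ∈ D.gB) : γ.1 ∈ stab D.e0 := by
  obtain ⟨x, rfl⟩ := h; exact x.2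

omit [Fintype F] in
theorem gB_inter {γ : ↥(SU m F q) × G} (h : γ ∈ D.gB) (hL : γ.1 ∈ stab D.eL) : γ ∈ D.gA := by
  obtain ⟨x, rfl⟩ := h
  exact ⟨⟨x.1, hL⟩, Prod.ext rfl (D.agree x.1 hL x.2)⟩

omit [Fintype F] in
theorem gA_eq {γ δ : ↥(SU m F q) × G} (hγ : γ ∈ D.gA) (hδ : δ ∈ D.gA) (h : γ.1 = δ.1) : γ = δ := by
  obtain ⟨x, rfl⟩ := hγ
  obtain ⟨y, rfl⟩ := hδ
  rw [show x = y from Subtype.ext h]

omit [Fintype F] in
theorem sim_refl (γ : ↥(SU m F q) × G) : D.Sim γ γ := by simp [Sim]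

omit [Fintype F] in
theorem Sim.symm {γ δ : ↥(SU m F q) × G} (h : D.Sim γ δ) : D.Sim δ γ := by
  simpa [Sim] using D.gA.inv_mem h

omit [Fintype F] in
theorem Sim.trans {γ δ ε : ↥(SU m F q) × G} (h : D.Sim γ δ) (h' : D.Sim δ ε) : D.Sim γ ε := by
  have := D.gA.mul_mem h h'
  simpa [Sim, mul_assoc] using this

omit [Fintype F] in
theorem Sim.P_eq {γ δ : ↥(SU m F q) × G} (h : D.Sim γ δ) : D.P γ = D.P δ := by
  have h1 := D.gA_fst h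
  simp only [Prod.fst_mul, Prod.fst_inv, mem_stab] at h1
  rw [P, P]
  conv_lhs => rw [← h1, sv_mul, sv_sv_inv]

omit [Fintype F] in
theorem Sim.mul_left {γ δ : ↥(SU m F q) × G} (h : D.Sim γ δ) (g : ↥(SU m F q) × G) :
    D.Sim (g * γ) (g * δ) := by simpa [Sim, mul_assoc] using h

omit [Fintype F] in
theorem Adj.congr_left {γ γ' δ : ↥(SU m F q) × G} (h : D.Adj γ δ) (hs : D.Sim γ γ') : D.Adj γ' δ := by
  obtain ⟨a, ha, x, hx, rfl⟩ := h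
  exact ⟨(γ'⁻¹ * γ) * a, D.gA.mul_mem (Sim.symm D hs) ha, x, hx, by simp [mul_assoc]⟩

omit [Fintype F] in
theorem Adj.congr_right {γ δ δ' : ↥(SU m F q) × G} (h : D.Adj γ δ) (hs : D.Sim δ δ') : D.Adj γ δ' := by
  obtain ⟨a, ha, x, hx, rfl⟩ := h
  exact ⟨a, ha, x * ((γ * a * D.bh * x)⁻¹ * δ'), D.gA.mul_mem hx hs, by simp [mul_assoc]⟩

omit [Fintype F] in
theorem Adj.mul_left {γ δ : ↥(SU m F q) × G} (h : D.Adj γ δ) (g : ↥(SU m F q) × G) :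
    D.Adj (g * γ) (g * δ) := by
  obtain ⟨a, ha, x, hx, rfl⟩ := h
  exact ⟨a, ha, x, hx, by simp [mul_assoc]⟩

omit [Fintype F] in
theorem P_norm (γ : ↥(SU m F q) × G) : ⟪D.P γ, D.P γ⟫ = 1 := by rw [P, sv_herm, D.hL]

omit [Fintype F] in
theorem Adj.P_eq {γ δ : ↥(SU m F q) × G} {a x : ↥(SU m F q) × G} (hx : x ∈ D.gA)
    (h : δ = γ * a * D.bh * x) : D.P δ = sv γ.1 (sv a.1 (sv D.β D.eL)) := by
  subst h
  simp only [P, Prod.fst_mul, sv_mul, mem_stab.1 (D.gA_fst hx)]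
  rfl

theorem Adj.orth (hF : Fintype.card F = q ^ 2) {γ δ : ↥(SU m F q) × G} (h : D.Adj γ δ) :
    ⟪D.P γ, D.P δ⟫ = 0 := by
  obtain ⟨a, ha, x, hx, hd⟩ := h
  rw [Adj.P_eq D hx hd, P, sv_herm]
  conv_lhs => arg 4; rw [← mem_stab.1 (D.gA_fst ha)]
  rw [sv_herm]
  exact herm_eq_zero_comm hF D.hβL

omit [Fintype F] in
/-- Two neighbours of a coset over the same vertex coincide. -/
theorem star {γ δ δ' : ↥(SU m F q) × G} (h : D.Adj γ δ) (h' : D.Adj γ δ') (he : D.P δ = D.P δ') :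
    D.Sim δ δ' := by
  obtain ⟨a, ha, x, hx, hd⟩ := h
  obtain ⟨a', ha', x', hx', hd'⟩ := h'
  have hc : a⁻¹ * a' ∈ D.gA := D.gA.mul_mem (D.gA.inv_mem ha) ha'
  set c := a⁻¹ * a' with hcd
  rw [Adj.P_eq D hx hd, Adj.P_eq D hx' hd'] at he
  have he2 : sv a.1 (sv D.β D.eL) = sv a'.1 (sv D.β D.eL) := by
    have := congrArg (sv γ.1⁻¹) he
    simpa [sv_inv_sv] using this
  have hc1 : sv c.1 (sv D.β D.eL) = sv D.β D.eL := by
    rw [hcd, Prod.fst_mul, sv_mul, Prod.fst_inv, ← he2, sv_inv_sv]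
  have hcL := D.gA_fst hc
  have hconjL : D.β⁻¹ * c.1 * D.β ∈ stab D.eL := by
    rw [mem_stab, sv_mul, sv_mul, hc1, sv_inv_sv]
  have hcval : c = (c.1, D.A ⟨c.1, hcL⟩) := D.gA_eq hc (D.mem_gA_of hcL) rfl
  have key : c * D.bh = D.bh * (D.β⁻¹ * c.1 * D.β, D.A ⟨_, hconjL⟩) := by
    refine Prod.ext (by simp [bh, mul_assoc]) ?_
    rw [Prod.snd_mul, congrArg Prod.snd hcval]
    exact D.cond c.1 hcL hc1 hconjL
  have he' : δ' = δ * (x⁻¹ * (D.β⁻¹ * c.1 * D.β, D.A ⟨_, hconjL⟩) * x') := by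
    rw [hd, hd', show γ * a' * D.bh * x' = γ * a * (c * D.bh) * x' by rw [hcd]; simp [mul_assoc], key]
    simp [mul_assoc]
  show δ⁻¹ * δ' ∈ D.gA
  rw [he', inv_mul_cancel_left]
  exact D.gA.mul_mem (D.gA.mul_mem (D.gA.inv_mem hx) (D.mem_gA_of hconjL)) hx'

variable (hF : Fintype.card F = q ^ 2) (hm : 5 ≤ m)
include hF hm

/-- `SU_m` moves three orthonormal vectors to any three others. -/
theorem exists_map_three {u v w u' v' w' : Fin m → F} (hu : ⟪u, u⟫ = 1) (hv : ⟪v, v⟫ = 1) (hw : ⟪w, w⟫ = 1)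
    (huv : ⟪u, v⟫ = 0) (huw : ⟪u, w⟫ = 0) (hvw : ⟪v, w⟫ = 0) (hu' : ⟪u', u'⟫ = 1) (hv' : ⟪v', v'⟫ = 1)
    (hw' : ⟪w', w'⟫ = 1) (huv' : ⟪u', v'⟫ = 0) (huw' : ⟪u', w'⟫ = 0) (hvw' : ⟪v', w'⟫ = 0) :
    ∃ g : ↥(SU m F q), sv g u = u' ∧ sv g v = v' ∧ sv g w = w' := by
  obtain ⟨g, hg⟩ := exists_SU_map_orthonorm hF (orthonorm_three hF hu hv hw huv huw hvw)
    (orthonorm_three hF hu' hv' hw' huv' huw' hvw') (by omega)
  exact ⟨g, hg 0, hg 1, hg 2⟩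

theorem exists_map_two {u v u' v' : Fin m → F} (hu : ⟪u, u⟫ = 1) (hv : ⟪v, v⟫ = 1)
    (huv : ⟪u, v⟫ = 0) (hu' : ⟪u', u'⟫ = 1) (hv' : ⟪v', v'⟫ = 1) (huv' : ⟪u', v'⟫ = 0) :
    ∃ g : ↥(SU m F q), sv g u = u' ∧ sv g v = v' := by
  obtain ⟨g, hg⟩ := exists_SU_map_orthonorm hF (orthonorm_two hF hu hv huv)
    (orthonorm_two hF hu' hv' huv') (by omega)
  exact ⟨g, hg 0, hg 1⟩

omit hm in
theorem βL_unit : ⟪sv D.β D.eL, sv D.β D.eL⟫ = 1 := by rw [sv_herm, D.hL]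

omit hm in
theorem βL_e0 : ⟪D.e0, sv D.β D.eL⟫ = 0 := by
  conv_lhs => arg 4; rw [← mem_stab.1 D.hβ]
  rw [sv_herm, D.h0L]

theorem exists_adj (γ : ↥(SU m F q) × G) {w : Fin m → F} (hw : ⟪w, w⟫ = 1) (hγw : ⟪D.P γ, w⟫ = 0) :
    ∃ a ∈ D.gA, D.Adj γ (γ * a * D.bh) ∧ D.P (γ * a * D.bh) = w := by
  have hu : ⟪D.eL, sv γ.1⁻¹ w⟫ = 0 := by
    rw [← sv_herm γ.1, sv_sv_inv]; exact hγw
  obtain ⟨g, hg1, hg2⟩ := exists_map_two hF hm D.hL (D.βL_unit hF) (herm_eq_zero_comm hF D.hβL) D.hL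
    (v' := sv γ.1⁻¹ w) (by rw [sv_herm, hw]) hu
  refine ⟨_, D.mem_gA_of hg1, ⟨_, D.mem_gA_of hg1, 1, D.gA.one_mem, (mul_one _).symm⟩, ?_⟩
  rw [Adj.P_eq D D.gA.one_mem (mul_one _).symm, hg2, sv_sv_inv]

theorem Adj.symm {γ δ : ↥(SU m F q) × G} (h : D.Adj γ δ) : D.Adj δ γ := by
  obtain ⟨a, ha, x, hx, rfl⟩ := h
  have hbi : sv D.β⁻¹ D.e0 = D.e0 := sv_inv_eq (mem_stab.1 D.hβ)
  obtain ⟨g, hg0, hgL, hg1⟩ := exists_map_three hF hm D.h0 D.hL (D.βL_unit hF) D.h0L (D.βL_e0 hF)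
    (herm_eq_zero_comm hF D.hβL) D.h0 D.hL (w' := sv D.β⁻¹ D.eL) (by rw [sv_herm, D.hL]) D.h0L
    (by rw [← sv_herm D.β, mem_stab.1 D.hβ, sv_sv_inv, D.h0L])
    (by rw [← sv_herm D.β, sv_sv_inv]; exact D.hβL)
  set y := D.β⁻¹ * g⁻¹ * D.β⁻¹ with hy
  have hy0 : y ∈ stab D.e0 :=
    (stab D.e0).mul_mem ((stab D.e0).mul_mem ((stab D.e0).inv_mem D.hβ) ((stab D.e0).inv_mem hg0))
      ((stab D.e0).inv_mem D.hβ)
  have hyL : y ∈ stab D.eL := by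
    rw [mem_stab, hy, sv_mul, sv_mul, sv_inv_eq hg1, sv_inv_sv]
  have key : D.bh⁻¹ = (g, D.A ⟨g, hgL⟩) * D.bh * (y, D.A ⟨y, hyL⟩) := by
    rw [D.agree g hgL hg0, D.agree y hyL hy0]
    have h1 : (⟨y, hy0⟩ : ↥(stab (q := q) D.e0)) = ⟨D.β, D.hβ⟩⁻¹ * ⟨g, hg0⟩⁻¹ * ⟨D.β, D.hβ⟩⁻¹ :=
      Subtype.ext rfl
    rw [h1, map_mul, map_mul, map_inv, map_inv]
    exact Prod.ext (by simp [bh, hy, mul_assoc]) (by simp [bh, mul_assoc])
  refine ⟨x⁻¹ * (g, D.A ⟨g, hgL⟩), D.gA.mul_mem (D.gA.inv_mem hx) (D.mem_gA_of hgL),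
    (y, D.A ⟨y, hyL⟩) * a⁻¹, D.gA.mul_mem (D.mem_gA_of hyL) (D.gA.inv_mem ha), ?_⟩
  calc γ = γ * a * D.bh * x * x⁻¹ * D.bh⁻¹ * a⁻¹ := by simp [mul_assoc]
    _ = _ := by rw [key]; simp [mul_assoc]

/-- The cosets reached from `η` inside the graph of `B`. -/
def InB (η γ : ↥(SU m F q) × G) : Prop := ∃ b ∈ D.gB, D.Sim (η * b) γ

omit hF hm in
theorem InB.of_sim {η γ : ↥(SU m F q) × G} (h : D.Sim η γ) : D.InB η γ :=
  ⟨1, D.gB.one_mem, by rwa [mul_one]⟩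

theorem InB.step {η γ δ : ↥(SU m F q) × G} (h : D.InB η γ) (ha : D.Adj γ δ)
    (hu : ⟪D.P δ, sv η.1 D.e0⟫ = 0) : D.InB η δ := by
  obtain ⟨b, hb, hs⟩ := h
  have ha' := Adj.congr_left D ha (Sim.symm D hs)
  set γ' := η * b with hγ'
  have hb0 : sv γ'.1 D.e0 = sv η.1 D.e0 := by
    rw [hγ', Prod.fst_mul, sv_mul, mem_stab.1 (D.gB_fst hb)]
  obtain ⟨g, hg0, hgL, hg1⟩ := exists_map_three hF hm D.h0 D.hL (D.βL_unit hF) D.h0L (D.βL_e0 hF)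
    (herm_eq_zero_comm hF D.hβL) D.h0 D.hL (w' := sv γ'.1⁻¹ (D.P δ)) (by rw [sv_herm, P_norm]) D.h0L
    (by rw [← sv_herm γ'.1, sv_sv_inv, hb0]; exact herm_eq_zero_comm hF hu)
    (by rw [← sv_herm γ'.1, sv_sv_inv]; exact Adj.orth D hF ha')
  have hgA := D.mem_gA_of hgL
  have hgB : (g, D.A ⟨g, hgL⟩) ∈ D.gB := by rw [D.agree g hgL hg0]; exact D.mem_gB_of hg0
  refine ⟨b * (g, D.A ⟨g, hgL⟩) * D.bh, D.gB.mul_mem (D.gB.mul_mem hb hgB) D.bh_mem, ?_⟩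
  rw [show η * (b * (g, D.A ⟨g, hgL⟩) * D.bh) = γ' * (g, D.A ⟨g, hgL⟩) * D.bh by simp [hγ', mul_assoc]]
  refine D.star ⟨_, hgA, 1, D.gA.one_mem, (mul_one _).symm⟩ ha' ?_
  rw [Adj.P_eq D D.gA.one_mem (mul_one _).symm, hg1, sv_sv_inv]

omit hF hm in
theorem InB.sim {η γ : ↥(SU m F q) × G} (h : D.InB η γ) (he : D.P γ = D.P η) : D.Sim η γ := by
  obtain ⟨b, hb, hs⟩ := h
  refine Sim.trans D ?_ hs
  have h1 := (Sim.P_eq D hs).trans he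
  simp only [P, Prod.fst_mul, sv_mul] at h1
  have h2 := congrArg (sv η.1⁻¹) h1
  rw [sv_inv_sv, sv_inv_sv] at h2
  show η⁻¹ * (η * b) ∈ D.gA
  rw [inv_mul_cancel_left]
  exact D.gB_inter hb h2

theorem exists_base (γ : ↥(SU m F q) × G) {u : Fin m → F} (hu : ⟪u, u⟫ = 1) (hγu : ⟪u, D.P γ⟫ = 0) :
    ∃ η, D.Sim γ η ∧ sv η.1 D.e0 = u := by
  obtain ⟨g, hg0, hgL⟩ := exists_map_two hF hm D.h0 D.hL D.h0L
    (u' := sv γ.1⁻¹ u) (by rw [sv_herm, hu]) D.hL (by rw [← sv_herm γ.1, sv_sv_inv]; exact hγu)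
  refine ⟨γ * (g, D.A ⟨g, hgL⟩), ?_, ?_⟩
  · show γ⁻¹ * (γ * _) ∈ D.gA
    rw [inv_mul_cancel_left]; exact D.mem_gA_of hgL
  · rw [Prod.fst_mul, sv_mul, hg0, sv_sv_inv]

/-- A walk of length four with a common orthogonal unit vector is closed as soon as its vertices are. -/
theorem closed_four {g₀ g₁ g₂ g₃ g₄ : ↥(SU m F q) × G} (h₁ : D.Adj g₀ g₁) (h₂ : D.Adj g₁ g₂)
    (h₃ : D.Adj g₂ g₃) (h₄ : D.Adj g₃ g₄) (he : D.P g₄ = D.P g₀) {u : Fin m → F} (hu : ⟪u, u⟫ = 1)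
    (u₀ : ⟪u, D.P g₀⟫ = 0) (u₁ : ⟪u, D.P g₁⟫ = 0) (u₂ : ⟪u, D.P g₂⟫ = 0) (u₃ : ⟪u, D.P g₃⟫ = 0) :
    D.Sim g₀ g₄ := by
  obtain ⟨η, hη, hηu⟩ := D.exists_base hF hm g₀ hu u₀
  have hc : ∀ {g : ↥(SU m F q) × G}, ⟪u, D.P g⟫ = 0 → ⟪D.P g, sv η.1 D.e0⟫ = 0 :=
    fun h => by rw [hηu]; exact herm_eq_zero_comm hF h
  have i1 := InB.step D hF hm (InB.of_sim D (Sim.symm D hη)) h₁ (hc u₁)
  have i4 := InB.step D hF hm (InB.step D hF hm (InB.step D hF hm i1 h₂ (hc u₂)) h₃ (hc u₃)) h₄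
    (hc (by rw [he]; exact u₀))
  exact Sim.trans D hη (InB.sim D i4 (he.trans (Sim.P_eq D hη)))

theorem triangle {γ δ ε : ↥(SU m F q) × G} (h : D.Adj γ δ) (h' : D.Adj δ ε) (ho : ⟪D.P γ, D.P ε⟫ = 0) :
    D.Adj γ ε := by
  obtain ⟨u, hu, u1, u2, u3⟩ := exists_unit_perp_three hF hm (D.P_norm γ) (D.P_norm δ) (Adj.orth D hF h) (D.P ε)
  obtain ⟨η, hη, hηu⟩ := D.exists_base hF hm ε hu u3
  have hc : ∀ {g : ↥(SU m F q) × G}, ⟪u, D.P g⟫ = 0 → ⟪D.P g, sv η.1 D.e0⟫ = 0 :=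
    fun h => by rw [hηu]; exact herm_eq_zero_comm hF h
  obtain ⟨a, ha, hadj, hP⟩ := D.exists_adj hF hm γ (D.P_norm ε) ho
  have i1 := InB.step D hF hm (InB.of_sim D (Sim.symm D hη)) (Adj.symm D hF hm h') (hc u2)
  have i3 := InB.step D hF hm (InB.step D hF hm i1 (Adj.symm D hF hm h) (hc u1)) hadj (hc (by rw [hP]; exact u3))
  exact Adj.congr_right D hadj (Sim.trans D (Sim.symm D (InB.sim D i3 (hP.trans (Sim.P_eq D hη))))
    (Sim.symm D hη))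

/-- All lifts of the two paths `p, a, r` and `p, b, r` end in the same coset. -/
def Eqv (p r a b : Fin m → F) : Prop :=
  ∀ γ α ρ β' ρ' : ↥(SU m F q) × G, D.P γ = p → D.Adj γ α → D.P α = a → D.Adj α ρ → D.P ρ = r →
    D.Adj γ β' → D.P β' = b → D.Adj β' ρ' → D.P ρ' = r → D.Sim ρ ρ'

theorem eqv_trans {p r a b c : Fin m → F} (hc : ⟪c, c⟫ = 1) (hcp : ⟪c, p⟫ = 0) (hcr : ⟪c, r⟫ = 0)
    (h1 : D.Eqv p r a c) (h2 : D.Eqv p r c b) : D.Eqv p r a b := by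
  intro γ α ρ β' ρ' hp ha hα har hρ hb hβ hbr hρ'
  obtain ⟨x, -, hadj, hP⟩ := D.exists_adj hF hm γ hc (by rw [hp]; exact herm_eq_zero_comm hF hcp)
  obtain ⟨y, -, hadj2, hP2⟩ := D.exists_adj hF hm (γ * x * D.bh) (w := r) (by rw [← hρ]; exact D.P_norm ρ)
    (by rw [hP]; exact hcr)
  exact Sim.trans D (h1 γ α ρ _ _ hp ha hα har hρ hadj hP hadj2 hP2)
    (h2 γ _ _ β' ρ' hp hadj hP hadj2 hP2 hb hβ hbr hρ')

omit hF hm in
theorem eqv_symm {p r a b : Fin m → F} (h : D.Eqv p r a b) : D.Eqv p r b a :=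
  fun γ α ρ β' ρ' hp ha hα har hρ hb hβ hbr hρ' =>
    Sim.symm D (h γ β' ρ' α ρ hp hb hβ hbr hρ' ha hα har hρ)

theorem eqv_change {p r a b s : Fin m → F} (hs : ⟪s, s⟫ = 1) (hsa : ⟪s, a⟫ = 0) (hsb : ⟪s, b⟫ = 0)
    (h1 : D.Eqv p s a b) (h2 : D.Eqv s r a b) : D.Eqv p r a b := by
  intro γ α ρ β' ρ' hp ha hα har hρ hb hβ hbr hρ'
  obtain ⟨x, -, hadj, hP⟩ := D.exists_adj hF hm α hs (by rw [hα]; exact herm_eq_zero_comm hF hsa)
  obtain ⟨y, -, hadj2, hP2⟩ := D.exists_adj hF hm β' hs (by rw [hβ]; exact herm_eq_zero_comm hF hsb)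
  have hσ := h1 γ α _ β' _ hp ha hα hadj hP hb hβ hadj2 hP2
  exact h2 _ α ρ β' ρ' hP (Adj.symm D hF hm hadj) hα har hρ
    (Adj.congr_left D (Adj.symm D hF hm hadj2) (Sim.symm D hσ)) hβ hbr hρ'

theorem eqv_closed {p r a b u : Fin m → F} (hu : ⟪u, u⟫ = 1) (up : ⟪u, p⟫ = 0) (ur : ⟪u, r⟫ = 0)
    (ua : ⟪u, a⟫ = 0) (ub : ⟪u, b⟫ = 0) : D.Eqv p r a b := by
  intro γ α ρ β' ρ' hp ha hα har hρ hb hβ hbr hρ'
  exact D.closed_four hF hm (Adj.symm D hF hm har) (Adj.symm D hF hm ha) hb hbr (hρ'.trans hρ.symm) hu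
    (by rw [hρ]; exact ur) (by rw [hα]; exact ua) (by rw [hp]; exact up) (by rw [hβ]; exact ub)

theorem eqv_mid_orth {p r a b : Fin m → F} (hab : ⟪a, b⟫ = 0) : D.Eqv p r a b := by
  intro γ α ρ β' ρ' hp ha hα har hρ hb hβ hbr hρ'
  have h1 : D.Adj β' α := D.triangle hF hm (Adj.symm D hF hm hb) ha
    (by rw [hβ, hα]; exact herm_eq_zero_comm hF hab)
  have h2 : D.Adj β' ρ := D.triangle hF hm h1 har
    (by rw [hρ, ← hρ']; exact Adj.orth D hF hbr)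
  exact D.star h2 hbr (hρ.trans hρ'.symm)

theorem eqv_end_orth {p r a b : Fin m → F} (hpr : ⟪p, r⟫ = 0) : D.Eqv p r a b := by
  intro γ α ρ β' ρ' hp ha hα har hρ hb hβ hbr hρ'
  exact D.star (D.triangle hF hm ha har (by rw [hp, hρ]; exact hpr))
    (D.triangle hF hm hb hbr (by rw [hp, hρ']; exact hpr)) (hρ.trans hρ'.symm)

end Amalgam

end CfsgLib.Phan
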