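import Mathlib
import Cfsg.Agent.Phan.Cover

/-!
# Contracting the cycles and gluing
-/

set_option autoImplicit false

namespace CfsgLib.Phan

open Cfsg CfsgLib.Unitary

theorem expand_six {F : Type*} [Field F] [Fintype F] {m q : ℕ} (hF : Fintype.card F = q ^ 2) (h6 : m = 6)
    {f : Fin 6 → Fin m → F} (hf : Orthonorm q f) (v : Fin m → F) : v = ∑ i, hermForm m F q v (f i) • f i := by
  subst h6; exact expand_orthonorm hF hf v

namespace Amalgam

variable {F : Type*} [Field F] [Fintype F] {m q : ℕ} {G : Type*} [Group G] (D : Amalgam m F q G)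

local notation "⟪" u ", " v "⟫" => hermForm m F q u v

variable (hF : Fintype.card F = q ^ 2) (hm : 5 ≤ m)
include hF hm

omit hm in
theorem ndPair_of_orth {p s : Fin m → F} (h : ⟪s, p⟫ = 0) : NdPair q p s :=
  Or.inr (by rw [h, zero_pow (Nat.succ_ne_zero q)]; exact zero_ne_one)

omit hm in
theorem ndPair_avoid {p r s : Fin m → F} (hsp : ⟪s, p⟫ = 0) (hs : ⟪s, proj q p r⟫ ^ (q + 1) ≠ 1) :
    NdPair q s r := by
  refine Or.inr fun h => hs ?_
  have h1 : ⟪r, s⟫ = ⟪s, proj q p r⟫ ^ q := by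
    rw [herm_proj_right hF, hsp, mul_zero, sub_zero, ← herm_conj hF s r]
  rw [h1, ← pow_mul, mul_comm, pow_mul, norm_pow_q hF] at h
  exact h

theorem eqv_of_nd_mid (hq : 3 ≤ q) {p r a b : Fin m → F} (hp : ⟪p, p⟫ = 1) (hr : ⟪r, r⟫ = 1) (ha : ⟪a, a⟫ = 1)
    (hb : ⟪b, b⟫ = 1) (hap : ⟪a, p⟫ = 0) (har : ⟪a, r⟫ = 0) (hbp : ⟪b, p⟫ = 0) (hbr : ⟪b, r⟫ = 0)
    (hM : NdPair q a b) : D.Eqv p r a b := by
  by_cases hL : NdPair q p r
  · obtain ⟨u, hu, u1, u2, u3, u4⟩ := exists_unit_of_ndPairs hF hm hp hr ha hb hap har hbp hbr hL hM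
    exact D.eqv_closed hF hm hu u1 u2 u3 u4
  simp only [NdPair, not_or, not_not] at hL
  have hzz : ⟪proj q p r, proj q p r⟫ = 0 := by rw [herm_proj_self hF hp hr, hL.2, sub_self]
  obtain ⟨w, hw, w1, w2, w3⟩ := exists_unit_perp_three hF hm hp ha (herm_eq_zero_comm hF hap) b
  obtain ⟨s, hs, hs1, hsz⟩ := exists_unit_avoid hF hq (P := perpFam q ![p, a, b]) (z := proj q p r) (u := w)
    ((mem_perpFam hF).2 fun i => by
      fin_cases i
      · exact proj_perp hp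
      · exact proj_orth (herm_eq_zero_comm hF har) (herm_eq_zero_comm hF hap)
      · exact proj_orth (herm_eq_zero_comm hF hbr) (herm_eq_zero_comm hF hbp)) hzz
    ((mem_perpFam hF).2 fun i => by fin_cases i <;> simpa) hw
  have s1 : ⟪s, p⟫ = 0 := by simpa using (mem_perpFam hF).1 hs 0
  have s2 : ⟪s, a⟫ = 0 := by simpa using (mem_perpFam hF).1 hs 1
  have s3 : ⟪s, b⟫ = 0 := by simpa using (mem_perpFam hF).1 hs 2
  obtain ⟨u, hu, u1, u2, u3, u4⟩ := exists_unit_of_ndPairs hF hm hp hs1 ha hb hap (herm_eq_zero_comm hF s2) hbp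
    (herm_eq_zero_comm hF s3) (ndPair_of_orth hF s1) hM
  obtain ⟨v, hv, v1, v2, v3, v4⟩ := exists_unit_of_ndPairs hF hm hs1 hr ha hb (herm_eq_zero_comm hF s2) har
    (herm_eq_zero_comm hF s3) hbr (ndPair_avoid hF s1 hsz) hM
  exact D.eqv_change hF hm hs1 s2 s3 (D.eqv_closed hF hm hu u1 u2 u3 u4) (D.eqv_closed hF hm hv v1 v2 v3 v4)

theorem eqv_three_le (hq : 3 ≤ q) {p r a b : Fin m → F} (hp : ⟪p, p⟫ = 1) (hr : ⟪r, r⟫ = 1) (ha : ⟪a, a⟫ = 1)
    (hb : ⟪b, b⟫ = 1) (hap : ⟪a, p⟫ = 0) (har : ⟪a, r⟫ = 0) (hbp : ⟪b, p⟫ = 0) (hbr : ⟪b, r⟫ = 0) :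
    D.Eqv p r a b := by
  by_cases hM : NdPair q a b
  · exact eqv_of_nd_mid D hF hm hq hp hr ha hb hap har hbp hbr hM
  simp only [NdPair, not_or, not_not] at hM
  have hzz : ⟪proj q a b, proj q a b⟫ = 0 := by rw [herm_proj_self hF ha hb, hM.2, sub_self]
  obtain ⟨w, hw, w1, w2, w3⟩ := exists_unit_perp_three hF hm hp ha (herm_eq_zero_comm hF hap) r
  obtain ⟨c, hc, hc1, hcz⟩ := exists_unit_avoid hF hq (P := perpFam q ![p, r, a]) (z := proj q a b) (u := w)
    ((mem_perpFam hF).2 fun i => by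
      fin_cases i
      · exact proj_orth hbp hap
      · exact proj_orth hbr har
      · exact proj_perp ha) hzz
    ((mem_perpFam hF).2 fun i => by fin_cases i <;> simpa) hw
  have c1 : ⟪c, p⟫ = 0 := by simpa using (mem_perpFam hF).1 hc 0
  have c2 : ⟪c, r⟫ = 0 := by simpa using (mem_perpFam hF).1 hc 1
  have c3 : ⟪c, a⟫ = 0 := by simpa using (mem_perpFam hF).1 hc 2
  exact D.eqv_trans hF hm hc1 c1 c2
    (eqv_of_nd_mid D hF hm hq hp hr ha hc1 hap har c1 c2 (ndPair_of_orth hF c3))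
    (eqv_of_nd_mid D hF hm hq hp hr hc1 hb c1 c2 hbp hbr (ndPair_avoid hF c3 hcz))

/-- The exceptional case `q = 2`, `m = 6`. -/
theorem eqv_six (hq : q = 2) (h6 : m = 6) {p r a b : Fin m → F} (hp : ⟪p, p⟫ = 1) (hr : ⟪r, r⟫ = 1)
    (ha : ⟪a, a⟫ = 1) (hb : ⟪b, b⟫ = 1) (hap : ⟪a, p⟫ = 0) (har : ⟪a, r⟫ = 0) (hbp : ⟪b, p⟫ = 0)
    (hbr : ⟪b, r⟫ = 0) (hN : ⟪r, p⟫ ^ (q + 1) = 1) (hz0 : proj q p r ≠ 0) : D.Eqv p r a b := by
  obtain ⟨f, hf, hf0, hf5, hcomm⟩ := D.extra hq h6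
  have hn : ∀ i, ⟪f i, f i⟫ = 1 := fun i => by simpa using hf i i
  have ho : ∀ i j, i ≠ j → ⟪f i, f j⟫ = 0 := fun i j h => by simpa [h] using hf i j
  intro γ α ρ β' ρ' hγp hγα hα hαρ hρ hγβ hβ hβρ hρ'
  set z := proj q p r with hzdef
  have hzz : ⟪z, z⟫ = 0 := by rw [herm_proj_self hF hp hr, hN, sub_self]
  have hzp : ⟪z, p⟫ = 0 := proj_perp hp
  -- a non-degenerate three-space containing `p` and `r`
  have hPn : IsNondeg q (perpIn q ⊤ p) := isNondeg_perpIn hF (isNondeg_top hF) trivial hp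
  obtain ⟨h, hh, hhh, hzh⟩ := exists_partner hF hPn (mem_perpIn.2 ⟨trivial, hzp⟩) hz0 hzz
  obtain ⟨s, hs, hs1⟩ := exists_norm_one_mem hF (W := Submodule.span F {z, h})
    ⟨z, Submodule.subset_span (by simp), h, Submodule.subset_span (by simp), by rw [hzh]; exact one_ne_zero⟩
  obtain ⟨x, y, hxy⟩ := Submodule.mem_span_pair.1 hs
  have hhp : ⟪h, p⟫ = 0 := (mem_perpIn.1 hh).2
  have hsp : ⟪s, p⟫ = 0 := by
    rw [← hxy, herm_add_left, herm_smul_left, herm_smul_left, hzp, hhp, mul_zero, mul_zero, add_zero]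
  set d := ⟪z, s⟫ with hd
  set z₁ := z - d • s with hz₁
  have hz₁s : ⟪z₁, s⟫ = 0 := by rw [hz₁, herm_sub_left, herm_smul_left, hs1, ← hd, mul_one, sub_self]
  have hz₁p : ⟪z₁, p⟫ = 0 := by rw [hz₁, herm_sub_left, herm_smul_left, hzp, hsp, mul_zero, sub_zero]
  have hd0 : d ≠ 0 := by
    intro h0
    have h1 : ⟪z, s⟫ = y ^ q := by
      rw [← hxy, herm_add_right hF, herm_smul_right, herm_smul_right, hzz, hzh, mul_zero, zero_add, mul_one]
    have hy0 : y = 0 := eq_zero_of_pow_eq_zero (h1.symm.trans h0)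
    rw [← hxy, hy0, zero_smul, add_zero, herm_self_smul, hzz, mul_zero] at hs1
    exact zero_ne_one hs1
  have hz₁z₁ : ⟪z₁, z₁⟫ = -(d ^ (q + 1)) := by
    have e1 : ⟪z₁, z₁⟫ = ⟪z₁, z⟫ := by
      conv_lhs => arg 4; rw [hz₁]
      rw [herm_sub_right hF, herm_smul_right, hz₁s, mul_zero, sub_zero]
    rw [e1, hz₁, herm_sub_left, herm_smul_left, hzz, herm_conj hF z s, ← hd, zero_sub, pow_succ']
  obtain ⟨c, hc⟩ := exists_norm_eq hF (a := ⟪z₁, z₁⟫⁻¹) (by rw [inv_pow_q, herm_self_fixed hF])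
  have hne : ⟪z₁, z₁⟫ ≠ 0 := by rw [hz₁z₁]; exact neg_ne_zero.2 (pow_ne_zero _ hd0)
  have hc0 : c ≠ 0 := by
    intro h0
    rw [h0, zero_pow (Nat.succ_ne_zero q)] at hc
    exact inv_ne_zero hne hc.symm
  set t := c • z₁ with ht
  have ht1 : ⟪t, t⟫ = 1 := by rw [ht, herm_self_smul, hc, inv_mul_cancel₀ hne]
  have hts : ⟪t, s⟫ = 0 := by rw [ht, herm_smul_left, hz₁s, mul_zero]
  have htp : ⟪t, p⟫ = 0 := by rw [ht, herm_smul_left, hz₁p, mul_zero]
  have hrdec : r = ⟪r, p⟫ • p + d • s + c⁻¹ • t := by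
    rw [ht, smul_smul, inv_mul_cancel₀ hc0, one_smul, hz₁, add_assoc, add_sub_cancel, hzdef]
    exact eq_add_proj q p r
  -- move the frame onto `p, s, t`
  obtain ⟨g, g5, g4, g3⟩ := exists_map_three hF hm (hn 5) (hn 4) (hn 3) (ho 5 4 (by decide)) (ho 5 3 (by decide))
    (ho 4 3 (by decide)) (u' := sv γ.1⁻¹ p) (v' := sv γ.1⁻¹ s) (w' := sv γ.1⁻¹ t)
    (by rw [sv_herm, hp]) (by rw [sv_herm, hs1]) (by rw [sv_herm, ht1])
    (by rw [sv_herm]; exact herm_eq_zero_comm hF hsp) (by rw [sv_herm]; exact herm_eq_zero_comm hF htp)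
    (by rw [sv_herm]; exact herm_eq_zero_comm hF hts)
  have hgL : g ∈ stab (q := q) D.eL := by
    rw [mem_stab, ← hf5, g5, hf5, ← hγp, P, sv_inv_sv]
  set η := γ * (g, D.A ⟨g, hgL⟩) with hη
  have hsim : D.Sim γ η := by
    show γ⁻¹ * η ∈ D.gA
    rw [hη, inv_mul_cancel_left]; exact D.mem_gA_of hgL
  have e5 : sv η.1 (f 5) = p := by rw [hη, Prod.fst_mul, sv_mul, g5, sv_sv_inv]
  have e4 : sv η.1 (f 4) = s := by rw [hη, Prod.fst_mul, sv_mul, g4, sv_sv_inv]
  have e3 : sv η.1 (f 3) = t := by rw [hη, Prod.fst_mul, sv_mul, g3, sv_sv_inv]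
  have hηp : D.P η = p := by rw [P, ← hf5, e5]
  set r₀ := sv η.1⁻¹ r with hr₀
  have hrη : sv η.1 r₀ = r := sv_sv_inv _ _
  have hr₀dec : r₀ = ⟪r, p⟫ • f 5 + d • f 4 + c⁻¹ • f 3 := by
    rw [hr₀, sv_inv_eq]
    rw [sv_add, sv_add, sv_smul, sv_smul, sv_smul, e5, e4, e3]
    exact hrdec.symm
  have hr₀o : ∀ i : Fin 6, i = 0 ∨ i = 1 ∨ i = 2 → ⟪f i, r₀⟫ = 0 := by
    rintro i (rfl | rfl | rfl) <;>
      rw [hr₀dec, herm_add_right hF, herm_add_right hF, herm_smul_right, herm_smul_right, herm_smul_right,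
        ho _ _ (by decide), ho _ _ (by decide), ho _ _ (by decide), mul_zero, mul_zero, mul_zero, add_zero, add_zero]
  have hr₀1 : ⟪r₀, r₀⟫ = 1 := by rw [hr₀, sv_herm, hr]
  obtain ⟨yy, hyy⟩ := exists_SU_map_orthonorm hF (f := ![f 0, f 1, f 2, f 5]) (f' := ![f 0, f 1, f 2, r₀])
    (by intro i j; fin_cases i <;> fin_cases j <;> simp [hn, ho])
    (by
      intro i j
      fin_cases i <;> fin_cases j <;>
        simp [hn, ho, hr₀1, hr₀o, herm_eq_zero_comm hF (hr₀o 0 (Or.inl rfl)),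
          herm_eq_zero_comm hF (hr₀o 1 (Or.inr (Or.inl rfl))), herm_eq_zero_comm hF (hr₀o 2 (Or.inr (Or.inr rfl)))])
    (by omega)
  have y0 : sv yy (f 0) = f 0 := hyy 0
  have y1 : sv yy (f 1) = f 1 := hyy 1
  have y2 : sv yy (f 2) = f 2 := hyy 2
  have y5 : sv yy (f 5) = r₀ := hyy 3
  have hy0 : yy ∈ stab (q := q) D.e0 := by rw [mem_stab, ← hf0, y0]
  set Y : ↥(SU m F q) × G := (yy, D.B ⟨yy, hy0⟩) with hY
  have hYP : D.P (η * Y) = r := by rw [P, Prod.fst_mul, sv_mul, ← hf5, y5, hrη]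
  -- midpoints in the complementary three-space
  have hX : ∀ c' : Fin m → F, ⟪c', c'⟫ = 1 → ⟪c', f 3⟫ = 0 → ⟪c', f 4⟫ = 0 → ⟪c', f 5⟫ = 0 →
      ∀ α₁ ρ₁, D.Adj η α₁ → D.P α₁ = sv η.1 c' → D.Adj α₁ ρ₁ → D.P ρ₁ = r → D.Sim (η * Y) ρ₁ := by
    intro c' hc'1 hc'3 hc'4 hc'5 α₁ ρ₁ h1 h2 h3 h4
    obtain ⟨xx, hxx⟩ := exists_SU_map_orthonorm hF (f := ![f 3, f 4, f 5, f 1]) (f' := ![f 3, f 4, f 5, c'])
      (by intro i j; fin_cases i <;> fin_cases j <;> simp [hn, ho])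
      (by
        intro i j
        fin_cases i <;> fin_cases j <;>
          simp [hn, ho, hc'1, hc'3, hc'4, hc'5, herm_eq_zero_comm hF hc'3, herm_eq_zero_comm hF hc'4,
            herm_eq_zero_comm hF hc'5])
      (by omega)
    have x3 : sv xx (f 3) = f 3 := hxx 0
    have x4 : sv xx (f 4) = f 4 := hxx 1
    have x5 : sv xx (f 5) = f 5 := hxx 2
    have x1 : sv xx (f 1) = c' := hxx 3
    have hxL : xx ∈ stab (q := q) D.eL := by rw [mem_stab, ← hf5, x5]
    have hcom := hcomm xx yy hxL hy0 x3 x4 y1 y2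
    have hxy' : xx * yy = yy * xx := by
      refine sv_ext fun v => ?_
      have hcoef : ∀ i : Fin 6, sv (xx * yy) (f i) = sv (yy * xx) (f i) := by
        have fix : ∀ (k : ↥(SU m F q)) (w : Fin m → F), (∀ j, ⟪w, f j⟫ ≠ 0 → sv k (f j) = f j) → sv k w = w := by
          intro k w hw
          conv_lhs => rw [expand_six hF h6 hf w]
          conv_rhs => rw [expand_six hF h6 hf w]
          rw [sv, Matrix.mulVec_sum]
          refine Finset.sum_congr rfl fun j _ => ?_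
          by_cases hj : ⟪w, f j⟫ = 0
          · simp [hj]
          · exact (sv_smul k _ _).trans (by rw [hw j hj])
        intro i
        rw [sv_mul, sv_mul]
        by_cases hi : i = 0 ∨ i = 1 ∨ i = 2
        · have hyi : sv yy (f i) = f i := by rcases hi with rfl | rfl | rfl <;> assumption
          rw [hyi]
          refine (fix yy _ fun j hj => ?_).symm
          by_contra hne'
          refine hj ?_
          have hjj : sv xx (f j) = f j := by
            fin_cases j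
            · exact absurd y0 hne'
            · exact absurd y1 hne'
            · exact absurd y2 hne'
            · exact x3
            · exact x4
            · exact x5
          rw [← hjj, sv_herm, ho]
          rintro rfl
          exact hne' hyi
        · simp only [not_or] at hi
          have hxi : sv xx (f i) = f i := by
            fin_cases i <;> first | exact absurd rfl hi.1 | exact absurd rfl hi.2.1 | exact absurd rfl hi.2.2 | assumption
          rw [hxi]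
          refine fix xx _ fun j hj => ?_
          by_contra hne'
          refine hj ?_
          have hjj : sv yy (f j) = f j := by
            fin_cases j
            · exact y0
            · exact y1
            · exact y2
            · exact absurd x3 hne'
            · exact absurd x4 hne'
            · exact absurd x5 hne'
          rw [← hjj, sv_herm, ho]
          rintro rfl
          exact hne' hxi
      conv_lhs => rw [expand_six hF h6 hf v, sv, Matrix.mulVec_sum]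
      conv_rhs => rw [expand_six hF h6 hf v, sv, Matrix.mulVec_sum]
      exact Finset.sum_congr rfl fun i _ =>
        (sv_smul (xx * yy) _ _).trans ((congrArg _ (hcoef i)).trans (sv_smul (yy * xx) _ _).symm)
    set X : ↥(SU m F q) × G := (xx, D.A ⟨xx, hxL⟩) with hXdef
    have hXmem : X ∈ D.gA := D.mem_gA_of hxL
    have hXY : X * Y = Y * X := Prod.ext hxy' hcom.eq
    -- the walk through the standard midpoint
    obtain ⟨a₀, -, hA1, hA2⟩ := D.exists_adj hF hm η (w := sv η.1 (f 1)) (by rw [sv_herm]; exact hn 1)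
      (by rw [hηp, ← e5, sv_herm]; exact ho 5 1 (by decide))
    obtain ⟨a₁, -, hB1, hB2⟩ := D.exists_adj hF hm (η * a₀ * D.bh) (w := r) hr
      (by rw [hA2, ← hrη, sv_herm]; exact hr₀o 1 (Or.inr (Or.inl rfl)))
    have hu0 : ∀ w, ⟪sv η.1⁻¹ w, f 0⟫ = 0 → ⟪w, sv η.1 D.e0⟫ = 0 := by
      intro w hw
      rw [← sv_sv_inv η.1 w, sv_herm, ← hf0]; exact hw
    have i2 := InB.step D hF hm (InB.step D hF hm (InB.of_sim D (D.sim_refl η)) hA1
      (hu0 _ (by rw [hA2, sv_inv_sv]; exact ho 1 0 (by decide)))) hB1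
      (hu0 _ (by rw [hB2]; exact herm_eq_zero_comm hF (hr₀o 0 (Or.inl rfl))))
    obtain ⟨bb, hbb, hbs⟩ := i2
    have hbY : D.Sim (η * Y) (η * a₀ * D.bh * a₁ * D.bh) := by
      refine Sim.trans D ?_ hbs
      show (η * Y)⁻¹ * (η * bb) ∈ D.gA
      rw [mul_inv_rev, mul_assoc, inv_mul_cancel_left]
      refine D.gB_inter (D.gB.mul_mem (D.gB.inv_mem (D.mem_gB_of hy0)) hbb) ?_
      have hP : D.P (η * bb) = r := (Sim.P_eq D hbs).trans hB2
      rw [P, Prod.fst_mul, sv_mul] at hP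
      rw [mem_stab, Prod.fst_mul, sv_mul, show sv bb.1 D.eL = r₀ by rw [hr₀, ← hP, sv_inv_sv], Prod.fst_inv,
        sv_inv_eq]
      rw [← hf5, y5]
    -- translate it
    set T := η * X * η⁻¹ with hT
    have hTη : D.Sim η (T * η) := by
      show η⁻¹ * (T * η) ∈ D.gA
      simpa [hT, mul_assoc] using hXmem
    have hA1' := Adj.congr_left D (Adj.mul_left D hA1 T) (Sim.symm D hTη)
    have hA2' : D.P (T * (η * a₀ * D.bh)) = sv η.1 c' := by
      show sv (T.1 * (η * a₀ * D.bh).1) D.eL = _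
      rw [sv_mul, show sv (η * a₀ * D.bh).1 D.eL = sv η.1 (f 1) from hA2, hT, Prod.fst_mul, Prod.fst_mul,
        Prod.fst_inv, sv_mul, sv_mul, sv_inv_sv, x1]
    have hs1' := D.star h1 hA1' (h2.trans hA2'.symm)
    have hB1' := Adj.congr_left D (Adj.mul_left D hB1 T) (Sim.symm D hs1')
    have hfin : D.Sim (η * Y) (T * (η * Y)) := by
      show (η * Y)⁻¹ * (T * (η * Y)) ∈ D.gA
      rw [show (η * Y)⁻¹ * (T * (η * Y)) = Y⁻¹ * (X * Y) by simp [hT, mul_assoc], hXY, inv_mul_cancel_left]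
      exact hXmem
    have hs2 := Sim.trans D hfin (Sim.mul_left D hbY T)
    refine Sim.trans D hs2 (D.star hB1' h3 ?_)
    rw [← Sim.P_eq D hs2, hYP, h4]
  -- every midpoint is orthogonal to a midpoint of the complementary space
  have main : ∀ w, ⟪w, w⟫ = 1 → ⟪w, p⟫ = 0 → ⟪w, r⟫ = 0 → ∀ α₁ ρ₁, D.Adj η α₁ → D.P α₁ = w →
      D.Adj α₁ ρ₁ → D.P ρ₁ = r → D.Sim (η * Y) ρ₁ := by
    intro w hw hwp hwr α₁ ρ₁ h1 h2 h3 h4
    have hdim := le_finrank_perpFam hF ![f 3, f 4, f 5, sv η.1⁻¹ w]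
    obtain ⟨c', hc', hc'1⟩ := exists_unit_mem_perp hF (T := perpFam q ![f 3, f 4, f 5, sv η.1⁻¹ w])
      (orthonorm_three hF (hn 3) (hn 4) (hn 5) (ho 3 4 (by decide)) (ho 3 5 (by decide)) (ho 4 5 (by decide)))
      (fun u hu i => by
        have e0 := (mem_perpFam hF).1 hu 0
        have e1 := (mem_perpFam hF).1 hu 1
        have e2 := (mem_perpFam hF).1 hu 2
        fin_cases i
        · simpa using e0
        · simpa using e1
        · simpa using e2) (by omega)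
    have c3 : ⟪c', f 3⟫ = 0 := by simpa using (mem_perpFam hF).1 hc' 0
    have c4 : ⟪c', f 4⟫ = 0 := by simpa using (mem_perpFam hF).1 hc' 1
    have c5 : ⟪c', f 5⟫ = 0 := by simpa using (mem_perpFam hF).1 hc' 2
    have cw : ⟪c', sv η.1⁻¹ w⟫ = 0 := by simpa using (mem_perpFam hF).1 hc' 3
    have hcp : ⟪sv η.1 c', p⟫ = 0 := by rw [← e5, sv_herm]; exact c5
    have hcr : ⟪sv η.1 c', r⟫ = 0 := by
      rw [← hrη, sv_herm, hr₀dec, herm_add_right hF, herm_add_right hF, herm_smul_right, herm_smul_right,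
        herm_smul_right, c3, c4, c5, mul_zero, mul_zero, mul_zero, add_zero, add_zero]
    obtain ⟨b₀, -, hC1, hC2⟩ := D.exists_adj hF hm η (w := sv η.1 c') (by rw [sv_herm, hc'1])
      (by rw [hηp]; exact herm_eq_zero_comm hF hcp)
    obtain ⟨b₁, -, hD1, hD2⟩ := D.exists_adj hF hm (η * b₀ * D.bh) (w := r) hr (by rw [hC2]; exact hcr)
    have hcw : ⟪sv η.1 c', w⟫ = 0 := by rw [← sv_sv_inv η.1 w, sv_herm]; exact cw
    exact Sim.trans D (hX c' hc'1 c3 c4 c5 _ _ hC1 hC2 hD1 hD2)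
      (D.eqv_mid_orth hF hm hcw η _ _ _ _ hηp hC1 hC2 hD1 hD2 h1 h2 h3 h4)
  exact Sim.trans D (Sim.symm D (main a ha hap har _ _ (Adj.congr_left D hγα hsim) hα hαρ hρ))
    (main b hb hbp hbr _ _ (Adj.congr_left D hγβ hsim) hβ hβρ hρ')

theorem eqv_two (hq : q = 2) {p r a b : Fin m → F} (hp : ⟪p, p⟫ = 1) (hr : ⟪r, r⟫ = 1) (ha : ⟪a, a⟫ = 1)
    (hb : ⟪b, b⟫ = 1) (hap : ⟪a, p⟫ = 0) (har : ⟪a, r⟫ = 0) (hbp : ⟪b, p⟫ = 0) (hbr : ⟪b, r⟫ = 0) :
    D.Eqv p r a b := by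
  have hpa := herm_eq_zero_comm hF hap
  have hN : ∀ {u v : Fin m → F}, ⟪v, u⟫ ≠ 0 → ⟪v, u⟫ ^ (q + 1) = 1 := by
    intro u v huv
    have h2 : (⟪v, u⟫ ^ (q + 1)) * (⟪v, u⟫ ^ (q + 1)) = (⟪v, u⟫ ^ (q + 1)) * 1 := by
      rw [mul_one, ← pow_two]
      have h := norm_pow_q hF ⟪v, u⟫
      generalize ⟪v, u⟫ ^ (q + 1) = N at h ⊢
      rwa [hq] at h
    exact mul_left_cancel₀ (pow_ne_zero _ huv) h2
  by_cases hpr : ⟪r, p⟫ = 0
  · exact D.eqv_end_orth hF hm (herm_eq_zero_comm hF hpr)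
  by_cases hab : ⟪b, a⟫ = 0
  · exact D.eqv_mid_orth hF hm (herm_eq_zero_comm hF hab)
  by_cases hz : proj q p r = 0
  · obtain ⟨u, hu, u1, u2, u3⟩ := exists_unit_perp_three hF hm hp ha hpa b
    exact D.eqv_closed hF hm hu u1 (herm_perp_of_decomp hF u1 (by rw [hz, herm_zero_right hF])) u2 u3
  by_cases h6 : m = 6
  · exact eqv_six D hF hm hq h6 hp hr ha hb hap har hbp hbr (hN hpr) hz
  have hzz : ⟪proj q p r, proj q p r⟫ = 0 := by rw [herm_proj_self hF hp hr, hN hpr, sub_self]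
  have hzz' : ⟪proj q a b, proj q a b⟫ = 0 := by rw [herm_proj_self hF ha hb, hN hab, sub_self]
  by_cases hdep : proj q a b ∈ Submodule.span F {proj q p r}
  · obtain ⟨c, hc⟩ := Submodule.mem_span_singleton.1 hdep
    obtain ⟨u, hu, u1, u2, u3⟩ := exists_unit_perp_three hF hm hp ha hpa (proj q p r)
    exact D.eqv_closed hF hm hu u1 (herm_perp_of_decomp hF u1 u3) u2
      (herm_perp_of_decomp hF u2 (by rw [← hc, herm_smul_right, u3, mul_zero]))
  have hz'z : ⟪proj q a b, proj q p r⟫ = 0 := by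
    rw [herm_proj_right hF, proj_orth hbr har, proj_orth hbp hap, mul_zero, sub_zero]
  set T := perpFam q ![p, a, proj q p r, proj q a b] with hT
  have hzT : proj q p r ∈ T := (mem_perpFam hF).2 fun i => by
    fin_cases i
    · exact proj_perp hp
    · exact proj_orth (herm_eq_zero_comm hF har) hpa
    · exact hzz
    · exact herm_eq_zero_comm hF hz'z
  have hz'T : proj q a b ∈ T := (mem_perpFam hF).2 fun i => by
    fin_cases i
    · exact proj_orth hbp hap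
    · exact proj_perp ha
    · exact hz'z
    · exact hzz'
  have h2 : 2 ≤ Module.finrank F T := by
    have hli : LinearIndependent F ![proj q p r, proj q a b] :=
      (LinearIndependent.pair_iff' hz).2 fun c hc => hdep (Submodule.mem_span_singleton.2 ⟨c, hc⟩)
    have hle : Submodule.span F (Set.range ![proj q p r, proj q a b]) ≤ T := by
      rw [Submodule.span_le]
      rintro _ ⟨i, rfl⟩
      fin_cases i
      · exact hzT
      · exact hz'T
    have := Submodule.finrank_mono hle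
    rwa [finrank_span_eq_card hli, Fintype.card_fin] at this
  have h4 := le_finrank_perpFam hF ![p, a, proj q p r, proj q a b]
  obtain ⟨u, hu', hu⟩ := exists_unit_mem_perp hF (orthonorm_two hF hp ha hpa) (T := T)
    (fun t ht i => by
      have e0 := (mem_perpFam hF).1 ht 0
      have e1 := (mem_perpFam hF).1 ht 1
      fin_cases i
      · simpa using e0
      · simpa using e1) (by rw [← hT] at h4; omega)
  have u1 : ⟪u, p⟫ = 0 := by simpa using (mem_perpFam hF).1 hu' 0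
  have u2 : ⟪u, a⟫ = 0 := by simpa using (mem_perpFam hF).1 hu' 1
  have u3 : ⟪u, proj q p r⟫ = 0 := by simpa using (mem_perpFam hF).1 hu' 2
  have u4 : ⟪u, proj q a b⟫ = 0 := by simpa using (mem_perpFam hF).1 hu' 3
  exact D.eqv_closed hF hm hu u1 (herm_perp_of_decomp hF u1 u3) u2 (herm_perp_of_decomp hF u2 u4)

theorem eqv_all {p r a b : Fin m → F} (hp : ⟪p, p⟫ = 1) (hr : ⟪r, r⟫ = 1) (ha : ⟪a, a⟫ = 1) (hb : ⟪b, b⟫ = 1)
    (hap : ⟪a, p⟫ = 0) (har : ⟪a, r⟫ = 0) (hbp : ⟪b, p⟫ = 0) (hbr : ⟪b, r⟫ = 0) : D.Eqv p r a b := by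
  rcases (two_le_q hF).lt_or_eq with h | h
  · exact eqv_three_le D hF hm h hp hr ha hb hap har hbp hbr
  · exact eqv_two D hF hm h.symm hp hr ha hb hap har hbp hbr

/-- A coset at distance at most two. -/
def Two (γ δ : ↥(SU m F q) × G) : Prop := ∃ x, D.Adj γ x ∧ D.Adj x δ

theorem Two.step {γ y z : ↥(SU m F q) × G} (h : D.Two γ y) (hz : D.Adj y z) : D.Two γ z := by
  obtain ⟨x, hx, hxy⟩ := h
  obtain ⟨c, hc, c1, c2, c3⟩ := exists_unit_perp_three hF hm (D.P_norm y) (D.P_norm z) (Adj.orth D hF hz) (D.P γ)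
  obtain ⟨a, -, hadj, hP⟩ := D.exists_adj hF hm γ hc (herm_eq_zero_comm hF c3)
  obtain ⟨a', -, hadj', hP'⟩ := D.exists_adj hF hm (γ * a * D.bh) (w := D.P y) (D.P_norm y) (by rw [hP]; exact c1)
  have hs := eqv_all D hF hm (D.P_norm γ) (D.P_norm y) (D.P_norm x) hc
    (herm_eq_zero_comm hF (Adj.orth D hF hx)) (Adj.orth D hF hxy) c3 c1
    γ x y _ _ rfl hx rfl hxy rfl hadj hP hadj' hP'
  refine ⟨_, hadj, D.triangle hF hm (Adj.congr_right D hadj' (Sim.symm D hs)) hz ?_⟩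
  rw [hP]; exact c2

omit hF hm in
theorem Two.mul_left {γ δ : ↥(SU m F q) × G} (h : D.Two γ δ) (g : ↥(SU m F q) × G) : D.Two (g * γ) (g * δ) := by
  obtain ⟨x, h1, h2⟩ := h
  exact ⟨g * x, Adj.mul_left D h1 g, Adj.mul_left D h2 g⟩

omit hF hm in
theorem Two.congr {γ δ δ' : ↥(SU m F q) × G} (h : D.Two γ δ) (hs : D.Sim δ δ') : D.Two γ δ' := by
  obtain ⟨x, h1, h2⟩ := h
  exact ⟨x, h1, Adj.congr_right D h2 hs⟩

theorem two_gB {g : ↥(SU m F q) × G} (hg : g ∈ D.gB) : D.Two 1 g := by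
  have hP1 : D.P 1 = D.eL := by simp [P]
  have hgo : ⟪D.e0, D.P g⟫ = 0 := by
    conv_lhs => arg 4; rw [← mem_stab.1 (D.gB_fst hg)]
    rw [P, sv_herm, D.h0L]
  obtain ⟨c, hc, c1, c2, c3⟩ := exists_unit_perp_three hF hm D.h0 D.hL D.h0L (D.P g)
  obtain ⟨a, -, hA1, hA2⟩ := D.exists_adj hF hm 1 hc (by rw [hP1]; exact herm_eq_zero_comm hF c2)
  obtain ⟨a', -, hB1, hB2⟩ := D.exists_adj hF hm (1 * a * D.bh) (w := D.P g) (D.P_norm g) (by rw [hA2]; exact c3)
  have he : sv (1 : ↥(SU m F q) × G).1 D.e0 = D.e0 := sv_one _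
  have i2 := InB.step D hF hm (InB.step D hF hm (InB.of_sim D (D.sim_refl 1)) hA1
    (by rw [hA2, he]; exact c1)) hB1 (by rw [hB2, he]; exact herm_eq_zero_comm hF hgo)
  obtain ⟨b, hb, hbs⟩ := i2
  refine ⟨_, hA1, Adj.congr_right D hB1 (Sim.trans D (Sim.symm D hbs) ?_)⟩
  show (1 * b)⁻¹ * g ∈ D.gA
  rw [one_mul]
  refine D.gB_inter (D.gB.mul_mem (D.gB.inv_mem hb) hg) ?_
  have hP : D.P (1 * b) = D.P g := (Sim.P_eq D hbs).trans hB2
  rw [one_mul] at hP
  rw [mem_stab, Prod.fst_mul, sv_mul, show sv g.1 D.eL = sv b.1 D.eL from hP.symm, Prod.fst_inv, sv_inv_sv]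

/-- The subgroup generated by the two graphs. -/
def hull : Subgroup (↥(SU m F q) × G) := D.gA ⊔ D.gB

theorem two_hull {g : ↥(SU m F q) × G} (hg : g ∈ D.hull) : ∀ γ, D.Two 1 γ → D.Two 1 (γ * g) := by
  rw [hull, Subgroup.sup_eq_closure] at hg
  induction hg using Subgroup.closure_induction'' with
  | mem g hg =>
    intro γ h
    rcases hg with hg | hg
    · exact Two.congr D h (by show γ⁻¹ * (γ * g) ∈ D.gA; rwa [inv_mul_cancel_left])
    · obtain ⟨x, h1, h2⟩ := Two.mul_left D (two_gB D hF hm hg) γ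
      rw [mul_one] at h1
      exact Two.step D hF hm (Two.step D hF hm h h1) h2
  | inv_mem g hg =>
    intro γ h
    rcases hg with hg | hg
    · exact Two.congr D h (by show γ⁻¹ * (γ * g⁻¹) ∈ D.gA; rw [inv_mul_cancel_left]; exact D.gA.inv_mem hg)
    · obtain ⟨x, h1, h2⟩ := Two.mul_left D (two_gB D hF hm (D.gB.inv_mem hg)) γ
      rw [mul_one] at h1
      exact Two.step D hF hm (Two.step D hF hm h h1) h2
  | one => intro γ h; rwa [mul_one]
  | mul x y _ _ hx hy => intro γ h; rw [← mul_assoc]; exact hy _ (hx γ h)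

theorem hull_inter {g : ↥(SU m F q) × G} (hg : g ∈ D.hull) (hL : g.1 ∈ stab D.eL) : g ∈ D.gA := by
  have hP1 : D.P 1 = D.eL := by simp [P]
  obtain ⟨a, -, hadj, -⟩ := D.exists_adj hF hm 1 (w := sv D.β D.eL) (D.βL_unit hF)
    (by rw [hP1]; exact herm_eq_zero_comm hF D.hβL)
  have h2 := two_hull D hF hm hg 1 ⟨_, hadj, Adj.symm D hF hm hadj⟩
  rw [one_mul] at h2
  obtain ⟨x, hx1, hx2⟩ := h2
  have hs := D.star (Adj.symm D hF hm hx1) hx2 (by rw [hP1, P, mem_stab.1 hL])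
  simpa [Sim] using hs

/-- The two homomorphisms extend to `SU_m`. -/
theorem exists_glue : ∃ f : ↥(SU m F q) →* G, (∀ (c : ↥(SU m F q)) (h : c ∈ stab D.eL), f c = D.A ⟨c, h⟩) ∧
    ∀ (c : ↥(SU m F q)) (h : c ∈ stab D.e0), f c = D.B ⟨c, h⟩ := by
  have hsurj : ∀ g : ↥(SU m F q), ∃ y, (g, y) ∈ D.hull := by
    intro g
    obtain ⟨c, hc, c1, c2⟩ := exists_unit_perp_two hF (by omega) D.hL (sv g D.eL)
    obtain ⟨a, ha, -, hA2⟩ := D.exists_adj hF hm 1 (w := c) hc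
      (by rw [show D.P 1 = D.eL from sv_one _]; exact herm_eq_zero_comm hF c1)
    obtain ⟨a', ha', -, hB2⟩ := D.exists_adj hF hm (1 * a * D.bh) (w := sv g D.eL) (by rw [sv_herm, D.hL])
      (by rw [hA2]; exact c2)
    set δ := 1 * a * D.bh * a' * D.bh with hδ
    have hmem : δ ∈ D.hull := D.hull.mul_mem (D.hull.mul_mem (D.hull.mul_mem (D.hull.mul_mem D.hull.one_mem
      (Subgroup.mem_sup_left ha)) (Subgroup.mem_sup_right D.bh_mem)) (Subgroup.mem_sup_left ha'))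
      (Subgroup.mem_sup_right D.bh_mem)
    have hst : δ.1⁻¹ * g ∈ stab D.eL := by
      rw [mem_stab, sv_mul, show sv g D.eL = sv δ.1 D.eL from hB2.symm, sv_inv_sv]
    refine ⟨δ.2 * D.A ⟨_, hst⟩, ?_⟩
    have h := D.hull.mul_mem hmem (Subgroup.mem_sup_left (D.mem_gA_of hst))
    convert h using 1
    exact Prod.ext (by simp) rfl
  choose φ hφ using hsurj
  have huniq : ∀ g y, (g, y) ∈ D.hull → y = φ g := by
    intro g y hy
    have h := D.hull.mul_mem (D.hull.inv_mem (hφ g)) hy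
    have h1 := hull_inter D hF hm h (by simp [mem_stab, sv_one])
    have h2 := D.gA_eq h1 D.gA.one_mem (by simp)
    have h3 := congrArg Prod.snd h2
    simp only [Prod.snd_mul, Prod.snd_inv, Prod.snd_one] at h3
    exact (inv_mul_eq_one.1 h3).symm
  exact ⟨MonoidHom.mk' φ fun g g' => (huniq _ _ (D.hull.mul_mem (hφ g) (hφ g'))).symm,
    fun c h => (huniq _ _ (Subgroup.mem_sup_left (D.mem_gA_of h))).symm,
    fun c h => (huniq _ _ (Subgroup.mem_sup_right (D.mem_gB_of h))).symm⟩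

end Amalgam

end CfsgLib.Phan
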