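import Mathlib
import Cfsg.Agent.Phan.Contract

/-!
# `SU_2(q)` and the two block subgroups of `SU_3(q)`
-/

set_option autoImplicit false

namespace CfsgLib.Phan

open Cfsg CfsgLib.Unitary

/-- The window on the first two coordinates. -/
def w01 : Fin 2 ↪ Fin 3 := win 0 (by omega)

/-- The window on the last two coordinates. -/
def w12 : Fin 2 ↪ Fin 3 := win 1 (by omega)

variable {F : Type*} [Field F] [Fintype F] {q : ℕ} (hF : Fintype.card F = q ^ 2)
include hF

omit hF in
/-- The matrix of an element of `SU`. -/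
def mat {m : ℕ} (A : ↥(SU m F q)) : Matrix (Fin m) (Fin m) F := (A : Matrix.SpecialLinearGroup (Fin m) F).1

omit hF in
omit [Fintype F] in
theorem mat_ext {m : ℕ} {A B : ↥(SU m F q)} (h : mat A = mat B) : A = B := Subtype.ext (Subtype.ext h)

omit hF in
omit [Fintype F] in
theorem mat_mul {m : ℕ} (A B : ↥(SU m F q)) : mat (A * B) = mat A * mat B := rfl

omit hF in
omit [Fintype F] in
theorem sv_single {m : ℕ} (A : ↥(SU m F q)) (i j : Fin m) : sv A (Pi.single j 1) i = mat A i j := by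
  simp [sv, mat, Matrix.mulVec_single]

/-- The matrix of an element of `SU_2`. -/
theorem su_two_entries (u : ↥(SU 2 F q)) :
    mat u 1 0 = -(mat u 0 1) ^ q ∧ mat u 1 1 = (mat u 0 0) ^ q ∧
      (mat u 0 0) ^ (q + 1) + (mat u 0 1) ^ (q + 1) = 1 := by
  have hdet : (mat u).det = 1 := (u : Matrix.SpecialLinearGroup (Fin 2) F).2
  have h1 : cjT q (mat u) * mat u = 1 := cjT_mul_self hF u
  have h2 : mat u * (mat u).adjugate = 1 := by rw [Matrix.mul_adjugate, hdet, one_smul]
  have h3 : cjT q (mat u) = (mat u).adjugate := left_inv_eq_right_inv h1 h2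
  have h4 := congrFun (congrFun h3 0) 0
  have h5 := congrFun (congrFun h3 1) 0
  simp only [cjT, Matrix.adjugate_fin_two, Matrix.map_apply, Matrix.transpose_apply, Matrix.of_apply,
    Matrix.cons_val', Matrix.cons_val_zero, Matrix.cons_val_one, Matrix.cons_val_fin_one, Matrix.empty_val'] at h4 h5
  have e10 : mat u 1 0 = -(mat u 0 1) ^ q := by rw [h5, neg_neg]
  refine ⟨e10, h4.symm, ?_⟩
  rw [Matrix.det_fin_two, ← h4, e10] at hdet
  rw [← hdet]; ring

theorem su_two_ext {u v : ↥(SU 2 F q)} (h0 : mat u 0 0 = mat v 0 0) (h1 : mat u 0 1 = mat v 0 1) : u = v := by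
  refine mat_ext ?_
  obtain ⟨a, b, -⟩ := su_two_entries hF u
  obtain ⟨c, d, -⟩ := su_two_entries hF v
  ext i j
  fin_cases i <;> fin_cases j
  · exact h0
  · exact h1
  · show mat u 1 0 = mat v 1 0
    rw [a, c, h1]
  · show mat u 1 1 = mat v 1 1
    rw [b, d, h0]

/-- `diag(a, a^q)` for `a` of norm one. -/
def diag2 (a : {x : F // x ^ (q + 1) = 1}) : ↥(SU 2 F q) :=
  ⟨⟨!![a.1, 0; 0, a.1 ^ q], by rw [Matrix.det_fin_two_of, mul_zero, sub_zero, ← pow_succ', a.2]⟩, mem_SU.2 (by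
    intro u v
    simp only [hermForm, Matrix.mulVec, dotProduct, Fin.sum_univ_two, Matrix.of_apply, Matrix.cons_val',
      Matrix.cons_val_zero, Matrix.cons_val_one, Matrix.cons_val_fin_one, Matrix.empty_val', zero_mul, add_zero,
      zero_add, mul_pow, pow_q_q hF]
    linear_combination (u 0 * v 0 ^ q + u 1 * v 1 ^ q) * a.2)⟩

/-- `(0, a; -a^q, 0)` for `a` of norm one. -/
def anti2 (a : {x : F // x ^ (q + 1) = 1}) : ↥(SU 2 F q) :=
  ⟨⟨!![0, a.1; -(a.1 ^ q), 0], by rw [Matrix.det_fin_two_of, mul_zero, zero_sub, mul_neg, neg_neg, ← pow_succ',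
      a.2]⟩, mem_SU.2 (by
    intro u v
    simp only [hermForm, Matrix.mulVec, dotProduct, Fin.sum_univ_two, Matrix.of_apply, Matrix.cons_val',
      Matrix.cons_val_zero, Matrix.cons_val_one, Matrix.cons_val_fin_one, Matrix.empty_val', zero_mul, add_zero,
      zero_add, mul_pow, neg_pow_q hF, pow_q_q hF, neg_mul]
    linear_combination (u 0 * v 0 ^ q + u 1 * v 1 ^ q) * a.2)⟩

theorem mat_diag2 (a : {x : F // x ^ (q + 1) = 1}) : mat (diag2 hF a) = !![a.1, 0; 0, a.1 ^ q] := rfl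

theorem mat_anti2 (a : {x : F // x ^ (q + 1) = 1}) : mat (anti2 hF a) = !![0, a.1; -(a.1 ^ q), 0] := rfl

theorem exists_diag2 {u : ↥(SU 2 F q)} (h : mat u 0 1 = 0) : ∃ a, u = diag2 hF a := by
  obtain ⟨-, -, h3⟩ := su_two_entries hF u
  rw [h, zero_pow (Nat.succ_ne_zero q), add_zero] at h3
  exact ⟨⟨_, h3⟩, su_two_ext hF rfl (by rw [h, mat_diag2]; rfl)⟩

theorem exists_anti2 {u : ↥(SU 2 F q)} (h : mat u 0 0 = 0) : ∃ a, u = anti2 hF a := by
  obtain ⟨-, -, h3⟩ := su_two_entries hF u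
  rw [h, zero_pow (Nat.succ_ne_zero q), zero_add] at h3
  exact ⟨⟨_, h3⟩, su_two_ext hF (by rw [h, mat_anti2]; rfl) rfl⟩

/-- The product of two norm one scalars. -/
def mulN (a b : {x : F // x ^ (q + 1) = 1}) : {x : F // x ^ (q + 1) = 1} :=
  ⟨a.1 * b.1, by rw [mul_pow, a.2, b.2, one_mul]⟩

omit hF in
/-- The scalar one. -/
def oneN : {x : F // x ^ (q + 1) = 1} := ⟨1, one_pow _⟩

theorem diag2_mul (a b : {x : F // x ^ (q + 1) = 1}) : diag2 hF a * diag2 hF b = diag2 hF (mulN a b) :=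
  su_two_ext hF (by simp [mat_mul, mat_diag2, mulN, Matrix.mul_apply, Fin.sum_univ_two])
    (by simp [mat_mul, mat_diag2, Matrix.mul_apply, Fin.sum_univ_two])

theorem diag2_mul_anti2 (a b : {x : F // x ^ (q + 1) = 1}) : diag2 hF a * anti2 hF b = anti2 hF (mulN a b) :=
  su_two_ext hF (by simp [mat_mul, mat_diag2, mat_anti2, Matrix.mul_apply, Fin.sum_univ_two])
    (by simp [mat_mul, mat_diag2, mat_anti2, mulN, Matrix.mul_apply, Fin.sum_univ_two])

theorem range_w01 : (emb hF w01 : ↥(SU 2 F q) →* ↥(SU 3 F q)).range = stab (F := F) (q := q) (Pi.single (2 : Fin 3) (1 : F)) := by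
  refine le_antisymm ?_ fun g hg => ?_
  · rintro _ ⟨u, rfl⟩
    exact sv_emb_single_of_notMem hF _ _ fun j => by fin_cases j <;> decide
  · obtain ⟨u, hu⟩ := exists_emb_eq hF w01 g fun r hr => by
      fin_cases r
      · exact absurd rfl (hr 0)
      · exact absurd rfl (hr 1)
      · exact hg
    exact ⟨u, hu⟩

theorem range_w12 : (emb hF w12 : ↥(SU 2 F q) →* ↥(SU 3 F q)).range = stab (F := F) (q := q) (Pi.single (0 : Fin 3) (1 : F)) := by
  refine le_antisymm ?_ fun g hg => ?_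
  · rintro _ ⟨u, rfl⟩
    exact sv_emb_single_of_notMem hF _ _ fun j => by fin_cases j <;> decide
  · obtain ⟨u, hu⟩ := exists_emb_eq hF w12 g fun r hr => by
      fin_cases r
      · exact hg
      · exact absurd rfl (hr 0)
      · exact absurd rfl (hr 1)
    exact ⟨u, hu⟩

/-- For `q ≥ 3` the two blocks generate `SU_3`. -/
theorem blocks_generate_three (hq : 3 ≤ q) (H : Subgroup ↥(SU 3 F q)) (hA : (emb hF w01).range ≤ H)
    (hB : (emb hF w12).range ≤ H) : H = ⊤ := by
  rw [range_w01 hF] at hA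
  rw [range_w12 hF] at hB
  set eL : Fin 3 → F := Pi.single 2 1
  set v1 : Fin 3 → F := Pi.single 1 1
  set e0 : Fin 3 → F := Pi.single 0 1
  have n1 : ∀ i : Fin 3, hermForm 3 F q (Pi.single i 1) (Pi.single i 1) = (1 : F) := fun i => by
    rw [herm_single_single hF, if_pos rfl]
  have n0 : ∀ i j : Fin 3, i ≠ j → hermForm 3 F q (Pi.single i 1) (Pi.single j 1) = (0 : F) := fun i j h => by
    rw [herm_single_single hF, if_neg h]
  obtain ⟨β, hβ⟩ := exists_SU_map_orthonorm hF (f := ![e0, eL]) (f' := ![e0, v1])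
    (orthonorm_two hF (n1 _) (n1 _) (n0 _ _ (by decide))) (orthonorm_two hF (n1 _) (n1 _) (n0 _ _ (by decide)))
    (by omega)
  let R : (Fin 3 → F) → Prop := fun w => ∃ g ∈ H, sv g eL = w
  have step : ∀ v w, R v → hermForm 3 F q v v = 1 → hermForm 3 F q w w = 1 → hermForm 3 F q v w = 0 → R w := by
    rintro v w ⟨g, hg, rfl⟩ hv hw hvw
    obtain ⟨a, ha⟩ := exists_SU_map_orthonorm hF (f := ![eL, v1]) (f' := ![eL, sv g⁻¹ w])
      (orthonorm_two hF (n1 _) (n1 _) (n0 _ _ (by decide)))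
      (orthonorm_two hF (n1 _) (by rw [sv_herm, hw]) (by rw [← sv_herm g, sv_sv_inv]; exact hvw)) (by omega)
    refine ⟨g * (a * β), H.mul_mem hg (H.mul_mem (hA (ha 0)) (hB (hβ 0))), ?_⟩
    rw [sv_mul, sv_mul, show sv β eL = v1 from hβ 1, show sv a v1 = sv g⁻¹ w from ha 1, sv_sv_inv]
  have near : ∀ v w, R v → hermForm 3 F q v v = 1 → hermForm 3 F q w w = 1 → NdPair q v w → R w := by
    intro v w hR hv hw hnd
    obtain ⟨c, hc, hcv, hcw⟩ : ∃ c, hermForm 3 F q c c = 1 ∧ hermForm 3 F q c v = 0 ∧ hermForm 3 F q c w = 0 := by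
      by_cases hz : proj q v w = 0
      · obtain ⟨c, -, hc, hcv⟩ := exists_orthonorm_next hF (isNondeg_top hF) (orthonorm_one hv) (fun _ => trivial)
          (by simp)
        exact ⟨c, hc, hcv 0, herm_perp_of_decomp hF (p := v) (hcv 0) (by rw [hz, herm_zero_right hF])⟩
      have hN : hermForm 3 F q (proj q v w) (proj q v w) ≠ 0 := by
        rw [herm_proj_self hF hv hw, sub_ne_zero]
        rcases hnd with h | h
        · exact absurd (sub_eq_zero.2 h) hz
        · exact fun h' => h h'.symm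
      obtain ⟨t, ht⟩ := exists_norm_eq hF (a := (hermForm 3 F q (proj q v w) (proj q v w))⁻¹)
        (by rw [inv_pow_q, herm_self_fixed hF])
      have ht0 : t ≠ 0 := by
        intro h0
        rw [h0, zero_pow (Nat.succ_ne_zero q)] at ht
        exact inv_ne_zero hN ht.symm
      have hf : Orthonorm q ![v, t • proj q v w] := orthonorm_two hF hv
        (by rw [herm_self_smul, ht, inv_mul_cancel₀ hN])
        (by rw [herm_smul_right, herm_eq_zero_comm hF (proj_perp hv), mul_zero])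
      obtain ⟨c, -, hc, hcf⟩ := exists_orthonorm_next hF (isNondeg_top hF) hf (fun _ => trivial) (by simp)
      have h1 : hermForm 3 F q c (t • proj q v w) = 0 := hcf 1
      rw [herm_smul_right, mul_eq_zero] at h1
      exact ⟨c, hc, hcf 0, herm_perp_of_decomp hF (hcf 0) (h1.resolve_left (pow_ne_zero _ ht0))⟩
    exact step c w (step v c hR hv hc (herm_eq_zero_comm hF hcv)) hc hw hcw
  have hR0 : R eL := ⟨1, H.one_mem, sv_one _⟩
  refine eq_top_iff.2 fun g _ => ?_
  have hg1 : hermForm 3 F q (sv g eL) (sv g eL) = 1 := by rw [sv_herm]; exact n1 _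
  obtain ⟨h, hh, he⟩ : R (sv g eL) := by
    by_cases hnd : NdPair q eL (sv g eL)
    · exact near _ _ hR0 (n1 _) hg1 hnd
    simp only [NdPair, not_or, not_not] at hnd
    have hzz : hermForm 3 F q (proj q eL (sv g eL)) (proj q eL (sv g eL)) = 0 := by
      rw [herm_proj_self hF (n1 _) hg1, hnd.2, sub_self]
    obtain ⟨s, hs, hs1, hsz⟩ := exists_unit_avoid hF hq (P := perpFam q ![eL]) (z := proj q eL (sv g eL)) (u := v1)
      ((mem_perpFam hF).2 fun i => by fin_cases i; exact proj_perp (n1 _)) hzz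
      ((mem_perpFam hF).2 fun i => by fin_cases i; exact n0 _ _ (by decide)) (n1 _)
    have hse : hermForm 3 F q s eL = 0 := (mem_perpFam hF).1 hs 0
    refine near s _ (step eL s hR0 (n1 _) hs1 (herm_eq_zero_comm hF hse)) hs1 hg1 (Or.inr fun h => hsz ?_)
    have h1 : hermForm 3 F q (sv g eL) s = hermForm 3 F q s (proj q eL (sv g eL)) ^ q := by
      rw [herm_proj_right hF, hse, mul_zero, sub_zero, ← herm_conj hF s (sv g eL)]
    rwa [h1, ← pow_mul, mul_comm, pow_mul, norm_pow_q hF] at h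
  have hs : h⁻¹ * g ∈ stab (q := q) eL := by rw [mem_stab, sv_mul, ← he, sv_inv_sv]
  have := H.mul_mem hh (hA hs)
  rwa [mul_inv_cancel_left] at this

end CfsgLib.Phan
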