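import Mathlib
import Cfsg.Agent.Phan.Small

/-!
# Endomorphisms of `SU_3(q)`, `q ≤ 3`, preserving the two blocks
-/

set_option autoImplicit false

namespace CfsgLib.Phan

open Cfsg CfsgLib.Unitary Matrix

variable {F : Type*} [Field F] [Fintype F] {q m k : ℕ} (hF : Fintype.card F = q ^ 2)
include hF

theorem map_preserves (σ : F ≃+* F) (A : ↥(SU m F q)) (u v : Fin m → F) :
    hermForm m F q (((mat A).map σ).mulVec u) (((mat A).map σ).mulVec v) = hermForm m F q u v := by
  refine (preserves_iff_cjT hF _).2 ?_ u v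
  have h : cjT q ((mat A).map σ) = (cjT q (mat A)).map σ := by
    ext i j; simp [cjT, map_pow]
  rw [h, ← Matrix.map_mul, show cjT q (mat A) * mat A = 1 from cjT_mul_self hF A,
    Matrix.map_one _ (map_zero σ) (map_one σ)]

/-- Conjugation by a diagonal unitary matrix composed with a field automorphism. -/
def twist (d : Fin m → {x : F // x ^ (q + 1) = 1}) (σ : F ≃+* F) : ↥(SU m F q) →* ↥(SU m F q) where
  toFun A := ⟨⟨Matrix.diagonal (fun i => (d i).1) * (mat A).map σ * Matrix.diagonal (fun i => (d i).1 ^ q), by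
      rw [Matrix.det_mul, Matrix.det_mul, Matrix.det_diagonal, Matrix.det_diagonal,
        show ((mat A).map σ).det = σ (mat A).det from (RingHom.map_det σ.toRingHom _).symm,
        show (mat A).det = 1 from (A : Matrix.SpecialLinearGroup (Fin m) F).2, map_one, mul_one,
        ← Finset.prod_mul_distrib]
      exact Finset.prod_eq_one fun i _ => by rw [← pow_succ', (d i).2]⟩, mem_SU.2 (by
    intro u v
    simp only [← Matrix.mulVec_mulVec]
    rw [diagonal_preserves _ (fun i => (d i).2), map_preserves hF σ A,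
      diagonal_preserves _ (fun i => by rw [← pow_mul, mul_comm, pow_mul, (d i).2, one_pow])])⟩
  map_one' := mat_ext (by
    show _ * (1 : Matrix (Fin m) (Fin m) F).map σ * _ = 1
    rw [Matrix.map_one _ (map_zero σ) (map_one σ), Matrix.mul_one, Matrix.diagonal_mul_diagonal, ← Matrix.diagonal_one]
    exact congrArg Matrix.diagonal (funext fun i => by rw [← pow_succ', (d i).2]))
  map_mul' A B := mat_ext (by
    show _ * (mat A * mat B).map σ * _ = (_ * (mat A).map σ * _) * (_ * (mat B).map σ * _)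
    rw [Matrix.map_mul]
    have h : Matrix.diagonal (fun i => (d i).1 ^ q) * Matrix.diagonal (fun i => (d i).1) = 1 := by
      rw [Matrix.diagonal_mul_diagonal, ← Matrix.diagonal_one]
      exact congrArg Matrix.diagonal (funext fun i => by rw [← pow_succ, (d i).2])
    simp only [Matrix.mul_assoc]
    rw [← Matrix.mul_assoc (Matrix.diagonal fun i => (d i).1 ^ q), h, Matrix.one_mul])

theorem mat_twist (d : Fin m → {x : F // x ^ (q + 1) = 1}) (σ : F ≃+* F) (A : ↥(SU m F q)) :
    mat (twist hF d σ A) = Matrix.diagonal (fun i => (d i).1) * (mat A).map σ *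
      Matrix.diagonal (fun i => (d i).1 ^ q) := rfl

theorem mat_twist_apply (d : Fin m → {x : F // x ^ (q + 1) = 1}) (σ : F ≃+* F) (A : ↥(SU m F q)) (i j : Fin m) :
    mat (twist hF d σ A) i j = (d i).1 * σ (mat A i j) * (d j).1 ^ q := by
  simp [mat_twist, Matrix.diagonal_mul, Matrix.mul_diagonal]

theorem twist_injective (d : Fin m → {x : F // x ^ (q + 1) = 1}) (σ : F ≃+* F) :
    Function.Injective (twist hF d σ) := by
  intro A B h
  refine mat_ext (Matrix.ext fun i j => ?_)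
  have hne : ∀ i, (d i).1 ≠ 0 := fun i h0 => by
    have := (d i).2
    rw [h0, zero_pow (Nat.succ_ne_zero q)] at this
    exact zero_ne_one this
  have h' := congrArg (fun X => mat X i j) h
  simp only [mat_twist_apply] at h'
  exact σ.injective (mul_left_cancel₀ (hne i) (mul_right_cancel₀ (pow_ne_zero _ (hne j)) h'))

theorem twist_emb (f : Fin k ↪ Fin m) (d : Fin m → {x : F // x ^ (q + 1) = 1}) (σ : F ≃+* F) (A : ↥(SU k F q)) :
    twist hF d σ (emb hF f A) = emb hF f (twist hF (fun i => d (f i)) σ A) := by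
  refine mat_ext ?_
  have h1 : ∀ (e : Fin m → F), Matrix.diagonal e * incl F f = incl F f * Matrix.diagonal (fun i => e (f i)) := by
    intro e
    ext i j
    simp only [Matrix.diagonal_mul, Matrix.mul_diagonal, incl_apply]
    split
    · next h => subst h; ring
    · ring
  have h2 : ∀ (e : Fin m → F), (incl F f)ᵀ * Matrix.diagonal e = Matrix.diagonal (fun i => e (f i)) * (incl F f)ᵀ := by
    intro e
    have h := congrArg Matrix.transpose (h1 e)
    simpa [Matrix.transpose_mul] using h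
  have hP : (incl F f).map σ = incl F f := by
    ext i j
    simp only [Matrix.map_apply, incl_apply]
    split <;> simp
  have hPT : (incl F f)ᵀ.map σ = (incl F f)ᵀ := by rw [Matrix.transpose_map, hP]
  show Matrix.diagonal _ * (extM f (mat A)).map σ * Matrix.diagonal _ = extM f (mat (twist hF _ σ A))
  rw [mat_twist]
  simp only [extM]
  rw [Matrix.map_add _ (map_add σ), Matrix.map_mul, Matrix.map_mul, hP, hPT,
    Matrix.map_one _ (map_zero σ) (map_one σ), Matrix.map_sub _ (map_sub σ), Matrix.map_one _ (map_zero σ) (map_one σ)]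
  have h0 : ∀ {n : ℕ} (e : Fin n → {x : F // x ^ (q + 1) = 1}),
      Matrix.diagonal (fun i => (e i).1) * Matrix.diagonal (fun i => (e i).1 ^ q) = 1 := by
    intro n e
    rw [Matrix.diagonal_mul_diagonal, ← Matrix.diagonal_one]
    exact congrArg Matrix.diagonal (funext fun i => by rw [← pow_succ', (e i).2])
  rw [Matrix.mul_add, Matrix.add_mul, Matrix.mul_one, h0]
  congr 1
  rw [← Matrix.mul_assoc, ← Matrix.mul_assoc, h1, Matrix.mul_assoc _ (incl F f)ᵀ, h2, ← Matrix.mul_assoc,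
    Matrix.mul_sub, Matrix.sub_mul, Matrix.mul_one, Matrix.mul_assoc (incl F f), Matrix.mul_assoc (incl F f)]
  rw [← Matrix.mul_assoc, Matrix.mul_assoc (incl F f)]
  rw [← h0 (fun i => d (f i))]
  simp only [Matrix.mul_assoc, Matrix.mul_sub, Matrix.sub_mul, Matrix.mul_one, Matrix.one_mul]

theorem twist_diag2 (d : Fin 2 → {x : F // x ^ (q + 1) = 1}) (σ : F ≃+* F) (a b : {x : F // x ^ (q + 1) = 1})
    (hb : b.1 = σ a.1) : twist hF d σ (diag2 hF a) = diag2 hF b := by
  refine su_two_ext hF ?_ ?_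
  · rw [mat_twist_apply, mat_diag2, mat_diag2]
    show (d 0).1 * σ a.1 * (d 0).1 ^ q = b.1
    rw [hb]
    linear_combination (σ a.1) * (d 0).2
  · rw [mat_twist_apply, mat_diag2, mat_diag2]
    show (d 0).1 * σ 0 * _ = 0
    rw [map_zero, mul_zero, zero_mul]

theorem twist_anti2 (d : Fin 2 → {x : F // x ^ (q + 1) = 1}) (σ : F ≃+* F) (a b : {x : F // x ^ (q + 1) = 1})
    (hb : b.1 = (d 0).1 * σ a.1 * (d 1).1 ^ q) : twist hF d σ (anti2 hF a) = anti2 hF b := by
  refine su_two_ext hF ?_ ?_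
  · rw [mat_twist_apply, mat_anti2, mat_anti2]
    show (d 0).1 * σ 0 * _ = 0
    rw [map_zero, mul_zero, zero_mul]
  · rw [mat_twist_apply, mat_anti2, mat_anti2]
    exact hb.symm

/-- The conjugation automorphism of the field. -/
noncomputable def conjEquiv : F ≃+* F :=
  RingEquiv.ofBijective (conjHom hF) (Function.Involutive.bijective fun x => pow_q_q hF x)

theorem norm_one_ne_zero (a : {x : F // x ^ (q + 1) = 1}) : a.1 ≠ 0 := fun h => by
  have := a.2
  rw [h, zero_pow (Nat.succ_ne_zero q)] at this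
  exact zero_ne_one this

theorem pow_q_ne {a : {x : F // x ^ (q + 1) = 1}} (ha : a.1 ^ 2 ≠ 1) : a.1 ^ q ≠ a.1 := fun h => ha (by
  have := a.2
  rw [pow_succ, h] at this
  rwa [sq])

theorem eq_diag2_of_commute {u : ↥(SU 2 F q)} {a : {x : F // x ^ (q + 1) = 1}} (ha : a.1 ^ 2 ≠ 1)
    (h : u * diag2 hF a = diag2 hF a * u) : ∃ b, u = diag2 hF b := by
  refine exists_diag2 hF ?_
  have h' := congrArg (fun X => mat X 0 1) h
  simp [mat_mul, mat_diag2, Matrix.mul_apply, Fin.sum_univ_two] at h'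
  by_contra h0
  exact pow_q_ne hF ha (mul_left_cancel₀ h0 (by first | linear_combination h' | linear_combination -h'))

theorem eq_anti2_of_invert {u : ↥(SU 2 F q)} {a b : {x : F // x ^ (q + 1) = 1}} (ha : a.1 ^ 2 ≠ 1)
    (hb : b.1 = a.1 ^ q) (h : u * diag2 hF a = diag2 hF b * u) : ∃ c, u = anti2 hF c := by
  refine exists_anti2 hF ?_
  have h' := congrArg (fun X => mat X 0 0) h
  simp [mat_mul, mat_diag2, Matrix.mul_apply, Fin.sum_univ_two, hb] at h'
  by_contra h0
  have h2 : a.1 * mat u 0 0 = a.1 ^ q * mat u 0 0 := by rw [mul_comm]; exact h'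
  exact pow_q_ne hF ha (mul_right_cancel₀ h0 h2).symm

theorem anti2_mul_diag2 (a b : {x : F // x ^ (q + 1) = 1}) (hb : b.1 = a.1 ^ q) (c : {x : F // x ^ (q + 1) = 1}) :
    anti2 hF c * diag2 hF a = diag2 hF b * anti2 hF c :=
  su_two_ext hF (by simp [mat_mul, mat_diag2, mat_anti2, Matrix.mul_apply, Fin.sum_univ_two])
    (by simp [mat_mul, mat_diag2, mat_anti2, Matrix.mul_apply, Fin.sum_univ_two, hb]; ring)

theorem exists_gen (hq : q = 2 ∨ q = 3) : ∃ μ : {x : F // x ^ (q + 1) = 1}, μ.1 ^ 2 ≠ 1 ∧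
    ∀ a : {x : F // x ^ (q + 1) = 1}, ∃ i, i < q + 1 ∧ μ.1 ^ i = a.1 := by
  obtain ⟨t, ht, ht2⟩ := exists_norm_one_ne_inv hF
  refine ⟨⟨t, ht⟩, ht2, fun a => ?_⟩
  have hord : orderOf t = q + 1 := by
    have hd := orderOf_dvd_of_pow_eq_one ht
    have h1 : ¬ orderOf t ∣ 2 := fun h => ht2 (orderOf_dvd_iff_pow_eq_one.1 h)
    have hle := Nat.le_of_dvd (by omega) hd
    rcases hq with rfl | rfl <;> interval_cases h : orderOf t <;> simp_all
  obtain ⟨i, hi, hia⟩ := (hord ▸ IsPrimitiveRoot.orderOf t).eq_pow_of_pow_eq_one a.2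
  exact ⟨i, hi, hia⟩

theorem diag2_pow (a : {x : F // x ^ (q + 1) = 1}) (i : ℕ) :
    diag2 hF a ^ i = diag2 hF ⟨a.1 ^ i, by rw [← pow_mul, mul_comm, pow_mul, a.2, one_pow]⟩ := by
  induction i with
  | zero => exact su_two_ext hF (by simp [mat, mat_diag2, diag2]) (by simp [mat, diag2])
  | succ i ih =>
    rw [pow_succ, ih, diag2_mul]
    exact congrArg (diag2 hF) (Subtype.ext (pow_succ _ _).symm)

theorem trace_eq (u : ↥(SU 2 F q)) : (mat u).trace = mat u 0 0 + mat u 0 0 ^ q := by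
  rw [Matrix.trace_fin_two, (su_two_entries hF u).2.1]

/-- An endomorphism of `SU_2(q)`, `q ≤ 3`, fixing the monomial elements is trivial. -/
theorem eq_id_of_fix_mono (hq : q = 2 ∨ q = 3) (φ : ↥(SU 2 F q) →* ↥(SU 2 F q))
    (hd : ∀ a, φ (diag2 hF a) = diag2 hF a) (hs : ∀ a, φ (anti2 hF a) = anti2 hF a) (u : ↥(SU 2 F q)) : φ u = u := by
  obtain ⟨-, -, hN⟩ := su_two_entries hF u
  rcases hq with hq | hq
  · have h01 : ∀ x : F, x ^ (q + 1) = 0 ∨ x ^ (q + 1) = 1 := by
      intro x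
      have h := norm_pow_q hF x
      generalize x ^ (q + 1) = N at h ⊢
      rw [hq] at h
      rcases eq_or_ne N 0 with h0 | h0
      · exact Or.inl h0
      · exact Or.inr (mul_left_cancel₀ h0 (by rw [mul_one, ← sq]; exact h))
    rcases h01 (mat u 0 1) with hb | hb
    · obtain ⟨a, rfl⟩ := exists_diag2 hF (pow_eq_zero_iff (Nat.succ_ne_zero q) |>.1 hb); exact hd a
    · rw [hb, add_eq_right] at hN
      obtain ⟨a, rfl⟩ := exists_anti2 hF (pow_eq_zero_iff (Nat.succ_ne_zero q) |>.1 hN); exact hs a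
  -- q = 3
  subst hq
  have mono : ∀ v : ↥(SU 2 F 3), (mat v).trace = 0 → φ v = v := by
    intro v hv
    rw [trace_eq hF] at hv
    obtain ⟨-, -, hNv⟩ := su_two_entries hF v
    rcases eq_or_ne (mat v 0 0) 0 with h0 | h0
    · obtain ⟨a, rfl⟩ := exists_anti2 hF h0; exact hs a
    · have h2 : mat v 0 0 ^ 2 = -1 := by
        have : mat v 0 0 * (mat v 0 0 ^ 2 + 1) = 0 := by
          rw [← hv]; ring
        exact eq_neg_of_add_eq_zero_left ((mul_eq_zero.1 this).resolve_left h0)
      have h4 : mat v 0 0 ^ (3 + 1) = 1 := by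
        rw [show mat v 0 0 ^ (3 + 1) = (mat v 0 0 ^ 2) ^ 2 by ring, h2]; ring
      rw [h4, add_eq_left] at hNv
      obtain ⟨a, rfl⟩ := exists_diag2 hF (pow_eq_zero_iff (Nat.succ_ne_zero 3) |>.1 hNv); exact hd a
  obtain ⟨μ, hμ, -⟩ := exists_gen hF (Or.inr rfl)
  have hμq : (μ.1 ^ 2) = -1 := by
    have h := μ.2
    have : (μ.1 ^ 2 - 1) * (μ.1 ^ 2 + 1) = 0 := by
      linear_combination h
    exact eq_neg_of_add_eq_zero_left ((mul_eq_zero.1 this).resolve_left (sub_ne_zero.2 hμ))
  set z := u⁻¹ * φ u with hz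
  have hcomm : ∀ g, φ g = g → (mat g).trace = 0 → z * g = g * z := by
    intro g hg htr
    have h1 : (mat (u * g * u⁻¹)).trace = 0 := by
      rw [mat_mul, mat_mul, Matrix.trace_mul_cycle, ← mat_mul, inv_mul_cancel]
      simpa using (show (mat (1 : ↥(SU 2 F 3)) * mat g).trace = 0 by rw [← mat_mul, one_mul]; exact htr)
    have h2 := mono _ h1
    rw [map_mul, map_mul, map_inv, hg] at h2
    calc z * g = u⁻¹ * (φ u * g * (φ u)⁻¹) * φ u := by rw [hz]; group
      _ = g * z := by rw [h2, hz]; group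
  obtain ⟨c, hc⟩ := eq_diag2_of_commute hF hμ (hcomm _ (hd μ) (by
    rw [trace_eq hF, mat_diag2]
    show μ.1 + μ.1 ^ 3 = 0
    rw [show μ.1 ^ 3 = μ.1 * μ.1 ^ 2 by ring, hμq]; ring))
  have hc1 := congrArg (fun X => mat X 0 1) (hcomm _ (hs oneN) (by
    rw [trace_eq hF, mat_anti2]
    show (0 : F) + 0 ^ 3 = 0
    rw [zero_pow (by omega), add_zero]))
  simp [hc, mat_mul, mat_diag2, mat_anti2, oneN, Matrix.mul_apply, Fin.sum_univ_two] at hc1
  have hc2 : c.1 ^ 2 = 1 := by
    have h := c.2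
    rw [pow_succ, ← hc1] at h
    rwa [sq]
  have hzc : Commute u z := by
    show u * z = z * u
    refine mat_ext (Matrix.ext fun i j => ?_)
    rw [hc, mat_mul, mat_mul, mat_diag2, Matrix.mul_apply, Matrix.mul_apply, Fin.sum_univ_two, Fin.sum_univ_two]
    fin_cases i <;> fin_cases j <;> simp [← hc1, mul_comm]
  obtain ⟨t, ht, htr⟩ : ∃ t : F, (t = 0 ∨ t = 1 ∨ t = -1) ∧ (mat u).trace = t := by
    refine ⟨_, ?_, rfl⟩
    have hfix : (mat u).trace ^ 3 = (mat u).trace := by rw [trace_eq hF, trace_pow_q hF]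
    generalize (mat u).trace = t at hfix
    have : t * (t - 1) * (t + 1) = 0 := by linear_combination hfix
    rcases mul_eq_zero.1 this with h | h
    · rcases mul_eq_zero.1 h with h | h
      · exact Or.inl h
      · exact Or.inr (Or.inl (sub_eq_zero.1 h))
    · exact Or.inr (Or.inr (eq_neg_of_add_eq_zero_left h))
  rcases ht with rfl | ht
  · exact mono u htr
  have hdet : (mat u).det = 1 := (u : Matrix.SpecialLinearGroup (Fin 2) F).2
  rw [Matrix.det_fin_two] at hdet
  rw [Matrix.trace_fin_two] at htr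
  have hsq : mat u * mat u = t • mat u - 1 := by
    ext i j
    fin_cases i <;> fin_cases j <;> simp [Matrix.mul_apply, Fin.sum_univ_two]
    · linear_combination mat u 0 0 * htr - hdet
    · linear_combination mat u 0 1 * htr
    · linear_combination mat u 1 0 * htr
    · linear_combination mat u 1 1 * htr - hdet
  have ht2 : t ^ 2 = 1 := by rcases ht with rfl | rfl <;> ring
  have hcube : mat (u ^ 3) = -(t • (1 : Matrix (Fin 2) (Fin 2) F)) := by
    rw [pow_succ, pow_two, mat_mul, mat_mul, hsq, Matrix.sub_mul, Matrix.smul_mul, hsq, smul_sub, smul_smul,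
      ← sq, ht2, one_smul, Matrix.one_mul]
    abel
  have hu3 : φ (u ^ 3) = u ^ 3 := by
    obtain ⟨e, he⟩ := exists_diag2 hF (u := u ^ 3) (by rw [hcube]; simp)
    rw [he]; exact hd e
  have hz3 : z ^ 3 = 1 := by
    have h1 : φ u = u * z := by rw [hz, mul_inv_cancel_left]
    rw [map_pow, h1, hzc.mul_pow] at hu3
    exact mul_eq_left.1 hu3
  have hc3 : c.1 ^ 3 = 1 := by
    rw [hc, diag2_pow] at hz3
    have h := congrArg (fun X => mat X 0 0) hz3
    simp only [mat_diag2] at h
    simpa [mat] using h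
  have hc0 : c.1 = 1 := by linear_combination hc3 - c.1 * hc2
  have : z = 1 := by
    rw [hc]
    refine su_two_ext hF ?_ ?_ <;> simp [mat, diag2, hc0]
  rw [← mul_one u]
  nth_rewrite 2 [← this]
  rw [hz, mul_one, mul_inv_cancel_left]

/-- The vectors `c e_j`. -/
def IsMono (q : ℕ) (w : Fin 3 → F) : Prop := ∃ (j : Fin 3) (c : F), c ^ (q + 1) = 1 ∧ w = Pi.single j c

theorem isMono_or_full (hq : q = 2) {w : Fin 3 → F} (hw : hermForm 3 F q w w = 1) :
    IsMono q w ∨ ∀ i, w i ^ (q + 1) = 1 := by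
  have h01 : ∀ x : F, x = 0 ∨ x ^ (q + 1) = 1 := by
    intro x
    rcases eq_or_ne x 0 with h | h
    · exact Or.inl h
    refine Or.inr ?_
    have h' := norm_pow_q hF x
    generalize hN : x ^ (q + 1) = N at h' ⊢
    rw [hq] at h'
    refine mul_left_cancel₀ (a := N) (by rw [← hN]; exact pow_ne_zero _ h) ?_
    rw [mul_one, ← sq]; exact h'
  have h2 : (1 : F) + 1 = 0 := by
    have := neg_one_pow_succ hF
    rw [hq] at this
    linear_combination -this
  simp only [hermForm, Fin.sum_univ_three, ← pow_succ'] at hw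
  rcases h01 (w 0) with a | a <;> rcases h01 (w 1) with b | b <;> rcases h01 (w 2) with c | c <;>
    simp only [a, b, c, zero_pow (Nat.succ_ne_zero q), add_zero, zero_add, h2] at hw
  · exact absurd hw zero_ne_one
  · exact Or.inl ⟨2, w 2, c, funext fun i => by fin_cases i <;> simp [a, b]⟩
  · exact Or.inl ⟨1, w 1, b, funext fun i => by fin_cases i <;> simp [a, c]⟩
  · exact absurd hw zero_ne_one
  · exact Or.inl ⟨0, w 0, a, funext fun i => by fin_cases i <;> simp [b, c]⟩
  · exact absurd hw zero_ne_one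
  · exact absurd hw zero_ne_one
  · exact Or.inr fun i => by fin_cases i <;> assumption

/-- The subgroup generated by the two blocks. -/
def blockHull : Subgroup ↥(SU 3 F q) := (emb hF w01).range ⊔ (emb hF w12).range

theorem mem_blockHull_left (u : ↥(SU 2 F q)) : emb hF w01 u ∈ blockHull hF := Subgroup.mem_sup_left ⟨u, rfl⟩

theorem mem_blockHull_right (u : ↥(SU 2 F q)) : emb hF w12 u ∈ blockHull hF := Subgroup.mem_sup_right ⟨u, rfl⟩

theorem sv_w01 (u : ↥(SU 2 F q)) (w : Fin 3 → F) :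
    sv (emb hF w01 u) w = ![mat u 0 0 * w 0 + mat u 0 1 * w 1, mat u 1 0 * w 0 + mat u 1 1 * w 1, w 2] := by
  have key : ∀ v : Fin 2 → F, (incl F w01).mulVec v = ![v 0, v 1, 0] := by
    intro v
    funext i
    fin_cases i
    · exact incl_mulVec_apply w01 v 0
    · exact incl_mulVec_apply w01 v 1
    · exact incl_mulVec_apply_of_notMem w01 v (by decide)
  have hw : w = (incl F w01).mulVec ![w 0, w 1] + Pi.single 2 (w 2) := by
    rw [key]; funext i; fin_cases i <;> simp
  conv_lhs => rw [hw, sv_add, sv_emb_incl, sv_emb_fix hF w01 u (u := Pi.single 2 (w 2))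
    (fun j => Pi.single_eq_of_ne (by fin_cases j <;> decide) _)]
  rw [key]
  funext i
  fin_cases i <;> simp [sv, mat, Matrix.mulVec, dotProduct, Fin.sum_univ_two]

theorem sv_w12 (u : ↥(SU 2 F q)) (w : Fin 3 → F) :
    sv (emb hF w12 u) w = ![w 0, mat u 0 0 * w 1 + mat u 0 1 * w 2, mat u 1 0 * w 1 + mat u 1 1 * w 2] := by
  have key : ∀ v : Fin 2 → F, (incl F w12).mulVec v = ![0, v 0, v 1] := by
    intro v
    funext i
    fin_cases i
    · exact incl_mulVec_apply_of_notMem w12 v (by decide)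
    · exact incl_mulVec_apply w12 v 0
    · exact incl_mulVec_apply w12 v 1
  have hw : w = (incl F w12).mulVec ![w 1, w 2] + Pi.single 0 (w 0) := by
    rw [key]; funext i; fin_cases i <;> simp
  conv_lhs => rw [hw, sv_add, sv_emb_incl, sv_emb_fix hF w12 u (u := Pi.single 0 (w 0))
    (fun j => Pi.single_eq_of_ne (by fin_cases j <;> decide) _)]
  rw [key]
  funext i
  fin_cases i <;> simp [sv, mat, Matrix.mulVec, dotProduct, Fin.sum_univ_two]

theorem exists_hull_move (j : Fin 3) (c : F) (hc : c ^ (q + 1) = 1) :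
    ∃ h ∈ blockHull hF, sv h (Pi.single (2 : Fin 3) (1 : F)) = Pi.single j c := by
  have hcq : (c ^ q) ^ (q + 1) = 1 := by rw [← pow_mul, mul_comm, pow_mul, hc, one_pow]
  fin_cases j
  · refine ⟨_, (blockHull hF).mul_mem (mem_blockHull_left hF (anti2 hF ⟨c, hc⟩))
      (mem_blockHull_right hF (anti2 hF oneN)), ?_⟩
    rw [sv_mul, sv_w12, sv_w01]
    funext i; fin_cases i <;> simp [mat_anti2, oneN]
  · refine ⟨_, mem_blockHull_right hF (anti2 hF ⟨c, hc⟩), ?_⟩
    rw [sv_w12]
    funext i; fin_cases i <;> simp [mat_anti2]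
  · refine ⟨_, mem_blockHull_right hF (diag2 hF ⟨c ^ q, hcq⟩), ?_⟩
    rw [sv_w12]
    funext i; fin_cases i <;> simp [mat_diag2, pow_q_q hF]

theorem mem_blockHull_of_mono {y : ↥(SU 3 F q)} (hy : IsMono q (sv y (Pi.single (2 : Fin 3) (1 : F)))) :
    y ∈ blockHull hF := by
  obtain ⟨j, c, hc, hjc⟩ := hy
  obtain ⟨h, hh, hhe⟩ := exists_hull_move hF j c hc
  have hA : h⁻¹ * y ∈ (emb hF w01).range := by
    rw [range_w01 hF, mem_stab, sv_mul, hjc, ← hhe, sv_inv_sv]
  have := (blockHull hF).mul_mem hh (Subgroup.mem_sup_left hA)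
  rwa [mul_inv_cancel_left] at this

theorem isMono_hull (hq : q = 2) {h : ↥(SU 3 F q)} (hh : h ∈ blockHull hF) :
    ∀ w : Fin 3 → F, IsMono q w → IsMono q (sv h w) := by
  have aux : ∀ (u : ↥(SU 2 F q)) (c : F), c ^ (q + 1) = 1 →
      (mat u 0 0 = 0 ∨ mat u 0 1 = 0) := by
    intro u c _
    obtain ⟨-, -, hN⟩ := su_two_entries hF u
    by_contra hne
    push Not at hne
    have h1 : ∀ x : F, x ≠ 0 → x ^ (q + 1) = 1 := by
      intro x hx
      have h' := norm_pow_q hF x
      generalize hN' : x ^ (q + 1) = N at h' ⊢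
      rw [hq] at h'
      refine mul_left_cancel₀ (a := N) (by rw [← hN']; exact pow_ne_zero _ hx) ?_
      rw [mul_one, ← sq]; exact h'
    rw [h1 _ hne.1, h1 _ hne.2] at hN
    exact one_ne_zero (add_eq_left.1 hN)
  have step : ∀ (u : ↥(SU 2 F q)), ∀ w, IsMono q w →
      IsMono q (sv (emb hF w01 u) w) ∧ IsMono q (sv (emb hF w12 u) w) := by
    rintro u w ⟨j, c, hc, rfl⟩
    have hunit : ∀ {v : Fin 3 → F}, hermForm 3 F q v v = 1 → (∃ i, v i = 0) → IsMono q v := by
      intro v hv ⟨i, hi⟩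
      rcases isMono_or_full hF hq hv with h | h
      · exact h
      · exact absurd (h i) (by rw [hi, zero_pow (Nat.succ_ne_zero q)]; exact zero_ne_one)
    have hw : hermForm 3 F q (Pi.single j c) (Pi.single j c) = 1 := by
      rw [hermForm, Finset.sum_eq_single j (fun i _ hi => by simp [hi]) (fun h => absurd (Finset.mem_univ j) h),
        Pi.single_eq_same, ← pow_succ', hc]
    constructor
    · refine hunit (by rw [sv_herm]; exact hw) ?_
      rw [sv_w01]
      rcases aux u c hc with h | h <;> fin_cases j <;> simp [h, (su_two_entries hF u).1, (su_two_entries hF u).2.1,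
        Fin.exists_fin_succ, zero_pow (show q ≠ 0 by omega)]
    · refine hunit (by rw [sv_herm]; exact hw) ?_
      rw [sv_w12]
      rcases aux u c hc with h | h <;> fin_cases j <;> simp [h, (su_two_entries hF u).1, (su_two_entries hF u).2.1,
        Fin.exists_fin_succ, zero_pow (show q ≠ 0 by omega)]
  rw [blockHull, Subgroup.sup_eq_closure] at hh
  induction hh using Subgroup.closure_induction'' with
  | mem g hg =>
    intro w hw
    rcases hg with ⟨u, rfl⟩ | ⟨u, rfl⟩
    · exact (step u w hw).1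
    · exact (step u w hw).2
  | inv_mem g hg =>
    intro w hw
    rcases hg with ⟨u, rfl⟩ | ⟨u, rfl⟩
    · rw [← map_inv]; exact (step u⁻¹ w hw).1
    · rw [← map_inv]; exact (step u⁻¹ w hw).2
  | one => intro w hw; rwa [sv_one]
  | mul x y _ _ hx hy => intro w hw; rw [sv_mul]; exact hx _ (hy w hw)

theorem card_blockHull (hq : q = 2) : Nat.card (blockHull hF) = 54 := by
  classical
  let mv : Fin 3 × {x : F // x ^ (q + 1) = 1} → ↥(SU 3 F q) := fun p => (exists_hull_move hF p.1 p.2.1 p.2.2).choose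
  have hmv : ∀ p, mv p ∈ blockHull hF ∧ sv (mv p) (Pi.single (2 : Fin 3) (1 : F)) = Pi.single p.1 p.2.1 :=
    fun p => (exists_hull_move hF p.1 p.2.1 p.2.2).choose_spec
  let Φ : (Fin 3 × {x : F // x ^ (q + 1) = 1}) × ↥(SU 2 F q) → blockHull hF := fun p =>
    ⟨mv p.1 * emb hF w01 p.2, (blockHull hF).mul_mem (hmv p.1).1 (mem_blockHull_left hF p.2)⟩
  have hΦ : Function.Bijective Φ := by
    constructor
    · rintro ⟨p, u⟩ ⟨p', u'⟩ h
      have h0 := congrArg Subtype.val h
      have hfix : ∀ v : ↥(SU 2 F q), sv (emb hF w01 v) (Pi.single (2 : Fin 3) (1 : F)) = Pi.single 2 1 := fun v => by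
        have : emb hF w01 v ∈ stab (F := F) (q := q) (Pi.single (2 : Fin 3) (1 : F)) := range_w01 hF ▸ ⟨v, rfl⟩
        exact this
      have h1 := congrArg (fun g => sv g (Pi.single (2 : Fin 3) (1 : F))) h0
      simp only [Φ, sv_mul, hfix, (hmv p).2, (hmv p').2] at h1
      have hp : p = p' := by
        have hj : p.1 = p'.1 := by
          by_contra hj
          have := congrFun h1 p.1
          rw [Pi.single_eq_same, Pi.single_eq_of_ne hj] at this
          exact norm_one_ne_zero hF p.2 this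
        refine Prod.ext hj (Subtype.ext ?_)
        rw [hj] at h1
        exact Pi.single_injective _ h1
      subst hp
      simp only [Φ, mul_left_cancel_iff] at h0
      rw [emb_injective hF w01 h0]
    · rintro ⟨g, hg⟩
      obtain ⟨j, c, hc, hjc⟩ := isMono_hull hF hq hg (Pi.single 2 1) ⟨2, 1, one_pow _, rfl⟩
      have hA : (mv (j, ⟨c, hc⟩))⁻¹ * g ∈ (emb hF w01).range := by
        rw [range_w01 hF, mem_stab, sv_mul, hjc, ← (hmv (j, ⟨c, hc⟩)).2, sv_inv_sv]
      obtain ⟨u, hu⟩ := hA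
      exact ⟨((j, ⟨c, hc⟩), u), Subtype.ext (by simp [Φ, hu])⟩
  have h2 : Nat.card ↥(SU 2 F q) = 6 := by
    have h := card_SU hF 2 (by omega)
    subst hq
    norm_num [Finset.prod_range_succ, Nat.even_iff, -Nat.card_eq_fintype_card] at h
    omega
  rw [← Nat.card_congr (Equiv.ofBijective Φ hΦ), Nat.card_prod, Nat.card_prod, h2, card_norm_one hF, Nat.card_fin, hq]

/-- A homomorphism on `SU_3(2)` with values of order dividing three, trivial on the blocks, is trivial. -/
theorem hom_eq_one (hq : q = 2) {M : Type*} [Group M] (χ : ↥(SU 3 F q) →* M) (h3 : ∀ x, χ x ^ 3 = 1)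
    (hχ : ∀ x ∈ blockHull hF, χ x = 1) (x : ↥(SU 3 F q)) : χ x = 1 := by
  have hle : blockHull hF ≤ χ.ker := hχ
  have hcard : Nat.card ↥(SU 3 F q) = 216 := by
    have h := card_SU hF 3 (by omega)
    subst hq
    norm_num [Finset.prod_range_succ, Nat.even_iff, -Nat.card_eq_fintype_card] at h
    omega
  have h54 := Subgroup.card_dvd_of_le hle
  rw [card_blockHull hF hq] at h54
  have hidx := χ.ker.card_mul_index
  rw [hcard] at hidx
  have hP : IsPGroup 3 (↥(SU 3 F q) ⧸ χ.ker) := by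
    intro y
    obtain ⟨g, rfl⟩ := QuotientGroup.mk_surjective y
    refine ⟨1, ?_⟩
    rw [pow_one, ← QuotientGroup.mk_pow, QuotientGroup.eq_one_iff, MonoidHom.mem_ker, map_pow, h3]
  haveI : Fact (Nat.Prime 3) := ⟨Nat.prime_three⟩
  obtain ⟨e, he⟩ := IsPGroup.iff_card.1 hP
  rw [← Subgroup.index_eq_card] at he
  obtain ⟨c, hc⟩ := h54
  rw [hc, he] at hidx
  have hce : c * 3 ^ e = 4 := by
    have : 54 * (c * 3 ^ e) = 54 * 4 := by rw [← mul_assoc, hidx]
    omega
  have he0 : e = 0 := by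
    by_contra h0
    have : 3 ∣ c * 3 ^ e := dvd_mul_of_dvd_right (dvd_pow_self 3 h0) c
    rw [hce] at this
    omega
  rw [he0, pow_zero, Subgroup.index_eq_one] at he
  exact MonoidHom.mem_ker.1 (he ▸ Subgroup.mem_top x)

/-- Preservation of the two blocks. -/
structure Blockwise (θ : ↥(SU 3 F q) →* ↥(SU 3 F q)) where
  /-- on the first block -/
  φA : ↥(SU 2 F q) →* ↥(SU 2 F q)
  /-- on the second block -/
  φB : ↥(SU 2 F q) →* ↥(SU 2 F q)
  inj : Function.Injective θ
  hA : ∀ u, θ (emb hF w01 u) = emb hF w01 (φA u)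
  hB : ∀ u, θ (emb hF w12 u) = emb hF w12 (φB u)

theorem Blockwise.injA {θ : ↥(SU 3 F q) →* ↥(SU 3 F q)} (b : Blockwise hF θ) : Function.Injective b.φA :=
  fun u v h => emb_injective hF w01 (b.inj (by rw [b.hA, b.hA, h]))

theorem Blockwise.injB {θ : ↥(SU 3 F q) →* ↥(SU 3 F q)} (b : Blockwise hF θ) : Function.Injective b.φB :=
  fun u v h => emb_injective hF w12 (b.inj (by rw [b.hB, b.hB, h]))

theorem exists_blockwise (θ : ↥(SU 3 F q) →* ↥(SU 3 F q)) (hinj : Function.Injective θ)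
    (hA : ∀ u, θ (emb hF w01 u) ∈ (emb hF w01).range) (hB : ∀ u, θ (emb hF w12 u) ∈ (emb hF w12).range) :
    Nonempty (Blockwise hF θ) := by
  choose fA hfA using hA
  choose fB hfB using hB
  exact ⟨⟨MonoidHom.mk' fA fun u v => emb_injective hF w01 (by rw [map_mul, hfA, hfA, hfA, map_mul, map_mul]),
    MonoidHom.mk' fB fun u v => emb_injective hF w12 (by rw [map_mul, hfB, hfB, hfB, map_mul, map_mul]),
    hinj, fun u => (hfA u).symm, fun u => (hfB u).symm⟩⟩

theorem Blockwise.diagA {θ : ↥(SU 3 F q) →* ↥(SU 3 F q)} (b : Blockwise hF θ) {μ : {x : F // x ^ (q + 1) = 1}}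
    (hμ : μ.1 ^ 2 ≠ 1) (a : {x : F // x ^ (q + 1) = 1}) : ∃ c, b.φA (diag2 hF a) = diag2 hF c := by
  refine exists_diag2 hF ?_
  obtain ⟨v, hv⟩ := (Finite.injective_iff_surjective.1 (Blockwise.injB hF b)) (diag2 hF μ)
  set g := emb hF w01 (diag2 hF a) with hg
  have hmem : g⁻¹ * emb hF w12 v * g ∈ (emb hF w12).range := by
    rw [range_w12 hF, mem_stab, sv_mul, sv_mul]
    have hg0 : sv g (Pi.single (0 : Fin 3) (1 : F)) = a.1 • Pi.single 0 1 := by
      rw [hg, sv_w01]
      funext i; fin_cases i <;> simp [mat_diag2]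
    rw [hg0, sv_smul, show sv (emb hF w12 v) (Pi.single (0 : Fin 3) (1 : F)) = Pi.single 0 1 from by
      rw [sv_w12]; funext i; fin_cases i <;> simp, sv_smul]
    rw [← sv_smul, ← hg0, sv_inv_sv]
  obtain ⟨v', hv'⟩ := hmem
  have h2 := congrArg θ hv'
  rw [b.hB, map_mul, map_mul, map_inv, b.hB, hv, b.hA] at h2
  have h3 := congrArg (fun X => sv X (Pi.single (0 : Fin 3) (1 : F))) h2
  simp only [sv_mul] at h3
  rw [show sv (emb hF w12 (b.φB v')) (Pi.single (0 : Fin 3) (1 : F)) = Pi.single 0 1 from by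
    rw [sv_w12]; funext i; fin_cases i <;> simp] at h3
  have h4 := congrFun (congrArg (sv (emb hF w01 (b.φA (diag2 hF a)))) h3) 1
  rw [sv_sv_inv, sv_w12, sv_w01] at h4
  simp [mat_diag2] at h4
  have hne : mat (b.φA (diag2 hF a)) 1 0 = 0 := by
    by_contra h0
    have h5 : μ.1 = 1 := mul_right_cancel₀ h0 (by first | linear_combination h4 | linear_combination -h4)
    exact hμ (by rw [h5, one_pow])
  rw [(su_two_entries hF _).1] at hne
  exact eq_zero_of_pow_eq_zero (neg_eq_zero.1 hne)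

theorem Blockwise.diagB {θ : ↥(SU 3 F q) →* ↥(SU 3 F q)} (b : Blockwise hF θ) {μ : {x : F // x ^ (q + 1) = 1}}
    (hμ : μ.1 ^ 2 ≠ 1) (a : {x : F // x ^ (q + 1) = 1}) : ∃ c, b.φB (diag2 hF a) = diag2 hF c := by
  refine exists_diag2 hF ?_
  obtain ⟨v, hv⟩ := (Finite.injective_iff_surjective.1 (Blockwise.injA hF b)) (diag2 hF μ)
  set g := emb hF w12 (diag2 hF a) with hg
  have hmem : g⁻¹ * emb hF w01 v * g ∈ (emb hF w01).range := by
    rw [range_w01 hF, mem_stab, sv_mul, sv_mul]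
    have hg0 : sv g (Pi.single (2 : Fin 3) (1 : F)) = a.1 ^ q • Pi.single 2 1 := by
      rw [hg, sv_w12]
      funext i; fin_cases i <;> simp [mat_diag2]
    rw [hg0, sv_smul, show sv (emb hF w01 v) (Pi.single (2 : Fin 3) (1 : F)) = Pi.single 2 1 from by
      rw [sv_w01]; funext i; fin_cases i <;> simp, sv_smul]
    rw [← sv_smul, ← hg0, sv_inv_sv]
  obtain ⟨v', hv'⟩ := hmem
  have h2 := congrArg θ hv'
  rw [b.hA, map_mul, map_mul, map_inv, b.hA, hv, b.hB] at h2
  have h3 := congrArg (fun X => sv X (Pi.single (2 : Fin 3) (1 : F))) h2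
  simp only [sv_mul] at h3
  rw [show sv (emb hF w01 (b.φA v')) (Pi.single (2 : Fin 3) (1 : F)) = Pi.single 2 1 from by
    rw [sv_w01]; funext i; fin_cases i <;> simp] at h3
  have h4 := congrFun (congrArg (sv (emb hF w12 (b.φB (diag2 hF a)))) h3) 1
  rw [sv_sv_inv, sv_w01, sv_w12] at h4
  simp [mat_diag2] at h4
  by_contra h0
  have h5 : μ.1 ^ q = 1 := mul_right_cancel₀ h0 (by first | linear_combination h4 | linear_combination -h4)
  have h6 := μ.2
  rw [pow_succ, h5, one_mul] at h6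
  exact hμ (by rw [h6, one_pow])

theorem d2_s1 (a : {x : F // x ^ (q + 1) = 1}) (b : {x : F // x ^ (q + 1) = 1}) (hb : b.1 = a.1 ^ q) :
    emb hF w12 (diag2 hF a) * emb hF w01 (anti2 hF oneN) = emb hF w01 (anti2 hF b) * emb hF w12 (diag2 hF a) := by
  refine sv_ext fun w => ?_
  rw [sv_mul, sv_mul, sv_w12, sv_w01, sv_w12, sv_w01]
  funext i
  have ha : a.1 ^ q * a.1 = 1 := by rw [← pow_succ, a.2]
  fin_cases i <;> simp [mat_diag2, mat_anti2, oneN, hb, pow_q_q hF, ← mul_assoc, ha]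

/-- An endomorphism fixing the diagonal of the first block and the two flips is trivial. -/
theorem eq_id_of_normalised (hq : q = 2 ∨ q = 3) {θ : ↥(SU 3 F q) →* ↥(SU 3 F q)} (b : Blockwise hF θ)
    (hd : ∀ a, b.φA (diag2 hF a) = diag2 hF a) (hs1 : b.φA (anti2 hF oneN) = anti2 hF oneN)
    (hs2 : b.φB (anti2 hF oneN) = anti2 hF oneN) (x : ↥(SU 3 F q)) : θ x = x := by
  obtain ⟨μ, hμ, -⟩ := exists_gen hF hq
  have hanti : ∀ (φ : ↥(SU 2 F q) →* ↥(SU 2 F q)), (∀ a, φ (diag2 hF a) = diag2 hF a) →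
      φ (anti2 hF oneN) = anti2 hF oneN → ∀ a, φ (anti2 hF a) = anti2 hF a := by
    intro φ h1 h2 a
    have : anti2 hF a = diag2 hF a * anti2 hF oneN := by
      rw [diag2_mul_anti2]
      congr 1
      exact Subtype.ext (mul_one _).symm
    rw [this, map_mul, h1, h2]
  have hdB : ∀ a, b.φB (diag2 hF a) = diag2 hF a := by
    intro a
    obtain ⟨c, hc⟩ := Blockwise.diagB hF b hμ a
    let aq : {x : F // x ^ (q + 1) = 1} := ⟨a.1 ^ q, by rw [← pow_mul, mul_comm, pow_mul, a.2, one_pow]⟩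
    let cq : {x : F // x ^ (q + 1) = 1} := ⟨c.1 ^ q, by rw [← pow_mul, mul_comm, pow_mul, c.2, one_pow]⟩
    have h1 := congrArg θ (d2_s1 hF a aq rfl)
    rw [map_mul, map_mul, b.hB, b.hA, b.hA, hc, hs1, hanti b.φA hd hs1 aq, d2_s1 hF c cq rfl] at h1
    have h2 := emb_injective hF w01 (mul_right_cancel h1)
    have h3 : c.1 ^ q = a.1 ^ q := congrArg (fun X => mat X 0 1) h2
    have h4 : c.1 = a.1 := by rw [← pow_q_q hF c.1, h3, pow_q_q hF]
    rw [hc, Subtype.ext h4]
  have hA1 := eq_id_of_fix_mono hF hq b.φA hd (hanti b.φA hd hs1)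
  have hB1 := eq_id_of_fix_mono hF hq b.φB hdB (hanti b.φB hdB hs2)
  have hhull : ∀ h ∈ blockHull hF, θ h = h := by
    have hle : blockHull hF ≤ θ.eqLocus (MonoidHom.id _) := by
      rw [blockHull, sup_le_iff]
      constructor
      · rintro _ ⟨u, rfl⟩; exact (b.hA u).trans (by rw [hA1]; rfl)
      · rintro _ ⟨u, rfl⟩; exact (b.hB u).trans (by rw [hB1]; rfl)
    exact fun h hh => hle hh
  rcases hq with hq | hq
  swap
  · exact hhull x (blocks_generate_three hF (by omega) (blockHull hF) le_sup_left le_sup_right ▸ Subgroup.mem_top x)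
  -- q = 2: the discrepancy is central of exponent three
  obtain ⟨z, hz⟩ : ∃ z : ↥(SU 3 F q) → ↥(SU 3 F q), ∀ g, z g = g⁻¹ * θ g := ⟨_, fun g => rfl⟩
  have hθ : ∀ g, θ g = g * z g := fun g => by rw [hz, mul_inv_cancel_left]
  have hsum : μ.1 + μ.1 ^ q + 1 = 0 := by
    have h := μ.2
    generalize μ.1 = t at h hμ ⊢
    rw [hq] at h ⊢
    have h3 : (t - 1) * (t + t ^ 2 + 1) = 0 := by linear_combination h
    exact (mul_eq_zero.1 h3).resolve_left (sub_ne_zero.2 fun h1 => hμ (by rw [h1, one_pow]))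
  set d := emb hF w01 (diag2 hF μ) with hd'
  have hdv : ∀ w : Fin 3 → F, sv d w = ![μ.1 * w 0, μ.1 ^ q * w 1, w 2] := fun w => by
    rw [hd', sv_w01]
    funext i; fin_cases i <;> simp [mat_diag2]
  have hconj : ∀ g : ↥(SU 3 F q), g * d * g⁻¹ ∈ blockHull hF := by
    intro g
    refine mem_blockHull_of_mono hF ?_
    set w := sv g⁻¹ (Pi.single (2 : Fin 3) (1 : F)) with hw
    have hw1 : hermForm 3 F q w w = 1 := by rw [hw, sv_herm, herm_single_single hF, if_pos rfl]
    rcases isMono_or_full hF hq hw1 with ⟨j, c, hc, hjc⟩ | hfull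
    · refine ⟨2, ![μ.1, μ.1 ^ q, 1] j, ?_, ?_⟩
      · fin_cases j
        · exact μ.2
        · show (μ.1 ^ q) ^ (q + 1) = 1
          rw [← pow_mul, mul_comm, pow_mul, μ.2, one_pow]
        · exact one_pow _
      · rw [sv_mul, sv_mul, ← hw]
        have : sv d w = ![μ.1, μ.1 ^ q, 1] j • w := by
          rw [hdv, hjc]
          funext i; fin_cases i <;> fin_cases j <;> simp
        rw [this, sv_smul, hw, sv_sv_inv]
        funext i; fin_cases i <;> simp
    · set y := sv (g * d * g⁻¹) (Pi.single (2 : Fin 3) (1 : F)) with hy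
      have hy1 : hermForm 3 F q y y = 1 := by rw [hy, sv_herm, herm_single_single hF, if_pos rfl]
      have hy2 : y 2 = 0 := by
        have h1 : hermForm 3 F q y (Pi.single (2 : Fin 3) (1 : F)) = y 2 := herm_single_right _ _ (by omega)
        rw [← h1, hy]
        conv_lhs => arg 5; rw [← sv_sv_inv g (Pi.single (2 : Fin 3) (1 : F)), ← hw]
        rw [sv_mul, sv_mul, ← hw, sv_herm, hdv]
        simp only [hermForm, Fin.sum_univ_three, Matrix.cons_val_zero, Matrix.cons_val_one, Matrix.cons_val,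
          mul_assoc, ← pow_succ', hfull, mul_one]
        exact hsum
      rcases isMono_or_full hF hq hy1 with h | h
      · exact h
      · exact absurd (h 2) (by rw [hy2, zero_pow (Nat.succ_ne_zero q)]; exact zero_ne_one)
  have hzd : ∀ g i j, i ≠ j → mat (z g) i j = 0 := by
    intro g i j hij
    have h1 := hhull _ (hconj g)
    rw [map_mul, map_mul, map_inv, hhull d (mem_blockHull_left hF _)] at h1
    have h2 : z g * d = d * z g := by
      calc z g * d = g⁻¹ * (θ g * d * (θ g)⁻¹) * θ g := by rw [hz]; group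
        _ = d * z g := by rw [h1, hz]; group
    have h3 := congrFun (congrArg (fun X => sv X (Pi.single j (1 : F))) h2) i
    simp only [sv_mul, hdv] at h3
    have hl : ∀ w : Fin 3 → F, ![μ.1 * w 0, μ.1 ^ q * w 1, w 2] = fun r => ![μ.1, μ.1 ^ q, 1] r * w r := fun w => by
      funext r; fin_cases r <;> simp
    rw [hl, hl, show (fun r => ![μ.1, μ.1 ^ q, 1] r * Pi.single (M := fun _ => F) j 1 r)
      = ![μ.1, μ.1 ^ q, 1] j • Pi.single j 1 from by
        funext r; rcases eq_or_ne r j with rfl | h <;> simp [*], sv_smul, Pi.smul_apply, sv_single, smul_eq_mul] at h3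
    have hinj : ![μ.1, μ.1 ^ q, 1] j ≠ ![μ.1, μ.1 ^ q, 1] i := by
      have n1 := pow_q_ne hF hμ
      have n2 : μ.1 ≠ 1 := fun h => hμ (by rw [h, one_pow])
      have n3 : μ.1 ^ q ≠ 1 := fun h => by
        have h2 := μ.2; rw [pow_succ, h, one_mul] at h2; exact n2 h2
      fin_cases i <;> fin_cases j <;> first | exact absurd rfl hij | exact n1 | exact Ne.symm n1 | exact n2 | exact Ne.symm n2 | exact n3 | exact Ne.symm n3
    by_contra h0
    exact hinj (mul_right_cancel₀ h0 (by simpa [sv_single] using h3))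
  have hzc : ∀ g, z g ∈ Subgroup.center ↥(SU 3 F q) := by
    intro g
    rw [mem_center_SU_iff hF (by omega)]
    by_cases hmono : IsMono q (sv g (Pi.single (2 : Fin 3) (1 : F)))
    · refine ⟨1, ?_⟩
      have : z g = 1 := by
        rw [hz, hhull g (mem_blockHull_of_mono hF hmono), inv_mul_cancel]
      rw [this, map_one]; rfl
    set w := sv g (Pi.single (2 : Fin 3) (1 : F)) with hw
    have hw1 : hermForm 3 F q w w = 1 := by rw [hw, sv_herm, herm_single_single hF, if_pos rfl]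
    have hfull := (isMono_or_full hF hq hw1).resolve_left hmono
    suffices hzi : z g⁻¹ ∈ Subgroup.center ↥(SU 3 F q) by
      refine (mem_center_SU_iff hF (by omega) _).1 ?_
      have h1 : θ g⁻¹ = g⁻¹ * z g⁻¹ := hθ g⁻¹
      rw [map_inv, hθ g, _root_.mul_inv_rev] at h1
      have h2 : (z g)⁻¹ = z g⁻¹ := by
        rw [Subgroup.mem_center_iff.1 hzi g⁻¹] at h1
        exact mul_right_cancel h1
      rw [← inv_inv (z g), h2]
      exact Subgroup.inv_mem _ hzi
    rw [mem_center_SU_iff hF (by omega)]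
    refine ⟨mat (z g⁻¹) 2 2, ?_⟩
    have hdiag : ∀ g' (v : Fin 3 → F) i, sv (z g') v i = mat (z g') i i * v i := by
      intro g' v i
      show (mat (z g')).mulVec v i = _
      rw [Matrix.mulVec, dotProduct, Finset.sum_eq_single i (fun j _ hj => by rw [hzd g' i j (Ne.symm hj), zero_mul])
        (fun h => absurd (Finset.mem_univ i) h)]
    -- the column of `g` through the full vector
    ext i j
    rw [Matrix.scalar_apply]
    rcases eq_or_ne i j with rfl | hij
    · have hcol : sv g⁻¹ w = Pi.single (2 : Fin 3) (1 : F) := by rw [hw, sv_inv_sv]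
      have h1 : θ g = g * z g := hθ g
      have h2 : θ g⁻¹ = g⁻¹ * z g⁻¹ := hθ g⁻¹
      have h8 : sv (g * z g) (Pi.single (2 : Fin 3) (1 : F)) = mat (z g) 2 2 • w := by
        rw [sv_mul]
        have : sv (z g) (Pi.single (2 : Fin 3) (1 : F)) = mat (z g) 2 2 • Pi.single 2 1 := by
          funext r
          rw [hdiag, Pi.smul_apply, smul_eq_mul]
          rcases eq_or_ne r 2 with rfl | h
          · rfl
          · rw [Pi.single_eq_of_ne h, mul_zero, mul_zero]
        rw [this, sv_smul]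
      have h9 : (g * z g) = (g⁻¹ * z g⁻¹)⁻¹ := by rw [← h1, ← h2, map_inv, inv_inv]
      rw [h9, _root_.mul_inv_rev, inv_inv, sv_mul, ← hw] at h8
      have h10 := congrArg (sv (z g⁻¹)) h8
      rw [sv_sv_inv, sv_smul] at h10
      have h11 := congrFun h10 i
      have h12 := congrFun h10 2
      simp only [Pi.smul_apply, smul_eq_mul, hdiag] at h11 h12
      have hwne : ∀ r, w r ≠ 0 := fun r h => by
        have := hfull r; rw [h, zero_pow (Nat.succ_ne_zero q)] at this; exact zero_ne_one this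
      have e1 : mat (z g) 2 2 * mat (z g⁻¹) i i = 1 := by
        apply mul_right_cancel₀ (hwne i); rw [one_mul]; linear_combination -h11
      have e2 : mat (z g) 2 2 * mat (z g⁻¹) 2 2 = 1 := by
        apply mul_right_cancel₀ (hwne 2); rw [one_mul]; linear_combination -h12
      rw [Matrix.diagonal_apply_eq]
      exact mul_left_cancel₀ (left_ne_zero_of_mul_eq_one e2) (e1.trans e2.symm)
    · rw [Matrix.diagonal_apply_ne _ hij]; exact hzd g⁻¹ i j hij
  let χ : ↥(SU 3 F q) →* ↥(SU 3 F q) := MonoidHom.mk' z fun g g' => by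
    have hc := Subgroup.mem_center_iff.1 (hzc g) g'
    rw [hz (g * g'), map_mul, hθ g, hθ g', _root_.mul_inv_rev]
    rw [mul_assoc g (z g), ← mul_assoc (z g) g', ← hc]
    group
  have h3 : ∀ g, χ g ^ 3 = 1 := by
    intro g
    obtain ⟨c, hc⟩ := (mem_center_SU_iff hF (by omega) _).1 (hzc g)
    have hdet : c ^ 3 = 1 := by
      have := (z g : Matrix.SpecialLinearGroup (Fin 3) F).2
      rw [hc] at this
      simpa [Matrix.det_diagonal] using this
    refine mat_ext ?_
    show ((z g : Matrix.SpecialLinearGroup (Fin 3) F) ^ 3).1 = 1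
    rw [Matrix.SpecialLinearGroup.coe_pow, hc, ← map_pow, hdet, map_one]
  have := hom_eq_one hF hq χ h3 (fun h hh => by show z h = 1; rw [hz, hhull h hh, inv_mul_cancel]) x
  rw [hθ x]
  exact mul_eq_left.2 this

/-- Every block preserving injective endomorphism of `SU_3(q)`, `q ≤ 3`, is diagonal times field. -/
theorem exists_twist (hq : q = 2 ∨ q = 3) {θ : ↥(SU 3 F q) →* ↥(SU 3 F q)} (b : Blockwise hF θ) :
    ∃ (d : Fin 3 → {x : F // x ^ (q + 1) = 1}) (σ : F ≃+* F), ∀ x, θ x = twist hF d σ x := by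
  obtain ⟨μ, hμ, hgen⟩ := exists_gen hF hq
  obtain ⟨μ', hμ'⟩ := Blockwise.diagA hF b hμ μ
  have hμ'2 : μ'.1 ^ 2 ≠ 1 := by
    intro h
    have h1 : b.φA (diag2 hF μ ^ 2) = b.φA 1 := by
      rw [map_pow, hμ', diag2_pow, map_one]
      refine su_two_ext hF ?_ ?_ <;> simp [mat, diag2, h]
    have h2 := congrArg (fun X => mat X 0 0) (Blockwise.injA hF b h1)
    rw [diag2_pow] at h2
    exact hμ (by simpa [mat, diag2] using h2)
  obtain ⟨σ, hσ⟩ : ∃ σ : F ≃+* F, σ μ.1 = μ'.1 := by
    obtain ⟨i, hi, hiμ⟩ := hgen μ'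
    have : μ'.1 = μ.1 ∨ μ'.1 = μ.1 ^ q := by
      rw [← hiμ] at hμ'2 ⊢
      have hμN := μ.2
      generalize μ.1 = t at hμ'2 hμN ⊢
      rcases hq with hq | hq <;> rw [hq] at hi hμN ⊢ <;> interval_cases i
      · simp at hμ'2
      · exact Or.inl (pow_one _)
      · exact Or.inr rfl
      · simp at hμ'2
      · exact Or.inl (pow_one _)
      · exact absurd (by rw [← pow_mul]; exact hμN) hμ'2
      · exact Or.inr rfl
    rcases this with h | h
    · exact ⟨RingEquiv.refl F, h.symm⟩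
    · exact ⟨conjEquiv hF, h.symm⟩
  have hσN : ∀ a : {x : F // x ^ (q + 1) = 1}, σ a.1 ^ (q + 1) = 1 := fun a => by
    rw [← map_pow, a.2, map_one]
  have hdA : ∀ a, b.φA (diag2 hF a) = diag2 hF ⟨σ a.1, hσN a⟩ := by
    intro a
    obtain ⟨i, -, hia⟩ := hgen a
    have : diag2 hF a = diag2 hF μ ^ i := by rw [diag2_pow]; congr 1; exact Subtype.ext hia.symm
    rw [this, map_pow, hμ', diag2_pow]
    congr 1
    exact Subtype.ext (show μ'.1 ^ i = σ a.1 by rw [← hia, map_pow, hσ])
  let one : {x : F // x ^ (q + 1) = 1} := oneN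
  have hs : ∀ (φ : ↥(SU 2 F q) →* ↥(SU 2 F q)) (a' : {x : F // x ^ (q + 1) = 1}), a'.1 ^ 2 ≠ 1 →
      φ (diag2 hF μ) = diag2 hF a' → ∃ c, φ (anti2 hF one) = anti2 hF c := by
    intro φ a' ha' hφ
    let μq : {x : F // x ^ (q + 1) = 1} := ⟨μ.1 ^ q, by rw [← pow_mul, mul_comm, pow_mul, μ.2, one_pow]⟩
    have h := congrArg φ (anti2_mul_diag2 hF μ μq rfl one)
    rw [map_mul, map_mul, hφ] at h
    have hinv : diag2 hF μq = diag2 hF μ ^ q := by rw [diag2_pow]
    rw [hinv, map_pow, hφ, diag2_pow] at h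
    exact eq_anti2_of_invert hF ha' rfl h
  obtain ⟨c, hc⟩ := hs b.φA μ' hμ'2 hμ'
  obtain ⟨ν, hν⟩ := Blockwise.diagB hF b hμ μ
  have hν2 : ν.1 ^ 2 ≠ 1 := by
    intro h
    have h1 : b.φB (diag2 hF μ ^ 2) = b.φB 1 := by
      rw [map_pow, hν, diag2_pow, map_one]
      refine su_two_ext hF ?_ ?_ <;> simp [mat, diag2, h]
    have h2 := congrArg (fun X => mat X 0 0) (Blockwise.injB hF b h1)
    rw [diag2_pow] at h2
    exact hμ (by simpa [mat, diag2] using h2)
  obtain ⟨c', hc'⟩ := hs b.φB ν hν2 hν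
  let c'q : {x : F // x ^ (q + 1) = 1} := ⟨c'.1 ^ q, by rw [← pow_mul, mul_comm, pow_mul, c'.2, one_pow]⟩
  let d : Fin 3 → {x : F // x ^ (q + 1) = 1} := ![c, oneN, c'q]
  refine ⟨d, σ, ?_⟩
  let T := MulEquiv.ofBijective (twist hF d σ) (Finite.injective_iff_bijective.1 (twist_injective hF d σ))
  let θ' : ↥(SU 3 F q) →* ↥(SU 3 F q) := T.symm.toMonoidHom.comp θ
  let T2 : (Fin 2 ↪ Fin 3) → ↥(SU 2 F q) ≃* ↥(SU 2 F q) := fun f =>
    MulEquiv.ofBijective (twist hF (fun i => d (f i)) σ) (Finite.injective_iff_bijective.1 (twist_injective hF _ σ))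
  have hpull : ∀ (f : Fin 2 ↪ Fin 3) (v : ↥(SU 2 F q)), T.symm (emb hF f v) = emb hF f ((T2 f).symm v) := by
    intro f v
    rw [MulEquiv.symm_apply_eq]
    show emb hF f v = twist hF d σ (emb hF f ((T2 f).symm v))
    rw [twist_emb]
    exact congrArg (emb hF f) ((T2 f).apply_symm_apply v).symm
  let b' : Blockwise hF θ' :=
    { φA := (T2 w01).symm.toMonoidHom.comp b.φA
      φB := (T2 w12).symm.toMonoidHom.comp b.φB
      inj := T.symm.injective.comp b.inj
      hA := fun u => by show T.symm (θ (emb hF w01 u)) = _; rw [b.hA, hpull]; rfl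
      hB := fun u => by show T.symm (θ (emb hF w12 u)) = _; rw [b.hB, hpull]; rfl }
  have h := eq_id_of_normalised hF hq b' (fun a => by
      show (T2 w01).symm (b.φA (diag2 hF a)) = _
      rw [hdA, MulEquiv.symm_apply_eq]
      exact (twist_diag2 hF _ σ a _ rfl).symm) (by
      show (T2 w01).symm (b.φA (anti2 hF oneN)) = _
      rw [hc, MulEquiv.symm_apply_eq]
      refine (twist_anti2 hF _ σ _ _ ?_).symm
      show c.1 = c.1 * σ 1 * (1 : F) ^ q
      rw [map_one, one_pow, mul_one, mul_one]) (by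
      show (T2 w12).symm (b.φB (anti2 hF oneN)) = _
      rw [hc', MulEquiv.symm_apply_eq]
      refine (twist_anti2 hF _ σ _ _ ?_).symm
      show c'.1 = (1 : F) * σ 1 * (c'.1 ^ q) ^ q
      rw [map_one, one_mul, one_mul, pow_q_q hF])
  intro x
  have h1 := h x
  exact (MulEquiv.symm_apply_eq T).1 h1

end CfsgLib.Phan
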