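import Mathlib
import Cfsg.Agent.Phan.Geometry

/-!
# The pentagon closing a degenerate square of the unit vectors of a four dimensional unitary space

For `p`, `e` orthonormal, `n` isotropic orthogonal to both and `b = s e + t n` with `s`, `t` of norm one, the
paths `p, e, r` and `p, b, r` (`r = λ p + n`) are joined through `x, y, z` by squares whose diagonals are
non-degenerate. This uses an element of the fixed field different from `0, 1, -1`, hence `q ≥ 4`.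
-/

set_option autoImplicit false

namespace CfsgLib.Phan

open Cfsg CfsgLib.Unitary

variable {F : Type*} [Field F] [Fintype F] {m q : ℕ}

local notation "⟪" u ", " v "⟫" => hermForm m F q u v

theorem norm_conj (hF : Fintype.card F = q ^ 2) (x : F) : (x ^ q) ^ (q + 1) = x ^ (q + 1) := by
  rw [← pow_mul, mul_comm, pow_mul, norm_pow_q hF]

theorem herm_swap_zero (hF : Fintype.card F = q ^ 2) {u v : Fin m → F} (h : ⟪u, v⟫ = 0) : ⟪v, u⟫ = 0 :=
  herm_eq_zero_comm hF h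

theorem norm_herm_swap (hF : Fintype.card F = q ^ 2) (u v : Fin m → F) :
    ⟪u, v⟫ ^ (q + 1) = ⟪v, u⟫ ^ (q + 1) := by
  rw [herm_conj hF v u, norm_conj hF]

/-- An element of the fixed field avoiding `0, 1, -1`. -/
theorem exists_fixed_avoid (hF : Fintype.card F = q ^ 2) (hq : 4 ≤ q) :
    ∃ B : F, B ^ q = B ∧ B ≠ 0 ∧ B ≠ 1 ∧ B ≠ -1 := by
  classical
  have hcard : 4 ≤ (Finset.univ.filter fun x : F => x ^ q = x).card := by
    rw [← Fintype.card_subtype, ← Nat.card_eq_fintype_card, card_fixed hF]; exact hq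
  obtain ⟨B, hB⟩ : ((Finset.univ.filter fun x : F => x ^ q = x) \ {0, 1, -1}).Nonempty := by
    rw [← Finset.card_pos]
    have h1 := Finset.le_card_sdiff {0, 1, -1} (Finset.univ.filter fun x : F => x ^ q = x)
    have h2 := Finset.card_le_three (a := (0 : F)) (b := 1) (c := -1)
    omega
  simp only [Finset.mem_sdiff, Finset.mem_filter, Finset.mem_univ, true_and, Finset.mem_insert,
    Finset.mem_singleton, not_or] at hB
  exact ⟨B, hB.1, hB.2.1, hB.2.2.1, hB.2.2.2⟩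

/-- An isotropic partner of an isotropic vector orthogonal to an orthonormal pair. -/
theorem exists_partner_perp (hF : Fintype.card F = q ^ 2) {p e n : Fin m → F} (hp : ⟪p, p⟫ = 1)
    (he : ⟪e, e⟫ = 1) (hpe : ⟪p, e⟫ = 0) (hn0 : n ≠ 0) (hnn : ⟪n, n⟫ = 0) (hnp : ⟪n, p⟫ = 0)
    (hne : ⟪n, e⟫ = 0) : ∃ f, ⟪f, f⟫ = 0 ∧ ⟪n, f⟫ = 1 ∧ ⟪f, p⟫ = 0 ∧ ⟪f, e⟫ = 0 := by
  have hf := orthonorm_two hF hp he hpe
  have hW : IsNondeg q (perpFam q ![p, e]) := by
    intro u hu h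
    refine isNondeg_top hF u trivial fun v _ => ?_
    have hv : v - ∑ i, hermForm m F q v (![p, e] i) • ![p, e] i ∈ perpFam q ![p, e] :=
      (mem_perpFam hF).2 (hf.sub_proj hF v)
    have h1 := h _ hv
    rw [herm_sub_right hF, herm_sum_right hF] at h1
    simpa [herm_smul_right, (mem_perpFam hF).1 hu] using h1
  obtain ⟨f, hfW, hff, hnf⟩ := exists_partner hF hW ((mem_perpFam hF).2 fun i => by
    fin_cases i <;> simpa) hn0 hnn
  exact ⟨f, hff, hnf, by simpa using (mem_perpFam hF).1 hfW 0, by simpa using (mem_perpFam hF).1 hfW 1⟩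

/-- In dimension four, `p, e, n, f` span. -/
theorem eq_of_four_coords (hF : Fintype.card F = q ^ 2) (hm : m = 4) {p e n f : Fin m → F}
    (hp : ⟪p, p⟫ = 1) (he : ⟪e, e⟫ = 1) (hpe : ⟪p, e⟫ = 0) (hnn : ⟪n, n⟫ = 0) (hnp : ⟪n, p⟫ = 0)
    (hne : ⟪n, e⟫ = 0) (hff : ⟪f, f⟫ = 0) (hnf : ⟪n, f⟫ = 1) (hfp : ⟪f, p⟫ = 0) (hfe : ⟪f, e⟫ = 0)
    (v : Fin m → F) : v = ⟪v, p⟫ • p + ⟪v, e⟫ • e + ⟪v, f⟫ • n + ⟪v, n⟫ • f := by
  have hfn : ⟪f, n⟫ = 1 := by rw [herm_conj hF, hnf, one_pow]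
  have hep := herm_swap_zero hF hpe
  have hpn := herm_swap_zero hF hnp
  have hen := herm_swap_zero hF hne
  have hpf := herm_swap_zero hF hfp
  have hef := herm_swap_zero hF hfe
  set w := v - (⟪v, p⟫ • p + ⟪v, e⟫ • e + ⟪v, f⟫ • n + ⟪v, n⟫ • f) with hw
  have c0 : ⟪w, p⟫ = 0 := by simp [hw, herm_sub_left, herm_add_left, herm_smul_left, hp, hep, hnp, hfp]
  have c1 : ⟪w, e⟫ = 0 := by simp [hw, herm_sub_left, herm_add_left, herm_smul_left, he, hpe, hne, hfe]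
  have c2 : ⟪w, n⟫ = 0 := by simp [hw, herm_sub_left, herm_add_left, herm_smul_left, hnn, hpn, hen, hfn]
  have c3 : ⟪w, f⟫ = 0 := by simp [hw, herm_sub_left, herm_add_left, herm_smul_left, hff, hpf, hef, hnf]
  have hli : LinearIndependent F ![p, e, n, f] := by
    rw [Fintype.linearIndependent_iff]
    intro g hg
    rw [Fin.sum_univ_four] at hg
    simp only [Matrix.cons_val_zero, Matrix.cons_val_one, Matrix.cons_val_two, Matrix.cons_val_three,
      Matrix.head_cons, Matrix.tail_cons] at hg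
    have h0 := congrArg (fun u => ⟪u, p⟫) hg
    have h1 := congrArg (fun u => ⟪u, e⟫) hg
    have h2 := congrArg (fun u => ⟪u, f⟫) hg
    have h3 := congrArg (fun u => ⟪u, n⟫) hg
    simp [herm_add_left, herm_smul_left, herm_zero_left, hp, he, hpe, hep, hnn, hff, hnp, hne, hfp, hfe, hnf,
      hfn, hpn, hen, hpf, hef] at h0 h1 h2 h3
    intro i
    fin_cases i <;> assumption
  have htop : Submodule.span F (Set.range ![p, e, n, f]) = ⊤ :=
    hli.span_eq_top_of_card_eq_finrank (by simp [hm])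
  have hw0 : w = 0 := by
    suffices key : ∀ u ∈ Submodule.span F (Set.range ![p, e, n, f]), ⟪w, u⟫ = 0 from
      isNondeg_top hF w trivial fun u _ => key u (htop ▸ trivial)
    intro u hu
    induction hu using Submodule.span_induction with
    | mem x hx => obtain ⟨i, rfl⟩ := hx; fin_cases i <;> simpa
    | zero => exact herm_zero_right hF w
    | add a b _ _ ha hb => rw [herm_add_right hF, ha, hb, add_zero]
    | smul c a _ ha => rw [herm_smul_right, ha, mul_zero]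
  exact sub_eq_zero.1 (hw ▸ hw0)

/-- A unit vector `x ⊥ p, e` whose product with `n` has norm `B`. -/
theorem exists_unit_hyperbolic (hF : Fintype.card F = q ^ 2) {p e n f : Fin m → F}
    (hnn : ⟪n, n⟫ = 0) (hnp : ⟪n, p⟫ = 0) (hne : ⟪n, e⟫ = 0) (hff : ⟪f, f⟫ = 0) (hnf : ⟪n, f⟫ = 1)
    (hfp : ⟪f, p⟫ = 0) (hfe : ⟪f, e⟫ = 0) {B : F} (hB : B ^ q = B) (hB0 : B ≠ 0) :
    ∃ a b : F, b ≠ 0 ∧ b ^ (q + 1) = B ∧ a * b ^ q + a ^ q * b = 1 ∧
      ⟪a • n + b • f, a • n + b • f⟫ = 1 ∧ ⟪a • n + b • f, p⟫ = 0 ∧ ⟪a • n + b • f, e⟫ = 0 ∧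
      ⟪n, a • n + b • f⟫ ^ (q + 1) = B := by
  have hfn : ⟪f, n⟫ = 1 := by rw [herm_conj hF, hnf, one_pow]
  obtain ⟨b, hb⟩ := exists_norm_eq hF hB
  obtain ⟨w, hw⟩ := exists_trace_eq hF (a := (1 : F)) (one_pow q)
  have hb0 : b ≠ 0 := fun h => hB0 (by rw [← hb, h, zero_pow (Nat.succ_ne_zero q)])
  set a := w * (b ^ q)⁻¹ with ha
  have h1 : a * b ^ q = w := by rw [ha, inv_mul_cancel_right₀ (pow_ne_zero q hb0)]
  have h2 : a ^ q * b = w ^ q := by
    have h := congrArg (· ^ q) h1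
    simpa only [mul_pow, pow_q_q hF] using h
  refine ⟨a, b, hb0, hb, by rw [h1, h2, hw], ?_, ?_, ?_, ?_⟩
  · simp only [herm_add_left, herm_add_right hF, herm_smul_left, herm_smul_right, hnn, hff, hnf, hfn]
    linear_combination h1 + h2 + hw
  · simp [herm_add_left, herm_smul_left, hnp, hfp]
  · simp [herm_add_left, herm_smul_left, hne, hfe]
  · simp only [herm_add_right hF, herm_smul_right, hnn, hnf, mul_zero, mul_one, zero_add, norm_conj hF, hb]

/-- The three vectors of the pentagon. -/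
theorem exists_fan (hF : Fintype.card F = q ^ 2) (hq : 4 ≤ q) {p e n : Fin m → F} (hp : ⟪p, p⟫ = 1)
    (he : ⟪e, e⟫ = 1) (hpe : ⟪p, e⟫ = 0) (hn0 : n ≠ 0) (hnn : ⟪n, n⟫ = 0) (hnp : ⟪n, p⟫ = 0)
    (hne : ⟪n, e⟫ = 0) {l s t : F} (hl : l ^ (q + 1) = 1) (hs : s ^ (q + 1) = 1) (ht : t ^ (q + 1) = 1) :
    ∃ x y z, (⟪x, x⟫ = 1 ∧ ⟪x, p⟫ = 0 ∧ ⟪x, e⟫ = 0) ∧
      (⟪y, y⟫ = 1 ∧ ⟪y, p⟫ = 0 ∧ ⟪y, s • e + t • n⟫ = 0 ∧ ⟪y, x⟫ = 0) ∧
      (⟪z, z⟫ = 1 ∧ ⟪z, e⟫ = 0 ∧ ⟪z, l • p + n⟫ = 0 ∧ ⟪z, y⟫ = 0) ∧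
      ⟪y, e⟫ ^ (q + 1) ≠ 1 ∧ ⟪l • p + n, y⟫ ^ (q + 1) ≠ 1 := by
  obtain ⟨f, hff, hnf, hfp, hfe⟩ := exists_partner_perp hF hp he hpe hn0 hnn hnp hne
  have hfn : ⟪f, n⟫ = 1 := by rw [herm_conj hF, hnf, one_pow]
  have hep := herm_swap_zero hF hpe
  have hpn := herm_swap_zero hF hnp
  have hen := herm_swap_zero hF hne
  have hpf := herm_swap_zero hF hfp
  have hef := herm_swap_zero hF hfe
  obtain ⟨B, hB, hB0, hB1, hBn⟩ := exists_fixed_avoid hF hq
  obtain ⟨a, b, hb0, hb, hab, hx, hxp, hxe, -⟩ :=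
    exists_unit_hyperbolic hF hnn hnp hne hff hnf hfp hfe hB hB0
  have hB1' : B - 1 ≠ 0 := sub_ne_zero.2 hB1
  set Z := B / (B - 1) with hZd
  have hZ : Z ^ q = Z := by rw [hZd, div_pow, sub_pow_q hF, hB, one_pow]
  obtain ⟨ζ, hζ⟩ := exists_norm_eq hF hZ
  have hZ1 : Z ≠ 1 := fun h => by
    rw [hZd, div_eq_one_iff_eq hB1'] at h
    exact one_ne_zero (α := F) (by linear_combination h)
  have hbq : b ^ q ≠ 0 := pow_ne_zero q hb0
  set γ := -(ζ * t ^ q * s) with hγ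
  set ε := -(ζ * a ^ q * (b ^ q)⁻¹) with hε
  have hγN : γ ^ (q + 1) = Z := by
    rw [hγ, neg_pow, neg_one_pow_succ hF, one_mul, mul_pow, mul_pow, norm_conj hF, hζ, ht, hs, mul_one, mul_one]
  have hεq : ε ^ q = -(ζ ^ q * a * b⁻¹) := by
    rw [hε, neg_pow_q hF, mul_pow, mul_pow, pow_q_q hF, inv_pow_q, pow_q_q hF]
  have hz0' : 1 + B⁻¹ ≠ 0 := by
    intro h
    apply hBn
    field_simp at h
    linear_combination h
  have htr : a * b⁻¹ + a ^ q * (b ^ q)⁻¹ = B⁻¹ := by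
    rw [← hb, pow_succ']
    field_simp
    linear_combination hab
  set v := a * b⁻¹ with hv
  have hvq : v ^ q = a ^ q * (b ^ q)⁻¹ := by rw [hv, mul_pow, inv_pow_q]
  set z₀ := (-l) • p + v • n + f with hz₀
  obtain ⟨c, hc⟩ := exists_norm_eq hF (a := (1 + B⁻¹)⁻¹) (by
    rw [inv_pow_q, add_pow_q hF, one_pow, inv_pow_q, hB])
  have hll : l * l ^ q = 1 := by rw [← pow_succ', hl]
  have hss : s * s ^ q = 1 := by rw [← pow_succ', hs]
  refine ⟨a • n + b • f, γ • e + ε • n + ζ • f, c • z₀, ⟨hx, hxp, hxe⟩, ⟨?_, ?_, ?_, ?_⟩, ⟨?_, ?_, ?_, ?_⟩,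
    ?_, ?_⟩
  · simp only [herm_add_left, herm_add_right hF, herm_smul_left, herm_smul_right, he, hnn, hff, hne, hen, hfe,
      hef, hnf, hfn, mul_zero, add_zero, zero_add, mul_one]
    have hγ' : γ * γ ^ q = Z := by rw [← pow_succ', hγN]
    have hζ' : ζ * ζ ^ q = Z := by rw [← pow_succ', hζ]
    have hZB : Z * (1 - B⁻¹) = 1 := by rw [hZd]; field_simp
    rw [hεq, hε]
    linear_combination hγ' - (a ^ q * (b ^ q)⁻¹ + v) * hζ' - Z * htr + hZB
  · simp [herm_add_left, herm_smul_left, hep, hnp, hfp]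
  · simp only [herm_add_left, herm_add_right hF, herm_smul_left, herm_smul_right, he, hnn, hne, hen, hfe, hfn,
      mul_zero, add_zero, zero_add, mul_one]
    rw [hγ]
    linear_combination -(ζ * t ^ q) * hss
  · simp only [herm_add_left, herm_add_right hF, herm_smul_left, herm_smul_right, hen, hef, hnn, hnf, hfn, hff,
      mul_zero, add_zero, zero_add, mul_one]
    rw [hε]
    field_simp
    ring
  · rw [herm_self_smul, hc]
    have : ⟪z₀, z₀⟫ = 1 + B⁻¹ := by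
      simp only [hz₀, herm_add_left, herm_add_right hF, herm_smul_left, herm_smul_right, hp, hnn, hff, hpn, hnp,
        hpf, hfp, hnf, hfn, mul_zero, add_zero, zero_add, mul_one, neg_pow_q hF]
      rw [hvq]
      linear_combination hll + htr
    rw [this, inv_mul_cancel₀ hz0']
  · simp [hz₀, herm_add_left, herm_smul_left, herm_neg_left, hpe, hne, hfe]
  · simp only [hz₀, herm_add_left, herm_add_right hF, herm_smul_left, herm_smul_right, hp, hnn, hpn, hnp,
      hfp, hfn, mul_zero, add_zero, zero_add, mul_one]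
    linear_combination -c * hll
  · simp only [hz₀, herm_add_left, herm_add_right hF, herm_smul_left, herm_smul_right, hpe, hpn, hpf, hne, hnn,
      hnf, hfe, hfn, hff, mul_zero, add_zero, zero_add, mul_one]
    rw [hεq, hv]
    ring
  · simp only [herm_add_left, herm_smul_left, he, hne, hfe, mul_zero, add_zero, mul_one, hγN]
    exact hZ1
  · simp only [herm_add_left, herm_add_right hF, herm_smul_left, herm_smul_right, hpe, hpn, hpf, hne, hnn, hnf,
      mul_zero, add_zero, zero_add, mul_one, norm_conj hF, hζ]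
    exact hZ1

end CfsgLib.Phan
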