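import Mathlib
import Cfsg.Agent.Phan.GeometryFour

/-!
# Auxiliary facts for cycles of unit vectors in dimension four

Elements of norm one generate the additive group; an orthonormal pair and a third vector with non-isotropic component
leave room for a unit vector; the middle of a pentagon can be moved so that such a vector exists.
-/

set_option autoImplicit false

namespace CfsgLib.Phan

open Cfsg CfsgLib.Unitary

variable {F : Type*} [Field F] [Fintype F] {m q : ℕ}

local notation "⟪" u ", " v "⟫" => hermForm m F q u v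

/-- The elements of norm one generate the additive group of the field. -/
theorem mem_closure_norm_one (hF : Fintype.card F = q ^ 2) (t : F) :
    t ∈ AddSubgroup.closure {x : F | x ^ (q + 1) = 1} := by
  classical
  set K := AddSubgroup.closure {x : F | x ^ (q + 1) = 1} with hK
  have h1K : ∀ u : F, u ^ (q + 1) = 1 → u ∈ K := fun u hu => AddSubgroup.subset_closure hu
  have hmul : ∀ u : F, u ^ (q + 1) = 1 → ∀ x ∈ K, x * u ∈ K := by
    intro u hu x hx
    induction hx using AddSubgroup.closure_induction with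
    | mem y hy => exact h1K _ (by rw [mul_pow, show y ^ (q + 1) = 1 from hy, hu, one_mul])
    | zero => rw [zero_mul]; exact K.zero_mem
    | add a b _ _ ha hb => rw [add_mul]; exact K.add_mem ha hb
    | neg a _ ha => rw [neg_mul]; exact K.neg_mem ha
  let Fq : AddSubgroup F :=
    { carrier := {x | x ^ q = x}
      add_mem' := fun {a b} (ha : a ^ q = a) (hb : b ^ q = b) => by
        show (a + b) ^ q = a + b
        rw [add_pow_q hF, ha, hb]
      zero_mem' := zero_pow_q hF
      neg_mem' := fun {a} (ha : a ^ q = a) => by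
        show (-a) ^ q = -a
        rw [neg_pow_q hF, ha] }
  have hFq : Nat.card Fq = q := card_fixed hF
  set S := Finset.univ.filter fun x : F => x ^ (q + 1) = 1 with hS
  have hScard : S.card = q + 1 := by
    rw [hS, ← Fintype.card_subtype, ← Nat.card_eq_fintype_card]
    exact card_norm_one hF
  have hfib : S.card ≤ 2 * (S.image fun u => u + u ^ q).card := by
    refine Finset.card_le_mul_card_image _ 2 fun a ha => ?_
    obtain ⟨u, hu, rfl⟩ := Finset.mem_image.1 ha
    refine (Finset.card_le_card (t := {u, u ^ q}) fun v hv => ?_).trans Finset.card_le_two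
    simp only [hS, Finset.mem_filter, Finset.mem_univ, true_and] at hv hu
    obtain ⟨hv1, hv2⟩ := hv
    have e1 : v * v ^ q = 1 := by rw [← pow_succ', hv1]
    have e2 : u * u ^ q = 1 := by rw [← pow_succ', hu]
    have h0 : (v - u) * (v - u ^ q) = 0 := by linear_combination v * hv2 - e1 + e2
    rcases mul_eq_zero.1 h0 with h | h
    · simp [sub_eq_zero.1 h]
    · simp [sub_eq_zero.1 h]
  have hsub : ((S.image fun u => u + u ^ q : Finset F) : Set F) ⊆ ((K ⊓ Fq : AddSubgroup F) : Set F) := by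
    intro a ha
    obtain ⟨u, hu, rfl⟩ := Finset.mem_image.1 ha
    simp only [hS, Finset.mem_filter, Finset.mem_univ, true_and] at hu
    refine ⟨K.add_mem (h1K u hu) (h1K _ (by rw [← pow_mul, mul_comm, pow_mul, hu, one_pow])), trace_pow_q hF u⟩
  have hle : (S.image fun u => u + u ^ q).card ≤ Nat.card (K ⊓ Fq : AddSubgroup F) := by
    rw [← Set.ncard_coe_finset, ← Nat.card_coe_set_eq]
    exact Nat.card_mono (Set.toFinite _) hsub
  have hFqK : Fq ≤ K := by
    have hd := AddSubgroup.card_dvd_of_le (inf_le_right : K ⊓ Fq ≤ Fq)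
    rw [hFq] at hd
    obtain ⟨k, hk⟩ := hd
    have hk1 : k = 1 := by
      rcases k with _ | _ | k
      · have := two_le_q hF; omega
      · rfl
      · exfalso
        have : 2 * Nat.card (K ⊓ Fq : AddSubgroup F) ≤ q := by
          calc _ ≤ (k + 1 + 1) * Nat.card (K ⊓ Fq : AddSubgroup F) := Nat.mul_le_mul_right _ (by omega)
            _ = q := by rw [mul_comm]; exact hk.symm
        omega
    have he : K ⊓ Fq = Fq := AddSubgroup.eq_of_le_of_card_ge inf_le_right (by rw [hFq, hk, hk1, mul_one])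
    exact he ▸ inf_le_left
  obtain ⟨u, hu, hu2⟩ := exists_norm_one_ne_inv hF
  have huq : u ^ q ≠ u := fun h => hu2 (by rw [pow_two]; nth_rewrite 1 [← h]; rw [← pow_succ, hu])
  let φ : Fq × Fq → F := fun ab => (ab.1 : F) + (ab.2 : F) * u
  have hinj : Function.Injective φ := by
    rintro ⟨⟨a, ha⟩, ⟨b, hb⟩⟩ ⟨⟨a', ha'⟩, ⟨b', hb'⟩⟩ h
    have h' : a + b * u = a' + b' * u := h
    have h'' := congrArg (· ^ q) h'
    simp only [add_pow_q hF, mul_pow, show a ^ q = a from ha, show b ^ q = b from hb, show a' ^ q = a' from ha',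
      show b' ^ q = b' from hb'] at h''
    have hz : (b - b') * (u ^ q - u) = 0 := by linear_combination h'' - h'
    have hb0 : b = b' := sub_eq_zero.1 ((mul_eq_zero.1 hz).resolve_right (sub_ne_zero.2 huq))
    subst hb0
    have ha0 : a = a' := by linear_combination h'
    subst ha0
    rfl
  have hsurj : Function.Surjective φ :=
    (hinj.bijective_of_nat_card_le (by rw [Nat.card_prod, hFq, Nat.card_eq_fintype_card, hF, sq])).2
  obtain ⟨⟨⟨a, ha⟩, ⟨b, hb⟩⟩, rfl⟩ := hsurj t
  exact K.add_mem (hFqK ha) (hmul u hu b (hFqK hb))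

variable (hF : Fintype.card F = q ^ 2) (hm : m = 4)
include hF hm

/-- An orthonormal pair and a vector orthogonal to it which is zero or non-isotropic leave room for a unit vector. -/
theorem exists_unit_perp_proj {u v w : Fin m → F} (hu : ⟪u, u⟫ = 1) (hv : ⟪v, v⟫ = 1) (huv : ⟪u, v⟫ = 0)
    (hwu : ⟪w, u⟫ = 0) (hwv : ⟪w, v⟫ = 0) (hw : w = 0 ∨ ⟪w, w⟫ ≠ 0) :
    ∃ z, ⟪z, z⟫ = 1 ∧ ⟪z, u⟫ = 0 ∧ ⟪z, v⟫ = 0 ∧ ⟪z, w⟫ = 0 := by
  rcases hw with rfl | hw
  · obtain ⟨z, -, hz, hzf⟩ := exists_orthonorm_next hF (isNondeg_top hF) (orthonorm_two hF hu hv huv)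
      (fun _ => trivial) (by simp; omega)
    exact ⟨z, hz, by simpa using hzf 0, by simpa using hzf 1, herm_zero_right hF z⟩
  obtain ⟨c, hc⟩ := exists_norm_eq hF (a := ⟪w, w⟫⁻¹) (by rw [inv_pow_q, herm_self_fixed hF])
  have hc0 : c ≠ 0 := fun h => inv_ne_zero hw (by rw [← hc, h, zero_pow (Nat.succ_ne_zero q)])
  have hw1 : ⟪c • w, c • w⟫ = 1 := by rw [herm_self_smul, hc, inv_mul_cancel₀ hw]
  obtain ⟨z, -, hz, hzf⟩ := exists_orthonorm_next hF (isNondeg_top hF)
    (orthonorm_three hF hu hv hw1 huv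
      (herm_eq_zero_comm hF (by rw [herm_smul_left, hwu, mul_zero]))
      (herm_eq_zero_comm hF (by rw [herm_smul_left, hwv, mul_zero])))
    (fun _ => trivial) (by simp; omega)
  have h2 : ⟪z, c • w⟫ = 0 := by simpa using hzf 2
  rw [herm_smul_right, mul_eq_zero] at h2
  exact ⟨z, hz, by simpa using hzf 0, by simpa using hzf 1, h2.resolve_left (pow_ne_zero q hc0)⟩

/-- The middle vector between `v0` and `v2` can be moved so that it leaves, with `v3` and `v4`, room for a unit
vector. -/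
theorem exists_mid (hq : 4 ≤ q) {v0 v2 v3 v4 : Fin m → F} (h0 : ⟪v0, v0⟫ = 1) (h3 : ⟪v3, v3⟫ = 1)
    (h4 : ⟪v4, v4⟫ = 1) (h32 : ⟪v3, v2⟫ = 0) (h40 : ⟪v4, v0⟫ = 0) (h34 : ⟪v3, v4⟫ = 0)
    (h30 : ⟪v3, v0⟫ ≠ 0) (h42 : ⟪v4, v2⟫ ≠ 0) :
    ∃ x z, (⟪x, x⟫ = 1 ∧ ⟪x, v0⟫ = 0 ∧ ⟪x, v2⟫ = 0) ∧
      (⟪z, z⟫ = 1 ∧ ⟪z, x⟫ = 0 ∧ ⟪z, v3⟫ = 0 ∧ ⟪z, v4⟫ = 0) := by
  classical
  have hf := orthonorm_two hF h3 h4 h34
  let Pr : (Fin m → F) →ₗ[F] (Fin m → F) :=
    { toFun := fun x => x - ⟪x, v3⟫ • v3 - ⟪x, v4⟫ • v4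
      map_add' := fun x y => by
        simp only [herm_add_left, add_smul]; abel
      map_smul' := fun c x => by
        simp only [herm_smul_left, RingHom.id_apply, smul_sub, smul_smul] }
  have hPr : ∀ x, Pr x = x - ⟪x, v3⟫ • v3 - ⟪x, v4⟫ • v4 := fun x => rfl
  have hP3 : ∀ x, ⟪Pr x, v3⟫ = 0 := fun x => by
    simp [hPr, herm_sub_left, herm_smul_left, h3, herm_eq_zero_comm hF h34]
  have hP4 : ∀ x, ⟪Pr x, v4⟫ = 0 := fun x => by
    simp [hPr, herm_sub_left, herm_smul_left, h4, h34]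
  set T := perpFam q ![v0, v2] with hT
  set L := perpFam q ![v3, v4] with hL
  have hmemT : ∀ x, x ∈ T ↔ ⟪x, v0⟫ = 0 ∧ ⟪x, v2⟫ = 0 := fun x => by
    rw [hT, mem_perpFam hF, Fin.forall_fin_two]; simp
  have hker : ∀ x ∈ T, Pr x = 0 → x = 0 := by
    intro x hx h
    obtain ⟨x0, x2⟩ := (hmemT x).1 hx
    have hx' : x = ⟪x, v3⟫ • v3 + ⟪x, v4⟫ • v4 := by
      rw [hPr, sub_sub] at h; exact sub_eq_zero.1 h
    have e0 : ⟪x, v3⟫ * ⟪v3, v0⟫ = 0 := by
      have := congrArg (fun u => ⟪u, v0⟫) hx'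
      simpa [herm_add_left, herm_smul_left, x0, h40] using this.symm
    have e2 : ⟪x, v4⟫ * ⟪v4, v2⟫ = 0 := by
      have := congrArg (fun u => ⟪u, v2⟫) hx'
      simpa [herm_add_left, herm_smul_left, x2, h32] using this.symm
    rw [hx', (mul_eq_zero.1 e0).resolve_right h30, (mul_eq_zero.1 e2).resolve_right h42]
    simp
  have hmap : T.map Pr ≤ L := by
    rintro _ ⟨x, -, rfl⟩
    refine (mem_perpFam hF).2 fun i => ?_
    fin_cases i
    · simpa using hP3 x
    · simpa using hP4 x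
  have hdimL : Module.finrank F L + 2 = m := by
    have h := finrank_perp_add hF (Submodule.span F (Set.range ![v3, v4]))
    rw [finrank_span_eq_card (hf.linearIndependent hF), Fintype.card_fin] at h
    rw [hL, perpFam]
    omega
  have hdimT := le_finrank_perpFam hF ![v0, v2]
  have hdisj : Disjoint T (LinearMap.ker Pr) := by
    rw [Submodule.disjoint_def]
    intro x hx hx'
    exact hker x hx hx'
  have hfin : Module.finrank F (T.map Pr) = Module.finrank F T := by
    rw [← Submodule.range_subtype T, ← LinearMap.range_comp, Submodule.range_subtype]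
    refine LinearMap.finrank_range_of_inj fun a b hab => ?_
    have : Pr ((a : Fin m → F) - b) = 0 := by rw [map_sub]; exact sub_eq_zero.2 hab
    exact Subtype.ext (sub_eq_zero.1 (hker _ (T.sub_mem a.2 b.2) this))
  have hmapeq : T.map Pr = L := Submodule.eq_of_le_of_finrank_le hmap (by rw [hfin]; rw [← hT] at hdimT; omega)
  obtain ⟨l, -, hl, hl'⟩ := exists_orthonorm_next hF (isNondeg_top hF) hf (fun _ => trivial) (by simp; omega)
  obtain ⟨y, hy, hly⟩ : l ∈ T.map Pr := hmapeq ▸ (mem_perpFam hF).2 hl'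
  obtain ⟨u, hu1, hu0, hu2⟩ := exists_unit_perp_two hF (by omega) h0 v2
  have hu : u ∈ T := (hmemT u).2 ⟨hu0, hu2⟩
  have hfinish : ∀ x ∈ T, ⟪x, x⟫ = 1 → ⟪Pr x, Pr x⟫ ≠ 0 → ∃ x z, (⟪x, x⟫ = 1 ∧ ⟪x, v0⟫ = 0 ∧ ⟪x, v2⟫ = 0) ∧
      (⟪z, z⟫ = 1 ∧ ⟪z, x⟫ = 0 ∧ ⟪z, v3⟫ = 0 ∧ ⟪z, v4⟫ = 0) := by
    intro x hx hx1 hxP
    obtain ⟨z, hz, z3, z4, zP⟩ := exists_unit_perp_proj hF hm h3 h4 h34 (hP3 x) (hP4 x) (Or.inr hxP)
    refine ⟨x, z, ⟨hx1, (hmemT x).1 hx⟩, hz, ?_, z3, z4⟩
    simpa [hPr, herm_sub_right hF, herm_smul_right, z3, z4] using zP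
  by_cases hu' : ⟪Pr u, Pr u⟫ ≠ 0
  · exact hfinish u hu hu1 hu'
  push Not at hu'
  set P1 : Polynomial F := Polynomial.C ⟪Pr y, Pr y⟫ * Polynomial.X ^ (q + 1) +
    Polynomial.C ⟪Pr u, Pr y⟫ * Polynomial.X ^ q + Polynomial.C ⟪Pr y, Pr u⟫ * Polynomial.X with hP1
  set P2 : Polynomial F := Polynomial.C ⟪y, y⟫ * Polynomial.X ^ (q + 1) +
    Polynomial.C ⟪u, y⟫ * Polynomial.X ^ q + Polynomial.C ⟪y, u⟫ * Polynomial.X + Polynomial.C 1 with hP2
  have hP10 : P1 ≠ 0 := by
    intro h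
    have hc := congrArg (fun P => Polynomial.coeff P (q + 1)) h
    simp only [hP1, Polynomial.coeff_add, Polynomial.coeff_C_mul, Polynomial.coeff_X_pow,
      Polynomial.coeff_X, Polynomial.coeff_zero, if_true, if_neg (show ¬ q + 1 = q by omega),
      if_neg (show ¬ 1 = q + 1 by omega), mul_one, mul_zero, add_zero, hly, hl] at hc
    exact one_ne_zero hc
  have hP20 : P2 ≠ 0 := by
    intro h
    have hc := congrArg (fun P => Polynomial.coeff P 0) h
    simp only [hP2, Polynomial.coeff_add, Polynomial.coeff_C_mul, Polynomial.coeff_X_pow, Polynomial.coeff_C,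
      Polynomial.coeff_X, Polynomial.coeff_zero, if_true, if_neg (show ¬ 0 = q + 1 by omega),
      if_neg (show ¬ 0 = q by omega), if_neg (show ¬ (1 : ℕ) = 0 by omega), mul_zero, add_zero, zero_add] at hc
    exact one_ne_zero hc
  have hd1 : P1.natDegree ≤ q + 1 := by rw [hP1]; compute_degree!
  have hd2 : P2.natDegree ≤ q + 1 := by rw [hP2]; compute_degree!
  obtain ⟨c, hc⟩ : (Finset.univ \ (P1 * P2).roots.toFinset).Nonempty := by
    rw [← Finset.card_pos]
    have h1 := Finset.le_card_sdiff (P1 * P2).roots.toFinset (Finset.univ : Finset F)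
    have h2 := Multiset.toFinset_card_le (P1 * P2).roots
    have h3 := Polynomial.card_roots' (P1 * P2)
    rw [Polynomial.natDegree_mul hP10 hP20] at h3
    rw [Finset.card_univ, hF, sq] at h1
    have : 4 * q ≤ q * q := Nat.mul_le_mul_right _ hq
    omega
  simp only [Finset.mem_sdiff, Finset.mem_univ, true_and, Multiset.mem_toFinset,
    Polynomial.mem_roots (mul_ne_zero hP10 hP20), Polynomial.IsRoot, Polynomial.eval_mul, mul_eq_zero, not_or] at hc
  have hh1 : ⟪Pr (u + c • y), Pr (u + c • y)⟫ ≠ 0 := by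
    intro h
    apply hc.1
    rw [map_add, map_smul] at h
    simp only [herm_add_left, herm_add_right hF, herm_smul_left, herm_smul_right, hu', zero_add] at h
    simp only [hP1, Polynomial.eval_add, Polynomial.eval_mul, Polynomial.eval_C, Polynomial.eval_pow,
      Polynomial.eval_X]
    linear_combination h
  have hh2 : ⟪u + c • y, u + c • y⟫ ≠ 0 := by
    intro h
    apply hc.2
    simp only [herm_add_left, herm_add_right hF, herm_smul_left, herm_smul_right, hu1] at h
    simp only [hP2, Polynomial.eval_add, Polynomial.eval_mul, Polynomial.eval_C, Polynomial.eval_pow,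
      Polynomial.eval_X]
    linear_combination h
  obtain ⟨d, hd⟩ := exists_norm_eq hF (a := ⟪u + c • y, u + c • y⟫⁻¹) (by rw [inv_pow_q, herm_self_fixed hF])
  refine hfinish (d • (u + c • y)) (T.smul_mem _ (T.add_mem hu (T.smul_mem _ hy))) ?_ ?_
  · rw [herm_self_smul, hd, inv_mul_cancel₀ hh2]
  · rw [map_smul, herm_self_smul, hd]
    exact mul_ne_zero (inv_ne_zero hh2) hh1

end CfsgLib.Phan
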