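import Mathlib
import Cfsg.Agent.Phan.Contract
import Cfsg.Agent.Phan.PentagonFour

/-!
# Gluing homomorphisms on two point stabilisers of `SU_4(q)`, `q ≥ 4`

In dimension four no square of the orthogonality graph of unit vectors has a common orthogonal unit vector. A square with
non-degenerate diagonals is closed because the images of the two opposite `SU_2` commute; a square with degenerate
diagonal by a pentagon; and every pentagon decomposes into squares and triangles.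
-/

set_option autoImplicit false

namespace CfsgLib.Phan

open Cfsg CfsgLib.Unitary

variable {F : Type*} [Field F] [Fintype F] {m q : ℕ}

local notation "⟪" u ", " v "⟫" => hermForm m F q u v

/-- In dimension four, an element fixing the last two vectors of an orthonormal frame commutes with one fixing the
first two. -/
theorem commute_of_frame (hF : Fintype.card F = q ^ 2) (hm : m = 4) {a b c d : Fin m → F} (ha : ⟪a, a⟫ = 1)
    (hb : ⟪b, b⟫ = 1) (hc : ⟪c, c⟫ = 1) (hd : ⟪d, d⟫ = 1) (hab : ⟪a, b⟫ = 0) (hac : ⟪a, c⟫ = 0)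
    (had : ⟪a, d⟫ = 0) (hbc : ⟪b, c⟫ = 0) (hbd : ⟪b, d⟫ = 0) (hcd : ⟪c, d⟫ = 0) {x y : ↥(SU m F q)}
    (hxc : sv x c = c) (hxd : sv x d = d) (hya : sv y a = a) (hyb : sv y b = b) : x * y = y * x := by
  subst hm
  have hf : Orthonorm q ![a, b, c, d] := by
    intro i j
    fin_cases i <;> fin_cases j <;>
      simp [ha, hb, hc, hd, hab, hac, had, hbc, hbd, hcd, herm_eq_zero_comm hF hab, herm_eq_zero_comm hF hac,
        herm_eq_zero_comm hF had, herm_eq_zero_comm hF hbc, herm_eq_zero_comm hF hbd, herm_eq_zero_comm hF hcd]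
  have hexp : ∀ v : Fin 4 → F, v = hermForm 4 F q v a • a + hermForm 4 F q v b • b + hermForm 4 F q v c • c +
      hermForm 4 F q v d • d := fun v => by
    conv_lhs => rw [expand_orthonorm hF hf v, Fin.sum_univ_four]
    rfl
  have hY : ∀ v, hermForm 4 F q v c = 0 → hermForm 4 F q v d = 0 → sv y v = v := fun v v1 v2 => by
    rw [hexp v, v1, v2]
    simp [sv_add, sv_smul, hya, hyb]
  have hX : ∀ v, hermForm 4 F q v a = 0 → hermForm 4 F q v b = 0 → sv x v = v := fun v v1 v2 => by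
    rw [hexp v, v1, v2]
    simp [sv_add, sv_smul, hxc, hxd]
  have key : ∀ v, sv (x * y) v = sv (y * x) v := by
    intro v
    rw [sv_mul, sv_mul, hexp v]
    simp only [sv_add, sv_smul, hya, hyb, hxc, hxd]
    have e : ∀ u, hermForm 4 F q u c = 0 → hermForm 4 F q u d = 0 → sv y (sv x u) = sv x u := fun u u1 u2 =>
      hY _ (by conv_lhs => arg 5; rw [← hxc]
               rw [sv_herm, u1]) (by conv_lhs => arg 5; rw [← hxd]
                                     rw [sv_herm, u2])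
    have e' : ∀ u, hermForm 4 F q u a = 0 → hermForm 4 F q u b = 0 → sv x (sv y u) = sv y u := fun u u1 u2 =>
      hX _ (by conv_lhs => arg 5; rw [← hya]
               rw [sv_herm, u1]) (by conv_lhs => arg 5; rw [← hyb]
                                     rw [sv_herm, u2])
    rw [e a hac had, e b hbc hbd, e' c (herm_eq_zero_comm hF hac) (herm_eq_zero_comm hF hbc),
      e' d (herm_eq_zero_comm hF had) (herm_eq_zero_comm hF hbd)]
  exact sv_ext key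

namespace Amalgam

variable {G : Type*} [Group G] (D : Amalgam m F q G)

/-- The images of the stabilisers of the two opposite lines commute. -/
structure CommFour where
  /-- the second vector -/
  e1 : Fin m → F
  h1 : ⟪e1, e1⟫ = 1
  h10 : ⟪e1, D.e0⟫ = 0
  h1L : ⟪e1, D.eL⟫ = 0
  h1β : ⟪e1, sv D.β D.eL⟫ = 0
  comm : ∀ (x y : ↥(SU m F q)) (hx : x ∈ stab D.eL) (hy : y ∈ stab D.e0),
    sv x (sv D.β D.eL) = sv D.β D.eL → sv y e1 = e1 → Commute (D.A ⟨x, hx⟩) (D.B ⟨y, hy⟩)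

omit [Fintype F] in
theorem P_mul (g γ : ↥(SU m F q) × G) : D.P (g * γ) = sv g.1 (D.P γ) := by
  simp only [P, Prod.fst_mul, sv_mul]

omit [Fintype F] in
theorem P_one' : D.P 1 = D.eL := by simp [P]

variable (hF : Fintype.card F = q ^ 2) (hm : m = 4)
include hF hm

theorem map_three4 {u v w u' v' w' : Fin m → F} (hu : ⟪u, u⟫ = 1) (hv : ⟪v, v⟫ = 1) (hw : ⟪w, w⟫ = 1)
    (huv : ⟪u, v⟫ = 0) (huw : ⟪u, w⟫ = 0) (hvw : ⟪v, w⟫ = 0) (hu' : ⟪u', u'⟫ = 1) (hv' : ⟪v', v'⟫ = 1)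
    (hw' : ⟪w', w'⟫ = 1) (huv' : ⟪u', v'⟫ = 0) (huw' : ⟪u', w'⟫ = 0) (hvw' : ⟪v', w'⟫ = 0) :
    ∃ g : ↥(SU m F q), sv g u = u' ∧ sv g v = v' ∧ sv g w = w' := by
  obtain ⟨g, hg⟩ := exists_SU_map_orthonorm hF (orthonorm_three hF hu hv hw huv huw hvw)
    (orthonorm_three hF hu' hv' hw' huv' huw' hvw') (by omega)
  exact ⟨g, hg 0, hg 1, hg 2⟩

theorem map_two4 {u v u' v' : Fin m → F} (hu : ⟪u, u⟫ = 1) (hv : ⟪v, v⟫ = 1)
    (huv : ⟪u, v⟫ = 0) (hu' : ⟪u', u'⟫ = 1) (hv' : ⟪v', v'⟫ = 1) (huv' : ⟪u', v'⟫ = 0) :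
    ∃ g : ↥(SU m F q), sv g u = u' ∧ sv g v = v' := by
  obtain ⟨g, hg⟩ := exists_SU_map_orthonorm hF (orthonorm_two hF hu hv huv)
    (orthonorm_two hF hu' hv' huv') (by omega)
  exact ⟨g, hg 0, hg 1⟩

theorem exists_adj4 (γ : ↥(SU m F q) × G) {w : Fin m → F} (hw : ⟪w, w⟫ = 1) (hγw : ⟪D.P γ, w⟫ = 0) :
    ∃ a ∈ D.gA, D.Adj γ (γ * a * D.bh) ∧ D.P (γ * a * D.bh) = w := by
  have hu : ⟪D.eL, sv γ.1⁻¹ w⟫ = 0 := by
    rw [← sv_herm γ.1, sv_sv_inv]; exact hγw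
  obtain ⟨g, hg1, hg2⟩ := map_two4 hF hm D.hL (D.βL_unit hF) (herm_eq_zero_comm hF D.hβL) D.hL
    (v' := sv γ.1⁻¹ w) (by rw [sv_herm, hw]) hu
  refine ⟨_, D.mem_gA_of hg1, ⟨_, D.mem_gA_of hg1, 1, D.gA.one_mem, (mul_one _).symm⟩, ?_⟩
  rw [Adj.P_eq D D.gA.one_mem (mul_one _).symm, hg2, sv_sv_inv]

theorem exists_lift4 (γ : ↥(SU m F q) × G) {w : Fin m → F} (hw : ⟪w, w⟫ = 1) (hγw : ⟪D.P γ, w⟫ = 0) :
    ∃ δ, D.Adj γ δ ∧ D.P δ = w := by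
  obtain ⟨a, -, h1, h2⟩ := D.exists_adj4 hF hm γ hw hγw
  exact ⟨_, h1, h2⟩

theorem symm4 {γ δ : ↥(SU m F q) × G} (h : D.Adj γ δ) : D.Adj δ γ := by
  obtain ⟨a, ha, x, hx, rfl⟩ := h
  have hbi : sv D.β⁻¹ D.e0 = D.e0 := sv_inv_eq (mem_stab.1 D.hβ)
  obtain ⟨g, hg0, hgL, hg1⟩ := map_three4 hF hm D.h0 D.hL (D.βL_unit hF) D.h0L (D.βL_e0 hF)
    (herm_eq_zero_comm hF D.hβL) D.h0 D.hL (w' := sv D.β⁻¹ D.eL) (by rw [sv_herm, D.hL]) D.h0L
    (by rw [← sv_herm D.β, mem_stab.1 D.hβ, sv_sv_inv, D.h0L])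
    (by rw [← sv_herm D.β, sv_sv_inv]; exact D.hβL)
  set y := D.β⁻¹ * g⁻¹ * D.β⁻¹ with hy
  have hy0 : y ∈ stab D.e0 :=
    (stab D.e0).mul_mem ((stab D.e0).mul_mem ((stab D.e0).inv_mem D.hβ) ((stab D.e0).inv_mem hg0))
      ((stab D.e0).inv_mem D.hβ)
  have hyL : y ∈ stab D.eL := by
    rw [mem_stab, hy, sv_mul, sv_mul, sv_inv_eq hg1, sv_inv_sv]
  have key : D.bh⁻¹ = (g, D.A ⟨g, hgL⟩) * D.bh * (y, D.A ⟨y, hyL⟩) := by
    rw [D.agree g hgL hg0, D.agree y hyL hy0]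
    have h1 : (⟨y, hy0⟩ : ↥(stab (q := q) D.e0)) = ⟨D.β, D.hβ⟩⁻¹ * ⟨g, hg0⟩⁻¹ * ⟨D.β, D.hβ⟩⁻¹ :=
      Subtype.ext rfl
    rw [h1, map_mul, map_mul, map_inv, map_inv]
    exact Prod.ext (by simp [bh, hy, mul_assoc]) (by simp [bh, mul_assoc])
  refine ⟨x⁻¹ * (g, D.A ⟨g, hgL⟩), D.gA.mul_mem (D.gA.inv_mem hx) (D.mem_gA_of hgL),
    (y, D.A ⟨y, hyL⟩) * a⁻¹, D.gA.mul_mem (D.mem_gA_of hyL) (D.gA.inv_mem ha), ?_⟩
  calc γ = γ * a * D.bh * x * x⁻¹ * D.bh⁻¹ * a⁻¹ := by simp [mul_assoc]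
    _ = _ := by rw [key]; simp [mul_assoc]

theorem inB_step4 {η γ δ : ↥(SU m F q) × G} (h : D.InB η γ) (ha : D.Adj γ δ)
    (hu : ⟪D.P δ, sv η.1 D.e0⟫ = 0) : D.InB η δ := by
  obtain ⟨b, hb, hs⟩ := h
  have ha' := Adj.congr_left D ha (Sim.symm D hs)
  set γ' := η * b with hγ'
  have hb0 : sv γ'.1 D.e0 = sv η.1 D.e0 := by
    rw [hγ', Prod.fst_mul, sv_mul, mem_stab.1 (D.gB_fst hb)]
  obtain ⟨g, hg0, hgL, hg1⟩ := map_three4 hF hm D.h0 D.hL (D.βL_unit hF) D.h0L (D.βL_e0 hF)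
    (herm_eq_zero_comm hF D.hβL) D.h0 D.hL (w' := sv γ'.1⁻¹ (D.P δ)) (by rw [sv_herm, P_norm]) D.h0L
    (by rw [← sv_herm γ'.1, sv_sv_inv, hb0]; exact herm_eq_zero_comm hF hu)
    (by rw [← sv_herm γ'.1, sv_sv_inv]; exact Adj.orth D hF ha')
  have hgA := D.mem_gA_of hgL
  have hgB : (g, D.A ⟨g, hgL⟩) ∈ D.gB := by rw [D.agree g hgL hg0]; exact D.mem_gB_of hg0
  refine ⟨b * (g, D.A ⟨g, hgL⟩) * D.bh, D.gB.mul_mem (D.gB.mul_mem hb hgB) D.bh_mem, ?_⟩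
  rw [show η * (b * (g, D.A ⟨g, hgL⟩) * D.bh) = γ' * (g, D.A ⟨g, hgL⟩) * D.bh by simp [hγ', mul_assoc]]
  refine D.star ⟨_, hgA, 1, D.gA.one_mem, (mul_one _).symm⟩ ha' ?_
  rw [Adj.P_eq D D.gA.one_mem (mul_one _).symm, hg1, sv_sv_inv]

theorem triangle4 {γ δ ε : ↥(SU m F q) × G} (h : D.Adj γ δ) (h' : D.Adj δ ε) (ho : ⟪D.P γ, D.P ε⟫ = 0) :
    D.Adj γ ε := by
  obtain ⟨u, -, hu, huf⟩ := exists_orthonorm_next hF (isNondeg_top hF) (orthonorm_three hF (D.P_norm γ)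
    (D.P_norm δ) (D.P_norm ε) (Adj.orth D hF h) ho (Adj.orth D hF h')) (fun _ => trivial) (by simp; omega)
  have u1 : ⟪u, D.P γ⟫ = 0 := by simpa using huf 0
  have u2 : ⟪u, D.P δ⟫ = 0 := by simpa using huf 1
  have u3 : ⟪u, D.P ε⟫ = 0 := by simpa using huf 2
  obtain ⟨g, hg0, hgL⟩ := map_two4 hF hm D.h0 D.hL D.h0L
    (u' := sv ε.1⁻¹ u) (by rw [sv_herm, hu]) D.hL (by rw [← sv_herm ε.1, sv_sv_inv]; exact u3)
  set η := ε * (g, D.A ⟨g, hgL⟩) with hηd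
  have hη : D.Sim ε η := by
    show ε⁻¹ * (ε * _) ∈ D.gA
    rw [inv_mul_cancel_left]; exact D.mem_gA_of hgL
  have hηu : sv η.1 D.e0 = u := by rw [hηd, Prod.fst_mul, sv_mul, hg0, sv_sv_inv]
  have hc : ∀ {g : ↥(SU m F q) × G}, ⟪u, D.P g⟫ = 0 → ⟪D.P g, sv η.1 D.e0⟫ = 0 :=
    fun h => by rw [hηu]; exact herm_eq_zero_comm hF h
  obtain ⟨e, hadj, hP⟩ := D.exists_lift4 hF hm γ (D.P_norm ε) ho
  have i1 := inB_step4 D hF hm (InB.of_sim D (Sim.symm D hη)) (symm4 D hF hm h') (hc u2)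
  have i3 := inB_step4 D hF hm (inB_step4 D hF hm i1 (symm4 D hF hm h) (hc u1)) hadj (hc (by rw [hP]; exact u3))
  exact Adj.congr_right D hadj (Sim.trans D (Sim.symm D (InB.sim D i3 (hP.trans (Sim.P_eq D hη))))
    (Sim.symm D hη))

theorem trans4 {p r a b c : Fin m → F} (hc : ⟪c, c⟫ = 1) (hcp : ⟪c, p⟫ = 0) (hcr : ⟪c, r⟫ = 0)
    (h1 : D.Eqv p r a c) (h2 : D.Eqv p r c b) : D.Eqv p r a b := by
  intro γ α ρ β' ρ' hp ha hα har hρ hb hβ hbr hρ'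
  obtain ⟨x, hadj, hP⟩ := D.exists_lift4 hF hm γ hc (by rw [hp]; exact herm_eq_zero_comm hF hcp)
  obtain ⟨y, hadj2, hP2⟩ := D.exists_lift4 hF hm x (w := r) (by rw [← hρ]; exact D.P_norm ρ)
    (by rw [hP]; exact hcr)
  exact Sim.trans D (h1 γ α ρ _ _ hp ha hα har hρ hadj hP hadj2 hP2)
    (h2 γ _ _ β' ρ' hp hadj hP hadj2 hP2 hb hβ hbr hρ')

theorem change4 {p r a b s : Fin m → F} (hs : ⟪s, s⟫ = 1) (hsa : ⟪s, a⟫ = 0) (hsb : ⟪s, b⟫ = 0)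
    (h1 : D.Eqv p s a b) (h2 : D.Eqv s r a b) : D.Eqv p r a b := by
  intro γ α ρ β' ρ' hp ha hα har hρ hb hβ hbr hρ'
  obtain ⟨x, hadj, hP⟩ := D.exists_lift4 hF hm α hs (by rw [hα]; exact herm_eq_zero_comm hF hsa)
  obtain ⟨y, hadj2, hP2⟩ := D.exists_lift4 hF hm β' hs (by rw [hβ]; exact herm_eq_zero_comm hF hsb)
  have hσ := h1 γ α _ β' _ hp ha hα hadj hP hb hβ hadj2 hP2
  exact h2 _ α ρ β' ρ' hP (symm4 D hF hm hadj) hα har hρ
    (Adj.congr_left D (symm4 D hF hm hadj2) (Sim.symm D hσ)) hβ hbr hρ'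

theorem endOrth4 {p r a b : Fin m → F} (hpr : ⟪p, r⟫ = 0) : D.Eqv p r a b := by
  intro γ α ρ β' ρ' hp ha hα har hρ hb hβ hbr hρ'
  exact D.star (D.triangle4 hF hm ha har (by rw [hp, hρ]; exact hpr))
    (D.triangle4 hF hm hb hbr (by rw [hp, hρ']; exact hpr)) (hρ.trans hρ'.symm)

/-- A square whose diagonal `p, r` is non-degenerate, based at the identity in standard position. -/
theorem nd_core (C : D.CommFour) {r b : Fin m → F} (hr : ⟪r, r⟫ = 1) (hr0 : ⟪D.e0, r⟫ = 0)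
    (hr1 : ⟪C.e1, r⟫ = 0) (hb : ⟪b, b⟫ = 1) (hbL : ⟪b, D.eL⟫ = 0) (hbβ : ⟪b, sv D.β D.eL⟫ = 0)
    {α ρ β' ρ' : ↥(SU m F q) × G} (ha : D.Adj 1 α) (hα : D.P α = D.e0) (har : D.Adj α ρ)
    (hρ : D.P ρ = r) (hb' : D.Adj 1 β') (hβ : D.P β' = b) (hbr : D.Adj β' ρ') (hρ' : D.P ρ' = r) :
    D.Sim ρ ρ' := by
  have hL0 := herm_eq_zero_comm hF D.h0L
  have hβL' := herm_eq_zero_comm hF D.hβL
  obtain ⟨y, hy0, hy1, hyL⟩ := map_three4 hF hm D.h0 C.h1 D.hL (herm_eq_zero_comm hF C.h10) D.h0L C.h1L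
    D.h0 C.h1 hr (herm_eq_zero_comm hF C.h10) hr0 hr1
  obtain ⟨x, hxL, hxβ, hx0⟩ := map_three4 hF hm D.hL (D.βL_unit hF) D.h0 hβL' hL0
    (herm_eq_zero_comm hF (D.βL_e0 hF)) D.hL (D.βL_unit hF) hb hβL' (herm_eq_zero_comm hF hbL)
    (herm_eq_zero_comm hF hbβ)
  set yh : ↥(SU m F q) × G := (y, D.B ⟨y, hy0⟩) with hyh
  set xh : ↥(SU m F q) × G := (x, D.A ⟨x, hxL⟩) with hxh
  have hxy : xh * yh = yh * xh := by
    have hc := C.comm x y hxL hy0 hxβ hy1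
    refine Prod.ext ?_ hc.eq
    exact commute_of_frame hF hm D.h0 C.h1 (D.βL_unit hF) D.hL (herm_eq_zero_comm hF C.h10) (D.βL_e0 hF) D.h0L
      C.h1β C.h1L D.hβL hxβ (mem_stab.1 hxL) (mem_stab.1 hy0) hy1
  have hP1 : D.P 1 = D.eL := D.P_one'
  have hη0 : sv (1 : ↥(SU m F q) × G).1 D.e0 = D.e0 := sv_one _
  obtain ⟨κ, hκ, hκP⟩ := D.exists_lift4 hF hm 1 C.h1 (by rw [hP1]; exact herm_eq_zero_comm hF C.h1L)
  obtain ⟨ρk, hρk, hρkP⟩ := D.exists_lift4 hF hm κ hr (by rw [hκP]; exact hr1)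
  have i1 := inB_step4 D hF hm (InB.of_sim D (D.sim_refl 1)) hκ (by rw [hκP, hη0]; exact C.h10)
  obtain ⟨b₁, hb₁, hsim⟩ := inB_step4 D hF hm i1 hρk (by rw [hρkP, hη0]; exact herm_eq_zero_comm hF hr0)
  have hPy : D.P yh = r := hyL
  have hρy : D.Sim ρk yh := by
    refine Sim.trans D (Sim.symm D hsim) ?_
    show (1 * b₁)⁻¹ * yh ∈ D.gA
    rw [one_mul]
    refine D.gB_inter (D.gB.mul_mem (D.gB.inv_mem hb₁) (D.mem_gB_of hy0)) ?_
    have hP : sv b₁.1 D.eL = r := by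
      have := (Sim.P_eq D hsim).trans hρkP
      rwa [one_mul] at this
    rw [mem_stab, Prod.fst_mul, sv_mul, show sv yh.1 D.eL = sv b₁.1 D.eL from hyL.trans hP.symm, Prod.fst_inv,
      sv_inv_sv]
  have hκy := Adj.congr_right D hρk hρy
  have hακ : D.Adj α κ := D.triangle4 hF hm (D.symm4 hF hm ha) hκ (by rw [hα, hκP]; exact herm_eq_zero_comm hF C.h10)
  have hαy : D.Adj α yh := D.triangle4 hF hm hακ hκy (by rw [hα, hPy]; exact hr0)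
  have hρy' : D.Sim ρ yh := D.star har hαy (hρ.trans hPy.symm)
  have hx1 : D.Sim xh 1 := by
    show xh⁻¹ * 1 ∈ D.gA
    rw [mul_one]; exact D.gA.inv_mem (D.mem_gA_of hxL)
  have hxα : D.Adj 1 (xh * α) := Adj.congr_left D (by have := Adj.mul_left D ha xh; rwa [mul_one] at this) hx1
  have hβsim : D.Sim (xh * α) β' := D.star hxα hb' (by rw [P_mul, hα, hβ]; exact hx0)
  have hyx : D.Sim (xh * yh) yh := by
    rw [hxy]
    show (yh * xh)⁻¹ * yh ∈ D.gA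
    rw [mul_inv_rev, inv_mul_cancel_right]
    exact D.gA.inv_mem (D.mem_gA_of hxL)
  have hβy : D.Adj β' yh :=
    Adj.congr_left D (Adj.congr_right D (Adj.mul_left D hαy xh) hyx) hβsim
  exact Sim.trans D hρy' (D.star hβy hbr (hPy.trans hρ'.symm))

/-- A square with a non-degenerate diagonal is closed. -/
theorem nd4 (C : D.CommFour) {p r a b : Fin m → F} (hN : ⟪r, p⟫ ^ (q + 1) ≠ 1) (hp : ⟪p, p⟫ = 1)
    (hr : ⟪r, r⟫ = 1) (ha : ⟪a, a⟫ = 1) (hb : ⟪b, b⟫ = 1) (hap : ⟪a, p⟫ = 0) (har : ⟪a, r⟫ = 0)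
    (hbp : ⟪b, p⟫ = 0) (hbr : ⟪b, r⟫ = 0) : D.Eqv p r a b := by
  intro γ α ρ β' ρ' hγ hA hα hAR hρ hB hβ hBR hρ'
  have hz : ⟪proj q p r, proj q p r⟫ ≠ 0 := by
    rw [herm_proj_self hF hp hr, sub_ne_zero]; exact Ne.symm hN
  obtain ⟨c, hc⟩ := exists_norm_eq hF (a := ⟪proj q p r, proj q p r⟫⁻¹) (by rw [inv_pow_q, herm_self_fixed hF])
  have hc0 : c ≠ 0 := fun h => inv_ne_zero hz (by rw [← hc, h, zero_pow (Nat.succ_ne_zero q)])
  set w := c • proj q p r with hwd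
  have hw : ⟪w, w⟫ = 1 := by rw [hwd, herm_self_smul, hc, inv_mul_cancel₀ hz]
  have hwp : ⟪w, p⟫ = 0 := by rw [hwd, herm_smul_left, proj_perp hp, mul_zero]
  have horth : ∀ {v}, ⟪v, p⟫ = 0 → ⟪v, r⟫ = 0 → ⟪w, v⟫ = 0 := fun {v} vp vr => by
    rw [hwd, herm_smul_left, proj_orth (herm_eq_zero_comm hF vr) (herm_eq_zero_comm hF vp), mul_zero]
  obtain ⟨g, hgL, hg0, hgβ⟩ := map_three4 hF hm D.hL D.h0 (D.βL_unit hF) (herm_eq_zero_comm hF D.h0L)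
    (herm_eq_zero_comm hF D.hβL) (D.βL_e0 hF) (u' := sv γ.1⁻¹ p) (v' := sv γ.1⁻¹ a) (w' := sv γ.1⁻¹ w)
    (by rw [sv_herm, hp]) (by rw [sv_herm, ha]) (by rw [sv_herm, hw])
    (by rw [sv_herm]; exact herm_eq_zero_comm hF hap) (by rw [sv_herm]; exact herm_eq_zero_comm hF hwp)
    (by rw [sv_herm]; exact herm_eq_zero_comm hF (horth hap har))
  have hγp : sv γ.1⁻¹ p = D.eL := sv_inv_eq hγ
  rw [hγp] at hgL
  set h : ↥(SU m F q) × G := (γ * (g, D.A ⟨g, hgL⟩))⁻¹ with hh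
  have hbase : D.Sim (h * γ) 1 := by
    show (h * γ)⁻¹ * 1 ∈ D.gA
    rw [hh, mul_one, mul_inv_rev, inv_inv, inv_mul_cancel_left]
    exact D.mem_gA_of hgL
  have hk : ∀ v, sv h.1 v = sv g⁻¹ (sv γ.1⁻¹ v) := fun v => by
    rw [hh, Prod.fst_inv, Prod.fst_mul, mul_inv_rev, sv_mul]
  have hPh : ∀ δ, D.P (h * δ) = sv g⁻¹ (sv γ.1⁻¹ (D.P δ)) := fun δ => by rw [P_mul, hk]
  have ea : sv g⁻¹ (sv γ.1⁻¹ a) = D.e0 := sv_inv_eq hg0
  have ew : sv g⁻¹ (sv γ.1⁻¹ w) = sv D.β D.eL := sv_inv_eq hgβ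
  have ep : sv g⁻¹ (sv γ.1⁻¹ p) = D.eL := by rw [hγp]; exact sv_inv_eq hgL
  have hher : ∀ u v, ⟪sv g⁻¹ (sv γ.1⁻¹ u), sv g⁻¹ (sv γ.1⁻¹ v)⟫ = ⟪u, v⟫ := fun u v => by rw [sv_herm, sv_herm]
  have hr1 : ⟪C.e1, sv g⁻¹ (sv γ.1⁻¹ r)⟫ = 0 := by
    have hrd : r = ⟪r, p⟫ • p + c⁻¹ • w := by
      rw [hwd, smul_smul, inv_mul_cancel₀ hc0, one_smul]; exact eq_add_proj q p r
    rw [hrd, sv_add, sv_smul, sv_smul, sv_add, sv_smul, sv_smul, ep, ew, herm_add_right hF, herm_smul_right,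
      herm_smul_right, C.h1L, C.h1β, mul_zero, mul_zero, add_zero]
  have key := D.nd_core hF hm C (r := sv g⁻¹ (sv γ.1⁻¹ r)) (b := sv g⁻¹ (sv γ.1⁻¹ b)) (by rw [hher, hr])
    (by rw [← ea, hher]; exact har) hr1 (by rw [hher, hb]) (by rw [← ep, hher]; exact hbp)
    (by rw [← ew, hher]; exact herm_eq_zero_comm hF (horth hbp hbr))
    (α := h * α) (ρ := h * ρ) (β' := h * β') (ρ' := h * ρ')
    (Adj.congr_left D (Adj.mul_left D hA h) hbase) (by rw [hPh, hα, ea]) (Adj.mul_left D hAR h) (by rw [hPh, hρ])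
    (Adj.congr_left D (Adj.mul_left D hB h) hbase) (by rw [hPh, hβ]) (Adj.mul_left D hBR h) (by rw [hPh, hρ'])
  simpa using Sim.mul_left D key h⁻¹

omit hm in
theorem eqv_symm4 {p r a b : Fin m → F} (h : D.Eqv p r a b) : D.Eqv p r b a :=
  fun γ α ρ β' ρ' hp ha hα har hρ hb hβ hbr hρ' =>
    Sim.symm D (h γ β' ρ' α ρ hp hb hβ hbr hρ' ha hα har hρ)

/-- A square closed by a pentagon. -/
theorem fan4 {p r a b x y z : Fin m → F} (hx : ⟪x, x⟫ = 1) (hxp : ⟪x, p⟫ = 0) (hxa : ⟪x, a⟫ = 0)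
    (hy : ⟪y, y⟫ = 1) (hyp : ⟪y, p⟫ = 0) (hyb : ⟪y, b⟫ = 0) (hyx : ⟪y, x⟫ = 0) (hz : ⟪z, z⟫ = 1)
    (hza : ⟪z, a⟫ = 0) (hzr : ⟪z, r⟫ = 0) (hzy : ⟪z, y⟫ = 0) (h1 : D.Eqv a y x z) (h2 : D.Eqv y r z b) :
    D.Eqv p r a b := by
  intro γ α ρ β' ρ' hp ha hα har hρ hb hβ hbr hρ'
  obtain ⟨X, hX, hXP⟩ := D.exists_lift4 hF hm γ hx (by rw [hp]; exact herm_eq_zero_comm hF hxp)
  obtain ⟨Y, hY, hYP⟩ := D.exists_lift4 hF hm γ hy (by rw [hp]; exact herm_eq_zero_comm hF hyp)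
  have hαX := D.triangle4 hF hm (D.symm4 hF hm ha) hX (by rw [hα, hXP]; exact herm_eq_zero_comm hF hxa)
  have hXY := D.triangle4 hF hm (D.symm4 hF hm hX) hY (by rw [hXP, hYP]; exact herm_eq_zero_comm hF hyx)
  have hβY := D.triangle4 hF hm (D.symm4 hF hm hb) hY (by rw [hβ, hYP]; exact herm_eq_zero_comm hF hyb)
  obtain ⟨Z, hZ, hZP⟩ := D.exists_lift4 hF hm α hz (by rw [hα]; exact herm_eq_zero_comm hF hza)
  obtain ⟨Y', hY', hY'P⟩ := D.exists_lift4 hF hm Z hy (by rw [hZP]; exact hzy)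
  have hZY := Adj.congr_right D hY' (Sim.symm D (h1 α X Y Z Y' hα hαX hXP hXY hYP hZ hZP hY' hY'P))
  have hZR := D.triangle4 hF hm (D.symm4 hF hm hZ) har (by rw [hZP, hρ]; exact hzr)
  exact h2 Y Z ρ β' ρ' hYP (D.symm4 hF hm hZY) hZP hZR hρ (D.symm4 hF hm hβY) hβ hbr hρ'

variable (hq : 4 ≤ q)
include hq

/-- All squares with a diagonal `p, r` spanning a degenerate plane are closed. -/
theorem deg4 (C : D.CommFour) {p r a b : Fin m → F} (hN : ⟪r, p⟫ ^ (q + 1) = 1) (hne : proj q p r ≠ 0)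
    (hp : ⟪p, p⟫ = 1) (hr : ⟪r, r⟫ = 1) (ha : ⟪a, a⟫ = 1) (hb : ⟪b, b⟫ = 1) (hap : ⟪a, p⟫ = 0)
    (har : ⟪a, r⟫ = 0) (hbp : ⟪b, p⟫ = 0) (hbr : ⟪b, r⟫ = 0) : D.Eqv p r a b := by
  set l := ⟪r, p⟫ with hl
  set n := proj q p r with hnd
  have hrd : r = l • p + n := eq_add_proj q p r
  have hnn : ⟪n, n⟫ = 0 := by rw [hnd, herm_proj_self hF hp hr, hN, sub_self]
  have hnp : ⟪n, p⟫ = 0 := proj_perp hp
  have hperp : ∀ {v}, ⟪v, p⟫ = 0 → ⟪v, r⟫ = 0 → ⟪v, n⟫ = 0 := fun {v} vp vr =>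
    herm_eq_zero_comm hF (proj_orth (herm_eq_zero_comm hF vr) (herm_eq_zero_comm hF vp))
  have hperp' : ∀ {v}, ⟪v, p⟫ = 0 → ⟪v, n⟫ = 0 → ⟪v, r⟫ = 0 := fun {v} vp vn =>
    herm_perp_of_decomp hF vp vn
  have hsc : ∀ (e : Fin m → F) (s : F), ⟪e, e⟫ = 1 → ⟪e, p⟫ = 0 → ⟪e, n⟫ = 0 → s ^ (q + 1) = 1 → D.Eqv p r e (s • e) := by
    intro e s he hep hen hs
    obtain ⟨f, hff, hnf, hfp, hfe⟩ := exists_partner_perp hF hp he (herm_eq_zero_comm hF hep) hne hnn hnp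
      (herm_eq_zero_comm hF hen)
    obtain ⟨B, hB, hB0, hB1, -⟩ := exists_fixed_avoid hF hq
    obtain ⟨c, d, -, -, -, hx, hxp, hxe, hxn⟩ :=
      exists_unit_hyperbolic hF hnn hnp (herm_eq_zero_comm hF hen) hff hnf hfp hfe hB hB0
    have hsep : ⟪s • e, p⟫ = 0 := by rw [herm_smul_left, hep, mul_zero]
    have hsee : ⟪s • e, s • e⟫ = 1 := by rw [herm_self_smul, hs, he, mul_one]
    refine D.change4 hF hm hx hxe (by rw [herm_smul_right, hxe, mul_zero])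
      (D.endOrth4 hF hm (herm_eq_zero_comm hF hxp)) (D.nd4 hF hm C ?_ hx hr he hsee
      (herm_eq_zero_comm hF hxe) (hperp' hep hen) ?_ ?_)
    · rw [hrd, herm_add_left, herm_smul_left, herm_eq_zero_comm hF hxp, mul_zero, zero_add, hxn]
      exact hB1
    · rw [herm_smul_left, herm_eq_zero_comm hF hxe, mul_zero]
    · rw [herm_smul_left, hperp' hep hen, mul_zero]
  have hone : ∀ (e : Fin m → F) (s t : F), ⟪e, e⟫ = 1 → ⟪e, p⟫ = 0 → ⟪e, n⟫ = 0 → s ^ (q + 1) = 1 → t ^ (q + 1) = 1 →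
      D.Eqv p r e (s • e + t • n) := by
    intro e s t he hep hen hs ht
    obtain ⟨x, y, z, ⟨hx, hxp, hxe⟩, ⟨hy, hyp, hyb, hyx⟩, ⟨hz, hze, hzr, hzy⟩, hN1, hN2⟩ :=
      exists_fan hF hq hp he (herm_eq_zero_comm hF hep) hne hnn hnp (herm_eq_zero_comm hF hen) hN hs ht
    rw [← hrd] at hzr hN2
    have hsn : ⟪s • e + t • n, s • e + t • n⟫ = 1 := by
      simp only [herm_add_left, herm_add_right hF, herm_smul_left, herm_smul_right, he, hnn, hen,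
        herm_eq_zero_comm hF hen, mul_zero, add_zero, zero_add]
      rw [mul_one, ← pow_succ, hs]
    have hsr : ⟪s • e + t • n, r⟫ = 0 := by
      refine hperp' ?_ ?_
      · rw [herm_add_left, herm_smul_left, herm_smul_left, hep, hnp, mul_zero, mul_zero, add_zero]
      · rw [herm_add_left, herm_smul_left, herm_smul_left, hen, hnn, mul_zero, mul_zero, add_zero]
    refine D.fan4 hF hm hx hxp hxe hy hyp hyb hyx hz hze hzr hzy
      (D.nd4 hF hm C ?_ he hy hx hz hxe (herm_eq_zero_comm hF hyx) hze hzy)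
      (D.nd4 hF hm C hN2 hy hr hz hsn hzy hzr (herm_eq_zero_comm hF hyb) hsr)
    exact hN1
  have hadd : ∀ t : F, ∀ e, ⟪e, e⟫ = 1 → ⟪e, p⟫ = 0 → ⟪e, n⟫ = 0 → D.Eqv p r e (e + t • n) := by
    intro t
    have ht := mem_closure_norm_one hF t
    have hadm : ∀ (u : F) e, ⟪e, e⟫ = 1 → ⟪e, p⟫ = 0 → ⟪e, n⟫ = 0 →
        ⟪e + u • n, e + u • n⟫ = 1 ∧ ⟪e + u • n, p⟫ = 0 ∧ ⟪e + u • n, n⟫ = 0 := fun u e he hep hen => by
      simp [herm_add_left, herm_add_right hF, herm_smul_left, herm_smul_right, he, hep, hen,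
        herm_eq_zero_comm hF hen, hnn, hnp]
    induction ht using AddSubgroup.closure_induction with
    | mem t ht =>
      intro e he hep hen
      have h := hone e 1 t he hep hen (one_pow _) ht
      rwa [one_smul] at h
    | zero =>
      intro e he hep hen
      have h := hsc e 1 he hep hen (one_pow _)
      rw [one_smul] at h
      rwa [zero_smul, add_zero]
    | add t u _ _ h1 h2 =>
      intro e he hep hen
      obtain ⟨a1, a2, a3⟩ := hadm t e he hep hen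
      rw [add_smul, ← add_assoc]
      exact D.trans4 hF hm a1 a2 (hperp' a2 a3) (h1 e he hep hen) (h2 _ a1 a2 a3)
    | neg t _ h1 =>
      intro e he hep hen
      obtain ⟨a1, a2, a3⟩ := hadm (-t) e he hep hen
      have h := h1 _ a1 a2 a3
      rw [add_assoc, ← add_smul, neg_add_cancel, zero_smul, add_zero] at h
      exact D.eqv_symm4 hF h
  have han := hperp hap har
  have hbn := hperp hbp hbr
  obtain ⟨f, hff, hnf, hfp, hfe⟩ := exists_partner_perp hF hp ha (herm_eq_zero_comm hF hap) hne hnn hnp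
    (herm_eq_zero_comm hF han)
  have hbd := eq_of_four_coords hF hm hp ha (herm_eq_zero_comm hF hap) hnn hnp (herm_eq_zero_comm hF han) hff hnf
    hfp hfe b
  rw [hbp, hbn, zero_smul, zero_smul, zero_add, add_zero] at hbd
  have hs : ⟪b, a⟫ ^ (q + 1) = 1 := by
    have h := congrArg (fun v => ⟪v, v⟫) hbd
    simp only [herm_add_left, herm_add_right hF, herm_smul_left, herm_smul_right, ha, hnn, han,
      herm_eq_zero_comm hF han, mul_zero, add_zero, zero_add, hb, mul_one] at h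
    rw [pow_succ]; exact h.symm
  have hsa1 : ⟪⟪b, a⟫ • a, ⟪b, a⟫ • a⟫ = 1 := by rw [herm_self_smul, hs, ha, mul_one]
  have hsa2 : ⟪⟪b, a⟫ • a, p⟫ = 0 := by rw [herm_smul_left, hap, mul_zero]
  have hsa3 : ⟪⟪b, a⟫ • a, n⟫ = 0 := by rw [herm_smul_left, han, mul_zero]
  refine D.trans4 hF hm hsa1 hsa2 (hperp' hsa2 hsa3) (hsc a _ ha hap han hs) ?_
  conv => arg 5; rw [hbd]
  exact hadd _ _ hsa1 hsa2 hsa3

/-- All squares are closed. -/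
theorem all4 (C : D.CommFour) {p r a b : Fin m → F} (hp : ⟪p, p⟫ = 1) (hr : ⟪r, r⟫ = 1) (ha : ⟪a, a⟫ = 1)
    (hb : ⟪b, b⟫ = 1) (hap : ⟪a, p⟫ = 0) (har : ⟪a, r⟫ = 0) (hbp : ⟪b, p⟫ = 0) (hbr : ⟪b, r⟫ = 0) :
    D.Eqv p r a b := by
  have hproj : ∀ {p r : Fin m → F}, ⟪p, p⟫ = 1 → ⟪r, r⟫ = 1 → ⟪a, p⟫ = 0 → ⟪a, r⟫ = 0 → ⟪b, p⟫ = 0 →
      ⟪b, r⟫ = 0 → proj q p r ≠ 0 → D.Eqv p r a b := fun {p r} hp hr hap har hbp hbr hne => by
    by_cases hN : ⟪r, p⟫ ^ (q + 1) = 1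
    · exact D.deg4 hF hm hq C hN hne hp hr ha hb hap har hbp hbr
    · exact D.nd4 hF hm C hN hp hr ha hb hap har hbp hbr
  by_cases hne : proj q p r = 0
  swap
  · exact hproj hp hr hap har hbp hbr hne
  set T := perpFam q ![a, b] with hT
  have hmemT : ∀ v, v ∈ T ↔ ⟪v, a⟫ = 0 ∧ ⟪v, b⟫ = 0 := fun v => by
    rw [hT, mem_perpFam hF, Fin.forall_fin_two]; simp
  have hpT : p ∈ T := (hmemT p).2 ⟨herm_eq_zero_comm hF hap, herm_eq_zero_comm hF hbp⟩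
  obtain ⟨w, hwT, hwp⟩ : ∃ w ∈ T, w ∉ Submodule.span F {p} := by
    by_contra h
    push Not at h
    have h1 := Submodule.finrank_mono h
    have h2 := le_finrank_perpFam hF ![a, b]
    have hp0 : p ≠ 0 := fun h => by rw [h, herm_zero_left] at hp; exact zero_ne_one hp
    rw [finrank_span_singleton hp0] at h1
    rw [← hT] at h2
    omega
  set w0 := proj q p w with hw0d
  have hw00 : w0 ≠ 0 := fun h => hwp (by
    rw [show w = ⟪w, p⟫ • p + proj q p w from eq_add_proj q p w, ← hw0d, h, add_zero]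
    exact Submodule.smul_mem _ _ (Submodule.mem_span_singleton_self p))
  have hw0T : w0 ∈ T := T.sub_mem hwT (T.smul_mem _ hpT)
  have hw0p : ⟪w0, p⟫ = 0 := proj_perp hp
  obtain ⟨s, hsT, hs, hps⟩ : ∃ s ∈ T, ⟪s, s⟫ = 1 ∧ proj q p s ≠ 0 := by
    by_cases h0 : ⟪w0, w0⟫ = 0
    · refine ⟨p + w0, T.add_mem hpT hw0T, ?_, ?_⟩
      · simp [herm_add_left, herm_add_right hF, hp, hw0p, herm_eq_zero_comm hF hw0p, h0]
      · simpa [proj, herm_add_left, hp, hw0p] using hw00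
    · obtain ⟨c, hc⟩ := exists_norm_eq hF (a := ⟪w0, w0⟫⁻¹) (by rw [inv_pow_q, herm_self_fixed hF])
      refine ⟨c • w0, T.smul_mem _ hw0T, by rw [herm_self_smul, hc, inv_mul_cancel₀ h0], ?_⟩
      have hc0 : c ≠ 0 := fun h => inv_ne_zero h0 (by rw [← hc, h, zero_pow (Nat.succ_ne_zero q)])
      simpa [proj, herm_smul_left, hw0p] using ⟨hc0, hw00⟩
  obtain ⟨hsa, hsb⟩ := (hmemT s).1 hsT
  refine D.change4 hF hm hs hsa hsb
    (hproj hp hs hap (herm_eq_zero_comm hF hsa) hbp (herm_eq_zero_comm hF hsb) hps)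
    (hproj hs hr (herm_eq_zero_comm hF hsa) har (herm_eq_zero_comm hF hsb) hbr fun h => hps ?_)
  have hr' : r = ⟪r, p⟫ • p := by
    conv_lhs => rw [eq_add_proj q p r, hne, add_zero]
  have hrs : r = ⟪r, s⟫ • s := by
    conv_lhs => rw [eq_add_proj q s r, h, add_zero]
  have hl0 : ⟪r, s⟫ ≠ 0 := fun h0 => by
    rw [h0, zero_smul] at hrs
    rw [hrs, herm_zero_left] at hr
    exact zero_ne_one hr
  have hsp : s = (⟪r, s⟫⁻¹ * ⟪r, p⟫) • p := by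
    rw [← smul_smul, ← hr', eq_inv_smul_iff₀ hl0, ← hrs]
  generalize hk : ⟪r, s⟫⁻¹ * ⟪r, p⟫ = k at hsp
  rw [hsp, proj, herm_smul_left, hp, mul_one, sub_self]

/-- A path of length three between two cosets can be replaced by one of length two. -/
theorem two_step4 (C : D.CommFour) {γ y z : ↥(SU m F q) × G} (h : D.Two γ y) (hz : D.Adj y z) : D.Two γ z := by
  obtain ⟨x, hγx, hxy⟩ := h
  have hxo := Adj.orth D hF hγx
  have hyo := Adj.orth D hF hxy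
  have hzo := Adj.orth D hF hz
  have hall : ∀ {a b : Fin m → F}, ⟪a, a⟫ = 1 → ⟪b, b⟫ = 1 → ⟪a, D.P γ⟫ = 0 → ⟪a, D.P y⟫ = 0 →
      ⟪b, D.P γ⟫ = 0 → ⟪b, D.P y⟫ = 0 → D.Eqv (D.P γ) (D.P y) a b := fun {a b} ha hb h1 h2 h3 h4 =>
    D.all4 hF hm hq C (D.P_norm γ) (D.P_norm y) ha hb h1 h2 h3 h4
  obtain ⟨c, hc, hcγ, hcz⟩ := exists_unit_perp_two hF (by omega) (D.P_norm γ) (D.P z)
  obtain ⟨Cl, hCl, hClP⟩ := D.exists_lift4 hF hm γ hc (herm_eq_zero_comm hF hcγ)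
  refine ⟨Cl, hCl, ?_⟩
  have hClo : ⟪D.P Cl, D.P z⟫ = 0 := by rw [hClP]; exact hcz
  by_cases h30 : ⟪D.P z, D.P γ⟫ = 0
  · obtain ⟨Δ, hΔ, hΔP⟩ := D.exists_lift4 hF hm γ (D.P_norm z) (herm_eq_zero_comm hF h30)
    obtain ⟨Y', hY', hY'P⟩ := D.exists_lift4 hF hm Δ (D.P_norm y)
      (by rw [hΔP]; exact herm_eq_zero_comm hF hzo)
    have hs := hall (D.P_norm x) (D.P_norm z) (herm_eq_zero_comm hF hxo) hyo h30 (herm_eq_zero_comm hF hzo)
      γ x y Δ Y' rfl hγx rfl hxy rfl hΔ hΔP hY' hY'P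
    have hΔz : D.Sim Δ z :=
      D.star (D.symm4 hF hm (Adj.congr_right D hY' (Sim.symm D hs))) hz hΔP
    exact D.triangle4 hF hm (D.symm4 hF hm hCl) (Adj.congr_right D hΔ hΔz) hClo
  by_cases h42 : ⟪c, D.P y⟫ = 0
  · obtain ⟨Y', hY', hY'P⟩ := D.exists_lift4 hF hm Cl (D.P_norm y) (by rw [hClP]; exact h42)
    have hs := hall (D.P_norm x) hc (herm_eq_zero_comm hF hxo) hyo hcγ h42
      γ x y Cl Y' rfl hγx rfl hxy rfl hCl hClP hY' hY'P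
    exact D.triangle4 hF hm (Adj.congr_right D hY' (Sim.symm D hs)) hz hClo
  obtain ⟨w, u, ⟨hw, hwγ, hwy⟩, hu, huw, hu3, hu4⟩ := exists_mid hF hm hq (D.P_norm γ) (D.P_norm z) hc
    (herm_eq_zero_comm hF hzo) hcγ (herm_eq_zero_comm hF hcz) h30 h42
  obtain ⟨X, hX, hXP⟩ := D.exists_lift4 hF hm γ hw (herm_eq_zero_comm hF hwγ)
  obtain ⟨Y', hY', hY'P⟩ := D.exists_lift4 hF hm X (D.P_norm y) (by rw [hXP]; exact hwy)
  have hs := hall (D.P_norm x) hw (herm_eq_zero_comm hF hxo) hyo hwγ hwy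
    γ x y X Y' rfl hγx rfl hxy rfl hX hXP hY' hY'P
  have hXy : D.Adj X y := Adj.congr_right D hY' (Sim.symm D hs)
  obtain ⟨U, hU, hUP⟩ := D.exists_lift4 hF hm X hu (by rw [hXP]; exact herm_eq_zero_comm hF huw)
  obtain ⟨Z', hZ', hZ'P⟩ := D.exists_lift4 hF hm U (D.P_norm z) (by rw [hUP]; exact hu3)
  have hs3 := D.all4 hF hm hq C hw (D.P_norm z) (D.P_norm y) hu (herm_eq_zero_comm hF hwy) hzo huw hu3
    X y z U Z' hXP hXy rfl hz rfl hU hUP hZ' hZ'P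
  have hUz : D.Adj U z := Adj.congr_right D hZ' (Sim.symm D hs3)
  obtain ⟨C', hC', hC'P⟩ := D.exists_lift4 hF hm U hc (by rw [hUP]; exact hu4)
  have hs4 := D.all4 hF hm hq C hw hc (D.P_norm γ) hu (herm_eq_zero_comm hF hwγ) (herm_eq_zero_comm hF hcγ)
    huw hu4 X γ Cl U C' hXP (D.symm4 hF hm hX) rfl hCl hClP hU hUP hC' hC'P
  exact D.triangle4 hF hm (D.symm4 hF hm (Adj.congr_right D hC' (Sim.symm D hs4))) hUz hClo

theorem two_gB4 (C : D.CommFour) {g : ↥(SU m F q) × G} (hg : g ∈ D.gB) : D.Two 1 g := by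
  have hP1 := D.P_one'
  have hgo : ⟪D.e0, D.P g⟫ = 0 := by
    conv_lhs => arg 4; rw [← mem_stab.1 (D.gB_fst hg)]
    rw [P, sv_herm, D.h0L]
  have hgu := D.P_norm g
  set w := proj q D.eL (D.P g) with hwd
  have hwL : ⟪w, D.eL⟫ = 0 := proj_perp D.hL
  have hw0 : ⟪w, D.e0⟫ = 0 := proj_orth (herm_eq_zero_comm hF hgo) (herm_eq_zero_comm hF D.h0L)
  obtain ⟨c, hc, hc0, hcL, hcN⟩ : ∃ c, ⟪c, c⟫ = 1 ∧ ⟪c, D.e0⟫ = 0 ∧ ⟪c, D.eL⟫ = 0 ∧
      ⟪c, D.P g⟫ ^ (q + 1) ≠ 1 := by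
    by_cases hwi : ⟪w, w⟫ = 0
    · obtain ⟨c0, -, hc0, hc0f⟩ := exists_orthonorm_next hF (isNondeg_top hF)
        (orthonorm_two hF D.h0 D.hL D.h0L) (fun _ => trivial) (by simp; omega)
      obtain ⟨c, hcP, hc, hcw⟩ := exists_unit_avoid hF (by omega) (P := perpFam q ![D.e0, D.eL]) (z := w) (u := c0)
        ((mem_perpFam hF).2 fun i => by fin_cases i <;> simpa) hwi ((mem_perpFam hF).2 hc0f) hc0
      have hcL : ⟪c, D.eL⟫ = 0 := by simpa using (mem_perpFam hF).1 hcP 1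
      refine ⟨c, hc, by simpa using (mem_perpFam hF).1 hcP 0, hcL, ?_⟩
      rwa [hwd, herm_proj_right hF, hcL, mul_zero, sub_zero] at hcw
    · obtain ⟨c, hc, hc0, hcL, hcw⟩ := exists_unit_perp_proj hF hm D.h0 D.hL D.h0L hw0 hwL (Or.inr hwi)
      refine ⟨c, hc, hc0, hcL, ?_⟩
      rw [hwd, herm_proj_right hF, hcL, mul_zero, sub_zero] at hcw
      rw [hcw, zero_pow (Nat.succ_ne_zero q)]
      exact zero_ne_one
  obtain ⟨d, hd, hd0, hdc, hdw⟩ := exists_unit_perp_proj hF hm D.h0 hc (herm_eq_zero_comm hF hc0)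
    (proj_orth (herm_eq_zero_comm hF hgo) hc0) (proj_perp hc)
    (Or.inr (by rw [herm_proj_self hF hc hgu, sub_ne_zero, norm_herm_swap hF]; exact Ne.symm hcN))
  have hdg : ⟪d, D.P g⟫ = 0 := herm_perp_of_decomp hF hdc hdw
  obtain ⟨X, hX, hXP⟩ := D.exists_lift4 hF hm 1 hc (by rw [hP1]; exact herm_eq_zero_comm hF hcL)
  obtain ⟨Y, hY, hYP⟩ := D.exists_lift4 hF hm X hd (by rw [hXP]; exact herm_eq_zero_comm hF hdc)
  obtain ⟨Z, hZ, hZP⟩ := D.exists_lift4 hF hm Y hgu (by rw [hYP]; exact hdg)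
  have he : sv (1 : ↥(SU m F q) × G).1 D.e0 = D.e0 := sv_one _
  have i1 := inB_step4 D hF hm (InB.of_sim D (D.sim_refl 1)) hX (by rw [hXP, he]; exact hc0)
  have i2 := inB_step4 D hF hm i1 hY (by rw [hYP, he]; exact hd0)
  obtain ⟨b, hb, hbs⟩ := inB_step4 D hF hm i2 hZ (by rw [hZP, he]; exact herm_eq_zero_comm hF hgo)
  refine D.two_step4 hF hm hq C ⟨X, hX, hY⟩ (Adj.congr_right D hZ (Sim.trans D (Sim.symm D hbs) ?_))
  show (1 * b)⁻¹ * g ∈ D.gA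
  rw [one_mul]
  refine D.gB_inter (D.gB.mul_mem (D.gB.inv_mem hb) hg) ?_
  have hP : sv b.1 D.eL = D.P g := by
    have := (Sim.P_eq D hbs).trans hZP
    rwa [one_mul] at this
  rw [mem_stab, Prod.fst_mul, sv_mul, show sv g.1 D.eL = sv b.1 D.eL from hP.symm, Prod.fst_inv, sv_inv_sv]

theorem two_hull4 (C : D.CommFour) {g : ↥(SU m F q) × G} (hg : g ∈ D.hull) :
    ∀ γ, D.Two 1 γ → D.Two 1 (γ * g) := by
  rw [hull, Subgroup.sup_eq_closure] at hg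
  have hmul : ∀ {δ ε γ : ↥(SU m F q) × G}, D.Two δ ε → D.Two (γ * δ) (γ * ε) := by
    rintro δ ε γ ⟨x, h1, h2⟩
    exact ⟨γ * x, Adj.mul_left D h1 γ, Adj.mul_left D h2 γ⟩
  have hcon : ∀ {γ g : ↥(SU m F q) × G}, g ∈ D.gA → D.Two 1 γ → D.Two 1 (γ * g) := by
    rintro γ g hg ⟨x, h1, h2⟩
    exact ⟨x, h1, Adj.congr_right D h2 (by show γ⁻¹ * (γ * g) ∈ D.gA; rwa [inv_mul_cancel_left])⟩
  have happ : ∀ {γ g : ↥(SU m F q) × G}, g ∈ D.gB → D.Two 1 γ → D.Two 1 (γ * g) := by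
    intro γ g hg h
    obtain ⟨x, h1, h2⟩ := hmul (γ := γ) (D.two_gB4 hF hm hq C hg)
    rw [mul_one] at h1
    exact D.two_step4 hF hm hq C (D.two_step4 hF hm hq C h h1) h2
  induction hg using Subgroup.closure_induction'' with
  | mem g hg =>
    intro γ h
    rcases hg with hg | hg
    · exact hcon hg h
    · exact happ hg h
  | inv_mem g hg =>
    intro γ h
    rcases hg with hg | hg
    · exact hcon (D.gA.inv_mem hg) h
    · exact happ (D.gB.inv_mem hg) h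
  | one => intro γ h; rwa [mul_one]
  | mul x y _ _ hx hy => intro γ h; rw [← mul_assoc]; exact hy _ (hx γ h)

theorem hull_inter4 (C : D.CommFour) {g : ↥(SU m F q) × G} (hg : g ∈ D.hull)
    (hL : g.1 ∈ stab D.eL) : g ∈ D.gA := by
  have hP1 := D.P_one'
  obtain ⟨X, hX, -⟩ := D.exists_lift4 hF hm 1 (w := sv D.β D.eL) (D.βL_unit hF)
    (by rw [hP1]; exact herm_eq_zero_comm hF D.hβL)
  have h2 := D.two_hull4 hF hm hq C hg 1 ⟨_, hX, D.symm4 hF hm hX⟩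
  rw [one_mul] at h2
  obtain ⟨x, hx1, hx2⟩ := h2
  have hs := D.star (D.symm4 hF hm hx1) hx2 (by rw [hP1, P, mem_stab.1 hL])
  simpa [Sim] using hs

/-- The two homomorphisms extend to `SU_4`. -/
theorem exists_glue_four (C : D.CommFour) : ∃ f : ↥(SU m F q) →* G,
    (∀ (c : ↥(SU m F q)) (h : c ∈ stab D.eL), f c = D.A ⟨c, h⟩) ∧
    ∀ (c : ↥(SU m F q)) (h : c ∈ stab D.e0), f c = D.B ⟨c, h⟩ := by
  have hsurj : ∀ g : ↥(SU m F q), ∃ y, (g, y) ∈ D.hull := by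
    intro g
    obtain ⟨c, hc, c1, c2⟩ := exists_unit_perp_two hF (by omega) D.hL (sv g D.eL)
    obtain ⟨a, ha, -, hA2⟩ := D.exists_adj4 hF hm 1 (w := c) hc
      (by rw [D.P_one']; exact herm_eq_zero_comm hF c1)
    obtain ⟨a', ha', -, hB2⟩ := D.exists_adj4 hF hm (1 * a * D.bh) (w := sv g D.eL) (by rw [sv_herm, D.hL])
      (by rw [hA2]; exact c2)
    set δ := 1 * a * D.bh * a' * D.bh with hδ
    have hmem : δ ∈ D.hull := Subgroup.mul_mem _ (Subgroup.mul_mem _ (Subgroup.mul_mem _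
      (Subgroup.mul_mem _ (Subgroup.one_mem _) (Subgroup.mem_sup_left ha)) (Subgroup.mem_sup_right D.bh_mem))
      (Subgroup.mem_sup_left ha')) (Subgroup.mem_sup_right D.bh_mem)
    have hst : δ.1⁻¹ * g ∈ stab D.eL := by
      rw [mem_stab, sv_mul, show sv g D.eL = sv δ.1 D.eL from hB2.symm, sv_inv_sv]
    refine ⟨δ.2 * D.A ⟨_, hst⟩, ?_⟩
    have h := Subgroup.mul_mem _ hmem (Subgroup.mem_sup_left (D.mem_gA_of hst) : _ ∈ D.hull)
    convert h using 1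
    exact Prod.ext (by simp) rfl
  choose φ hφ using hsurj
  have huniq : ∀ g y, (g, y) ∈ D.hull → y = φ g := by
    intro g y hy
    have h := Subgroup.mul_mem _ (Subgroup.inv_mem _ (hφ g)) hy
    have h1 := D.hull_inter4 hF hm hq C h (by simp [mem_stab, sv_one])
    have h2 := D.gA_eq h1 D.gA.one_mem (by simp)
    have h3 := congrArg Prod.snd h2
    simp only [Prod.snd_mul, Prod.snd_inv, Prod.snd_one] at h3
    exact (inv_mul_eq_one.1 h3).symm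
  exact ⟨MonoidHom.mk' φ fun g g' => (huniq _ _ (Subgroup.mul_mem _ (hφ g) (hφ g'))).symm,
    fun c h => (huniq _ _ (Subgroup.mem_sup_left (D.mem_gA_of h))).symm,
    fun c h => (huniq _ _ (Subgroup.mem_sup_right (D.mem_gB_of h))).symm⟩

end Amalgam

end CfsgLib.Phan
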