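import Mathlib
import Cfsg.Prelude.Def_PhanSystems
import Cfsg.Agent.Classical.Unitary.Center
import Cfsg.Agent.Classical.Unitary.Simple
import Cfsg.Agent.Phan.Auto

/-!
# Standard pairs and four-dimensional charts
-/

set_option autoImplicit false

namespace CfsgLib.Phan

open Cfsg CfsgLib.Unitary

theorem out3_0 : ∀ i : Fin 4, (∀ j, win (m := 4) (k := 3) 0 (by decide) j ≠ i) ↔ i = 3 := by decide

theorem out3_1 : ∀ i : Fin 4, (∀ j, win (m := 4) (k := 3) 1 (by decide) j ≠ i) ↔ i = 0 := by decide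

theorem out2_0 : ∀ i : Fin 4, (∀ j, win (m := 4) (k := 2) 0 (by decide) j ≠ i) ↔ i = 2 ∨ i = 3 := by decide

theorem out2_1 : ∀ i : Fin 4, (∀ j, win (m := 4) (k := 2) 1 (by decide) j ≠ i) ↔ i = 0 ∨ i = 3 := by decide

theorem out2_2 : ∀ i : Fin 4, (∀ j, win (m := 4) (k := 2) 2 (by decide) j ≠ i) ↔ i = 0 ∨ i = 1 := by decide

variable {F : Type*} [Field F] [Fintype F] {m q : ℕ} (hF : Fintype.card F = q ^ 2)
include hF

theorem stab_smul (v : Fin m → F) {c : F} (hc : c ≠ 0) : stab (q := q) (c • v) = stab (q := q) v := by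
  ext g
  simp only [mem_stab, sv_smul]
  exact ⟨fun h => smul_right_injective _ hc h, fun h => by rw [h]⟩

theorem map_conj_stab (s : ↥(SU m F q)) (v : Fin m → F) :
    (stab (q := q) v).map (MulAut.conj s).toMonoidHom = stab (q := q) (sv s v) := by
  ext g
  constructor
  · rintro ⟨x, hx, rfl⟩
    show sv (s * x * s⁻¹) (sv s v) = sv s v
    rw [sv_mul, sv_mul, sv_inv_sv, mem_stab.1 hx]
  · intro hg
    refine ⟨s⁻¹ * g * s, ?_, ?_⟩
    · show sv (s⁻¹ * g * s) v = v
      rw [sv_mul, sv_mul, mem_stab.1 hg, sv_inv_sv]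
    · show s * (s⁻¹ * g * s) * s⁻¹ = g
      group

theorem map_conj_stab_inf (s : ↥(SU m F q)) (v w : Fin m → F) :
    (stab (q := q) v ⊓ stab (q := q) w).map (MulAut.conj s).toMonoidHom
      = stab (q := q) (sv s v) ⊓ stab (q := q) (sv s w) := by
  rw [Subgroup.map_inf _ _ _ (MulAut.conj s).injective, map_conj_stab hF, map_conj_stab hF]

theorem stab_single_eq_suBlock {n : ℕ} (r : Fin n) (s : Set (Fin n)) (hs : ∀ k, k ∉ s ↔ k = r) :
    suBlock n F q s = stab (q := q) (Pi.single r (1 : F)) := by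
  have hq0 : q ≠ 0 := by have := two_le_q hF; omega
  refine le_antisymm ((Subgroup.closure_le _).2 fun A hA => ?_) fun A hA => Subgroup.subset_closure fun k hk => ?_
  · show sv A (Pi.single r 1) = Pi.single r 1
    obtain ⟨h1, h2⟩ := hA r ((hs r).2 rfl)
    funext l
    rw [sv_single]
    rcases eq_or_ne l r with rfl | hl
    · rw [Pi.single_eq_same]; exact h1
    · rw [Pi.single_eq_of_ne hl]; exact (h2 l hl).2
  · obtain rfl := (hs k).1 hk
    have hcol : ∀ l, mat A l k = (Pi.single k (1 : F) : Fin n → F) l := fun l => by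
      rw [← sv_single, mem_stab.1 hA]
    refine ⟨by have := hcol k; rwa [Pi.single_eq_same] at this, fun l hl =>
      ⟨?_, by have := hcol l; rwa [Pi.single_eq_of_ne hl] at this⟩⟩
    show mat A k l = 0
    have h := sv_herm A (Pi.single l 1) (Pi.single k 1)
    rw [mem_stab.1 hA, herm_single_right _ _ hq0, herm_single_single hF, if_neg hl, sv_single] at h
    exact h

/-- A standard pair gives a map of `SU_3` with central kernel carrying the blocks to the pair. -/
theorem exists_pair_hom {G : Type*} [Group G] {V A B : Subgroup G} (h : IsStandardUnitaryPair V A B F q) :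
    ∃ π : ↥(SU 3 F q) →* G, π.range = V ∧ π.ker ≤ Subgroup.center ↥(SU 3 F q) ∧
      (π.ker = ⊥ ∨ π.ker = Subgroup.center ↥(SU 3 F q)) ∧
      (stab (q := q) (Pi.single (2 : Fin 3) (1 : F))).map π = A ∧
      (stab (q := q) (Pi.single (0 : Fin 3) (1 : F))).map π = B := by
  have e01 := stab_single_eq_suBlock hF (2 : Fin 3) {0, 1} fun k => by fin_cases k <;> simp
  have e12 := stab_single_eq_suBlock hF (0 : Fin 3) {1, 2} fun k => by fin_cases k <;> simp
  rcases h with ⟨ψ, hA, hB⟩ | ⟨ψ, hA, hB⟩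
  · refine ⟨V.subtype.comp ψ.toMonoidHom, ?_, ?_, Or.inl ?_, e01 ▸ hA, e12 ▸ hB⟩
    · rw [MonoidHom.range_comp, MonoidHom.range_eq_top.2 ψ.surjective, ← MonoidHom.range_eq_map, Subgroup.range_subtype]
    all_goals
      have hk : (V.subtype.comp ψ.toMonoidHom).ker = ⊥ :=
        (MonoidHom.ker_eq_bot_iff _).2 (V.subtype_injective.comp ψ.injective)
    · rw [hk]; exact bot_le
    · exact hk
  · refine ⟨V.subtype.comp (ψ.toMonoidHom.comp (QuotientGroup.mk' _)), ?_, ?_, Or.inr ?_, e01 ▸ hA, e12 ▸ hB⟩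
    · rw [MonoidHom.range_comp, MonoidHom.range_eq_top.2 (ψ.surjective.comp (QuotientGroup.mk'_surjective _)),
        ← MonoidHom.range_eq_map, Subgroup.range_subtype]
    all_goals
      have hk : (V.subtype.comp (ψ.toMonoidHom.comp (QuotientGroup.mk' (Subgroup.center ↥(SU 3 F q))))).ker
          = Subgroup.center ↥(SU 3 F q) := by
        ext x
        simp only [MonoidHom.mem_ker, MonoidHom.coe_comp, Function.comp_apply, Subgroup.coe_subtype,
          OneMemClass.coe_eq_one, MulEquiv.coe_toMonoidHom, map_eq_one_iff _ ψ.injective]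
        exact QuotientGroup.eq_one_iff x
    · rw [hk]
    · exact hk

/-- A central element fixing a nonzero vector is trivial. -/
theorem eq_one_of_central (hm : 2 ≤ m) {g : ↥(SU m F q)} (hg : g ∈ Subgroup.center ↥(SU m F q))
    {v : Fin m → F} (hv : v ≠ 0) (hfix : sv g v = v) : g = 1 := by
  obtain ⟨c, hc⟩ := (mem_center_SU_iff hF hm g).1 hg
  have h1 : sv g v = c • v := by
    rw [sv, hc]; ext i; simp [Matrix.mulVec_diagonal]
  obtain ⟨i, hi⟩ := Function.ne_iff.1 hv
  rw [h1] at hfix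
  have hc1 : c = 1 := by
    have := congrFun hfix i
    exact mul_right_cancel₀ hi (by simpa using this)
  refine Subtype.ext (Subtype.ext ?_)
  rw [hc, hc1]; simp

theorem center_eq_bot (hm : 2 ≤ m) (hco : Nat.gcd m (q + 1) = 1) :
    Subgroup.center ↥(SU m F q) = ⊥ :=
  Subgroup.eq_bot_of_card_eq _ ((card_center_SU hF hm).trans hco)

/-- A map with central kernel is injective on the image of a window missing a coordinate. -/
theorem injective_comp_emb {k : ℕ} {G : Type*} [Group G] (hm : 2 ≤ m) (g : ↥(SU m F q) →* G)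
    (hg : g.ker ≤ Subgroup.center ↥(SU m F q)) (f : Fin k ↪ Fin m) {r : Fin m} (hr : ∀ j, f j ≠ r) :
    Function.Injective (g.comp (emb hF f)) := by
  rw [← MonoidHom.ker_eq_bot_iff, Subgroup.eq_bot_iff_forall]
  intro x hx
  have h1 : emb hF f x = 1 := eq_one_of_central hF hm (hg hx) (v := Pi.single r 1)
    (fun h => by simpa using congrFun h r) (sv_emb_single_of_notMem hF f x hr)
  exact emb_injective hF f (by rw [h1, map_one])

theorem range_emb_stab {k : ℕ} (f : Fin k ↪ Fin m) (r : Fin m) (hr : ∀ i, (∀ j, f j ≠ i) ↔ i = r) :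
    (emb hF f).range = stab (q := q) (Pi.single r (1 : F)) := by
  refine le_antisymm ?_ fun g hg => exists_emb_eq hF f g fun i hi => (hr i).1 hi ▸ hg
  rintro _ ⟨x, rfl⟩
  exact sv_emb_single_of_notMem hF f x ((hr r).2 rfl)

theorem range_emb_stab_inf {k : ℕ} (f : Fin k ↪ Fin m) (r r' : Fin m)
    (hr : ∀ i, (∀ j, f j ≠ i) ↔ i = r ∨ i = r') :
    (emb hF f).range = stab (q := q) (Pi.single r (1 : F)) ⊓ stab (q := q) (Pi.single r' (1 : F)) := by
  refine le_antisymm ?_ fun g hg => exists_emb_eq hF f g fun i hi => ?_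
  · rintro _ ⟨x, rfl⟩
    exact ⟨sv_emb_single_of_notMem hF f x ((hr r).2 (Or.inl rfl)),
      sv_emb_single_of_notMem hF f x ((hr r').2 (Or.inr rfl))⟩
  · rcases (hr i).1 hi with rfl | rfl
    · exact hg.1
    · exact hg.2

theorem range_win3_0 : (emb hF (win (m := 4) (k := 3) 0 (by omega))).range = stab (q := q) (Pi.single (3 : Fin 4) (1 : F)) :=
  range_emb_stab hF _ 3 out3_0

theorem range_win3_1 : (emb hF (win (m := 4) (k := 3) 1 (by omega))).range = stab (q := q) (Pi.single (0 : Fin 4) (1 : F)) :=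
  range_emb_stab hF _ 0 out3_1

theorem range_win2_0 : (emb hF (win (m := 4) (k := 2) 0 (by omega))).range
    = stab (q := q) (Pi.single (2 : Fin 4) (1 : F)) ⊓ stab (q := q) (Pi.single (3 : Fin 4) (1 : F)) :=
  range_emb_stab_inf hF _ 2 3 out2_0

theorem range_win2_1 : (emb hF (win (m := 4) (k := 2) 1 (by omega))).range
    = stab (q := q) (Pi.single (0 : Fin 4) (1 : F)) ⊓ stab (q := q) (Pi.single (3 : Fin 4) (1 : F)) :=
  range_emb_stab_inf hF _ 0 3 out2_1

theorem range_win2_2 : (emb hF (win (m := 4) (k := 2) 2 (by omega))).range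
    = stab (q := q) (Pi.single (0 : Fin 4) (1 : F)) ⊓ stab (q := q) (Pi.single (1 : Fin 4) (1 : F)) :=
  range_emb_stab_inf hF _ 0 1 out2_2

/-- A chart of two consecutive pairs: the coordinate windows go to the given subgroups. -/
structure IsChart {G : Type*} [Group G] (A B C V V' : Subgroup G) (g : ↥(SU 4 F q) →* G) : Prop where
  rA : (g.comp (emb hF (win 0 (show 0 + 2 ≤ 4 by omega)))).range = A
  rB : (g.comp (emb hF (win 1 (show 1 + 2 ≤ 4 by omega)))).range = B
  rC : (g.comp (emb hF (win 2 (show 2 + 2 ≤ 4 by omega)))).range = C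
  rV : (g.comp (emb hF (win 0 (show 0 + 3 ≤ 4 by omega)))).range = V
  rV' : (g.comp (emb hF (win 1 (show 1 + 3 ≤ 4 by omega)))).range = V'
  inj : Function.Injective (g.comp (emb hF (win 0 (show 0 + 3 ≤ 4 by omega))))
  inj' : Function.Injective (g.comp (emb hF (win 1 (show 1 + 3 ≤ 4 by omega))))

/-- An orthonormal frame is the image of the standard one, up to a scalar on the last vector. -/
theorem exists_conj_frame (v : Fin 4 → Fin 4 → F) (hv : Orthonorm q v) :
    ∃ (s : ↥(SU 4 F q)) (c : F), c ≠ 0 ∧ sv s (Pi.single 0 1) = v 0 ∧ sv s (Pi.single 1 1) = v 1 ∧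
      sv s (Pi.single 2 1) = v 2 ∧ sv s (Pi.single 3 1) = c • v 3 := by
  obtain ⟨s, hs⟩ := exists_SU_map_orthonorm hF
    (f := fun i : Fin 3 => Pi.single (Fin.castSucc i) (1 : F)) (f' := fun i : Fin 3 => v (Fin.castSucc i))
    (fun i j => by rw [herm_single_single hF]; simp [Fin.ext_iff]) (fun i j => by rw [hv]; simp [Fin.ext_iff])
    (by omega)
  have h3 : ∃ c : F, c ≠ 0 ∧ sv s (Pi.single 3 1) = c • v 3 := by
    have hu : ∀ i : Fin 3, hermForm 4 F q (sv s (Pi.single 3 1)) (v (Fin.castSucc i)) = 0 := fun i => by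
      rw [← hs i, sv_herm, herm_single_single hF, if_neg]
      intro h; have := congrArg Fin.val h; simp at this; omega
    have he := expand_orthonorm hF hv (sv s (Pi.single 3 1))
    rw [Fin.sum_univ_four, show (0 : Fin 4) = Fin.castSucc 0 from rfl, show (1 : Fin 4) = Fin.castSucc 1 from rfl,
      show (2 : Fin 4) = Fin.castSucc 2 from rfl, hu, hu, hu, zero_smul, zero_smul, zero_smul, zero_add, zero_add,
      zero_add] at he
    refine ⟨_, fun h => ?_, he⟩
    rw [h, zero_smul] at he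
    have h1 := sv_herm s (Pi.single 3 1) (Pi.single (3 : Fin 4) (1 : F))
    rw [he, herm_zero_left, herm_single_single hF, if_pos rfl] at h1
    exact zero_ne_one h1
  obtain ⟨c, hc, h3⟩ := h3
  refine ⟨s, c, hc, ?_, ?_, ?_, h3⟩
  · exact hs 0
  · exact hs 1
  · exact hs 2

/-- An orthonormal frame adapted to the subgroups gives a chart. -/
theorem exists_chart_of_frame {G : Type*} [Group G] {A B C V V' : Subgroup G} (g : ↥(SU 4 F q) →* G)
    (hg : g.ker ≤ Subgroup.center ↥(SU 4 F q)) (v : Fin 4 → Fin 4 → F) (hv : Orthonorm q v)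
    (hA : (stab (q := q) (v 2) ⊓ stab (q := q) (v 3)).map g = A)
    (hB : (stab (q := q) (v 0) ⊓ stab (q := q) (v 3)).map g = B)
    (hC : (stab (q := q) (v 0) ⊓ stab (q := q) (v 1)).map g = C)
    (hV : (stab (q := q) (v 3)).map g = V) (hV' : (stab (q := q) (v 0)).map g = V') :
    ∃ g' : ↥(SU 4 F q) →* G, IsChart hF A B C V V' g' := by
  obtain ⟨s, c, hc, e0, e1, e2, h3⟩ := exists_conj_frame hF v hv
  have key : ∀ {k : ℕ} (f : Fin k ↪ Fin 4), ((g.comp (MulAut.conj s).toMonoidHom).comp (emb hF f)).range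
      = ((emb hF f).range.map (MulAut.conj s).toMonoidHom).map g := fun f => by
    rw [MonoidHom.range_comp, ← Subgroup.map_map]
  have hker : (g.comp (MulAut.conj s).toMonoidHom).ker ≤ Subgroup.center ↥(SU 4 F q) := fun x hx => by
    have h := hg (show MulAut.conj s x ∈ g.ker from hx)
    rw [Subgroup.mem_center_iff] at h ⊢
    intro y
    exact (MulAut.conj s).injective (by rw [map_mul, map_mul]; exact h _)
  refine ⟨g.comp (MulAut.conj s).toMonoidHom, ⟨?_, ?_, ?_, ?_, ?_,
    injective_comp_emb hF (by omega) _ hker _ (r := 3) ((out3_0 3).2 rfl),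
    injective_comp_emb hF (by omega) _ hker _ (r := 0) ((out3_1 0).2 rfl)⟩⟩
  · rw [key, range_win2_0 hF, map_conj_stab_inf hF, e2, h3, stab_smul hF _ hc, hA]
  · rw [key, range_win2_1 hF, map_conj_stab_inf hF, e0, h3, stab_smul hF _ hc, hB]
  · rw [key, range_win2_2 hF, map_conj_stab_inf hF, e0, e1, hC]
  · rw [key, range_win3_0 hF, map_conj_stab hF, h3, stab_smul hF _ hc, hV]
  · rw [key, range_win3_1 hF, map_conj_stab hF, e0, hV']

/-- The map of the kernel of a nonzero map from `SU_4` is central. -/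
theorem ker_le_center_of_ne {G : Type*} [Group G] (g : ↥(SU 4 F q) →* G) (hne : g.range ≠ ⊥) :
    g.ker ≤ Subgroup.center ↥(SU 4 F q) :=
  (le_center_or_eq_top hF (by omega) (by omega) g.ker).resolve_right fun h => hne (by
    rw [MonoidHom.range_eq_bot_iff]; exact MonoidHom.ker_eq_top_iff.1 h)

end CfsgLib.Phan
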