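import Mathlib
import Cfsg.Agent.Phan.Local

/-!
# Orthonormal eigenframes
-/

set_option autoImplicit false

namespace CfsgLib.Phan

open Cfsg CfsgLib.Unitary

variable {F : Type*} [Field F] [Fintype F] {m q : ℕ} (hF : Fintype.card F = q ^ 2)
include hF

omit hF in
omit [Fintype F] in
theorem sv_sum {ι : Type*} (A : ↥(SU m F q)) (s : Finset ι) (x : ι → Fin m → F) :
    sv A (∑ i ∈ s, x i) = ∑ i ∈ s, sv A (x i) :=
  Matrix.mulVec_sum _ s x

/-- Greedy construction of an orthonormal basis of vectors with a property. -/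
theorem exists_basis_of_step (P : (Fin m → F) → Prop)
    (step : ∀ k, k < m → ∀ f : Fin k → Fin m → F, Orthonorm q f → (∀ i, P (f i)) →
      ∃ w, P w ∧ hermForm m F q w w = 1 ∧ ∀ i, hermForm m F q w (f i) = 0) :
    ∃ f : Fin m → Fin m → F, Orthonorm q f ∧ ∀ i, P (f i) := by
  suffices h : ∀ k, k ≤ m → ∃ f : Fin k → Fin m → F, Orthonorm q f ∧ ∀ i, P (f i) from h m le_rfl
  intro k hk
  induction k with
  | zero => exact ⟨Fin.elim0, fun i => i.elim0, fun i => i.elim0⟩
  | succ k ih =>
    obtain ⟨f, hf, hP⟩ := ih (by omega)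
    obtain ⟨w, hw, hw1, hwf⟩ := step k (by omega) f hf hP
    exact ⟨_, hf.snoc hF hw1 hwf, fun i => by
      refine Fin.lastCases ?_ (fun i => ?_) i
      · simpa using hw
      · simpa using hP i⟩

/-- Scaling an anisotropic vector to norm one. -/
theorem exists_unit_smul {x : Fin m → F} (hx : hermForm m F q x x ≠ 0) :
    ∃ c : F, c ≠ 0 ∧ hermForm m F q (c • x) (c • x) = 1 := by
  obtain ⟨c, hc⟩ := exists_norm_eq hF (a := (hermForm m F q x x)⁻¹) (by
    rw [inv_pow_q, herm_self_fixed hF])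
  refine ⟨c, fun h => ?_, ?_⟩
  · rw [h, zero_pow (Nat.succ_ne_zero q)] at hc
    exact inv_ne_zero hx hc.symm
  · rw [herm_self_smul, hc, inv_mul_cancel₀ hx]

theorem herm_eq_zero_of_eigen {A : ↥(SU m F q)} {x y : Fin m → F} {a b : F} (hx : sv A x = a • x)
    (hy : sv A y = b • y) (hab : a * b ^ q ≠ 1) : hermForm m F q x y = 0 := by
  have h := sv_herm A x y
  rw [hx, hy, herm_smul_left, herm_smul_right] at h
  by_contra hne
  exact hab (mul_right_cancel₀ hne (by rw [one_mul, mul_assoc, h]))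

theorem trace_eq_sum_frame {f : Fin m → Fin m → F} (hf : Orthonorm q f) (A : ↥(SU m F q)) :
    (mat A).trace = ∑ i, hermForm m F q (sv A (f i)) (f i) := by
  have h : ∀ j, mat A j j = ∑ i, hermForm m F q (Pi.single j 1) (f i) * sv A (f i) j := by
    intro j
    rw [← sv_single]
    conv_lhs => rw [expand_orthonorm hF hf (Pi.single j (1 : F))]
    simp [sv_sum, sv_smul, Finset.sum_apply]
  simp only [Matrix.trace, Matrix.diag, h]
  rw [Finset.sum_comm]
  refine Finset.sum_congr rfl fun i _ => ?_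
  refine Finset.sum_congr rfl fun j _ => ?_
  rw [mul_comm]
  congr 1
  simp [hermForm, Pi.single_apply]

theorem prod_eigen_eq_one {f : Fin m → Fin m → F} (hf : Orthonorm q f) (A : ↥(SU m F q)) {d : Fin m → F}
    (hd : ∀ i, sv A (f i) = d i • f i) : ∏ i, d i = 1 := by
  set P : Matrix (Fin m) (Fin m) F := Matrix.of fun i j => f j i
  have hP : IsUnit P.det := isUnit_det_of_orthonorm hF (M := P) hf
  have h : mat A * P = P * Matrix.diagonal d := by
    ext i j
    rw [Matrix.mul_diagonal]
    have := congrFun (hd j) i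
    simp only [Pi.smul_apply, smul_eq_mul] at this
    rw [mul_comm] at this
    exact this
  have h' := congrArg Matrix.det h
  rw [Matrix.det_mul, Matrix.det_mul, Matrix.det_diagonal,
    show (mat A).det = 1 from (A : Matrix.SpecialLinearGroup (Fin m) F).2, one_mul] at h'
  exact (mul_right_eq_self₀.1 h'.symm).resolve_right hP.ne_zero

theorem sv_eq_of_frame {f : Fin m → Fin m → F} (hf : Orthonorm q f) {A B : ↥(SU m F q)}
    (h : ∀ i, sv A (f i) = sv B (f i)) : A = B := by
  refine sv_ext fun x => ?_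
  rw [expand_orthonorm hF hf x, sv_sum, sv_sum]
  exact Finset.sum_congr rfl fun i _ => by rw [sv_smul, sv_smul, h]

/-- The matrix of an element in an orthonormal frame. -/
def fmat (f : Fin m → Fin m → F) (A : ↥(SU m F q)) : Matrix (Fin m) (Fin m) F :=
  Matrix.of fun i j => hermForm m F q (sv A (f j)) (f i)

theorem sv_eq_sum_fmat {f : Fin m → Fin m → F} (hf : Orthonorm q f) (A : ↥(SU m F q)) (j : Fin m) :
    sv A (f j) = ∑ i, fmat f A i j • f i :=
  expand_orthonorm hF hf _

theorem fmat_mul {f : Fin m → Fin m → F} (hf : Orthonorm q f) (A B : ↥(SU m F q)) :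
    fmat f (A * B) = fmat f A * fmat f B := by
  ext i j
  show hermForm m F q (sv (A * B) (f j)) (f i) = _
  rw [sv_mul, sv_eq_sum_fmat hF hf B j, sv_sum, herm_sum_left, Matrix.mul_apply]
  refine Finset.sum_congr rfl fun l _ => ?_
  rw [sv_smul, herm_smul_left, mul_comm]
  rfl

theorem fmat_one {f : Fin m → Fin m → F} (hf : Orthonorm q f) : fmat f (1 : ↥(SU m F q)) = 1 := by
  ext i j
  show hermForm m F q (sv 1 (f j)) (f i) = _
  rw [show sv (1 : ↥(SU m F q)) (f j) = f j from Matrix.one_mulVec _, hf, Matrix.one_apply]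
  simp only [eq_comm]

theorem fmat_injective {f : Fin m → Fin m → F} (hf : Orthonorm q f) {A B : ↥(SU m F q)}
    (h : fmat f A = fmat f B) : A = B :=
  sv_eq_of_frame hF hf fun j => by rw [sv_eq_sum_fmat hF hf, sv_eq_sum_fmat hF hf, h]

theorem card_stab_one {v : Fin 4 → Fin 4 → F} (hv : Orthonorm q v) :
    Nat.card (stab (q := q) (v 3)) = Nat.card ↥(SU 3 F q) := by
  obtain ⟨s, c, hc, -, -, -, h3⟩ := exists_conj_frame hF v hv
  rw [← stab_smul hF (v 3) hc, ← h3, ← map_conj_stab hF,
    Subgroup.card_map_of_injective (MulAut.conj s).injective, ← range_win3_0 hF]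
  exact (Nat.card_congr (MonoidHom.ofInjective (emb_injective hF _)).toEquiv).symm

theorem card_stab_first {v : Fin 4 → Fin 4 → F} (hv : Orthonorm q v) :
    Nat.card (stab (q := q) (v 0)) = Nat.card ↥(SU 3 F q) := by
  obtain ⟨s, c, hc, e0, -, -, -⟩ := exists_conj_frame hF v hv
  rw [← e0, ← map_conj_stab hF, Subgroup.card_map_of_injective (MulAut.conj s).injective, ← range_win3_1 hF]
  exact (Nat.card_congr (MonoidHom.ofInjective (emb_injective hF _)).toEquiv).symm

theorem card_stab_pair {v : Fin 4 → Fin 4 → F} (hv : Orthonorm q v) :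
    Nat.card ↥(stab (q := q) (v 2) ⊓ stab (q := q) (v 3)) = Nat.card ↥(SU 2 F q) := by
  obtain ⟨s, c, hc, -, -, e2, h3⟩ := exists_conj_frame hF v hv
  rw [← stab_smul hF (v 3) hc, ← h3, ← e2, ← map_conj_stab_inf hF,
    Subgroup.card_map_of_injective (MulAut.conj s).injective, ← range_win2_0 hF]
  exact (Nat.card_congr (MonoidHom.ofInjective (emb_injective hF _)).toEquiv).symm

theorem orthonorm_perm {k : ℕ} {v : Fin k → Fin m → F} (hv : Orthonorm q v) (p : Equiv.Perm (Fin k)) :
    Orthonorm q fun i => v (p i) :=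
  fun i j => by rw [hv]; simp [p.injective.eq_iff]

theorem card_stab_two {v : Fin 4 → Fin 4 → F} (hv : Orthonorm q v) {i j : Fin 4} (hij : i ≠ j) :
    Nat.card ↥(stab (q := q) (v i) ⊓ stab (q := q) (v j)) = Nat.card ↥(SU 2 F q) := by
  obtain ⟨p, hp2, hp3⟩ : ∃ p : Equiv.Perm (Fin 4), p 2 = i ∧ p 3 = j := by
    revert hij; revert i j; decide
  have h := card_stab_pair hF (orthonorm_perm hF hv p)
  rw [hp2, hp3] at h
  exact h

end CfsgLib.Phan
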