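import Mathlib
import Cfsg.Agent.Phan.Frame
import Cfsg.Agent.Classical.Unitary.TensorTwo

/-!
# Commuting elements of order three of `SU_4(2)`
-/

set_option autoImplicit false

namespace CfsgLib.Phan

open Cfsg CfsgLib.Unitary Matrix

/-- The coordinates of the third roots of unity in the basis `1, μ`. -/
def enc1 : Fin 3 → Bool × Bool := ![(true, false), (false, true), (true, true)]

/-- The coordinates of a sum of four roots. -/
def enc4 (a : Fin 4 → Fin 3) : Bool × Bool :=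
  (xor (xor (enc1 (a 0)).1 (enc1 (a 1)).1) (xor (enc1 (a 2)).1 (enc1 (a 3)).1),
   xor (xor (enc1 (a 0)).2 (enc1 (a 1)).2) (xor (enc1 (a 2)).2 (enc1 (a 3)).2))

set_option maxRecDepth 100000 in
theorem exp_pattern_one : ∀ a : Fin 4 → Fin 3, a 0 + a 1 + a 2 + a 3 = 0 → enc4 (fun i => a i + a i) = enc4 a →
    a ≠ 0 → ∃ p : Equiv.Perm (Fin 4), (a ∘ p) = ![1, 2, 0, 0] ∨ (a ∘ p) = ![1, 1, 2, 2] := by
  decide

/-- The shape of the exponents of a standard pair. -/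
def GoodExp (a b : Fin 4 → Fin 3) : Prop :=
  a 2 = 0 ∧ a 3 = 0 ∧ a 0 ≠ 0 ∧ a 1 ≠ 0 ∧ a 0 ≠ a 1 ∧ b 0 = 0 ∧ b 3 = 0 ∧ b 1 ≠ 0 ∧ b 2 ≠ 0 ∧ b 1 ≠ b 2 ∧
    a 0 + (b 0 + b 0) ≠ 0 ∧ a 1 + (b 1 + b 1) ≠ 0 ∧ a 2 + (b 2 + b 2) ≠ 0

instance (a b : Fin 4 → Fin 3) : Decidable (GoodExp a b) := by unfold GoodExp; infer_instance

set_option maxRecDepth 100000 in
theorem exp_pattern_two : ∀ b : Fin 4 → Fin 3, b 0 + b 1 + b 2 + b 3 = 0 →
    enc4 b = enc4 ![1, 2, 0, 0] → enc4 (fun i => (![1, 2, 0, 0] : Fin 4 → Fin 3) i + b i) = enc4 ![1, 2, 0, 0] →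
    b ≠ ![1, 2, 0, 0] → (fun i => (![1, 2, 0, 0] : Fin 4 → Fin 3) i + b i) ≠ 0 →
    ∃ p : Equiv.Perm (Fin 4), GoodExp (![1, 2, 0, 0] ∘ p) (b ∘ p) := by
  decide

set_option maxRecDepth 100000 in
theorem exp_pattern_free : ∀ b : Fin 4 → Fin 3, b 0 + b 1 + b 2 + b 3 = 0 →
    b ≠ 0 → enc4 b = enc4 ![1, 1, 2, 2] → enc4 (fun i => (![1, 1, 2, 2] : Fin 4 → Fin 3) i + b i) = enc4 ![1, 1, 2, 2] →
    b ≠ ![1, 1, 2, 2] → (fun i => (![1, 1, 2, 2] : Fin 4 → Fin 3) i + b i) ≠ 0 → False := by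
  decide

variable {F : Type*} [Field F] [Fintype F] (hF : Fintype.card F = 2 ^ 2)
include hF

theorem exists_omega : ∃ μ : F, μ ^ 2 + μ + 1 = 0 := by
  obtain ⟨t, ht, ht2⟩ := exists_norm_one_ne_inv hF
  refine ⟨t, ?_⟩
  have h : (t - 1) * (t ^ 2 + t + 1) = 0 := by linear_combination ht
  refine (mul_eq_zero.1 h).resolve_left fun h0 => ht2 ?_
  rw [sub_eq_zero.1 h0, one_pow]

variable {μ : F} (hμ : μ ^ 2 + μ + 1 = 0)
include hμ

theorem omega_cube : μ ^ 3 = 1 := by linear_combination (μ - 1) * hμ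

theorem omega_ne_one : μ ≠ 1 := by
  intro h
  rw [h] at hμ
  exact one_ne_zero (α := F) (by linear_combination hμ - four_two_eq_zero hF)

theorem omega_pow_cube (e : Fin 3) : (μ ^ (e : ℕ)) ^ 3 = 1 := by
  rw [← pow_mul, mul_comm, pow_mul, omega_cube hF hμ, one_pow]

theorem omega_pow_add (x y : Fin 3) : μ ^ ((x + y : Fin 3) : ℕ) = μ ^ (x : ℕ) * μ ^ (y : ℕ) := by
  rw [Fin.val_add, ← pow_add, ← pow_eq_pow_mod _ (omega_cube hF hμ)]

theorem omega_pow_inj {x y : Fin 3} (h : μ ^ (x : ℕ) = μ ^ (y : ℕ)) : x = y := by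
  have h1 := omega_ne_one hF hμ
  have h3 := omega_cube hF hμ
  have h4 : μ ^ 2 ≠ 1 := fun h => h1 (by linear_combination h3 - μ * h)
  have h5 : μ ≠ μ ^ 2 := fun h => h1 (by linear_combination (1 - μ) * h3 - μ ^ 2 * h)
  fin_cases x <;> fin_cases y <;> simp [-sq_eq_one_iff] at h ⊢
  all_goals first
    | exact h1 h
    | exact h1 h.symm
    | exact h4 h
    | exact h4 h.symm
    | exact h5 h
    | exact h5 h.symm

omit hF hμ in
omit [Fintype F] in
/-- The field element with given coordinates. -/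
def valF (μ : F) (p : Bool × Bool) : F := (if p.1 then 1 else 0) + (if p.2 then μ else 0)

theorem valF_inj {p r : Bool × Bool} (h : valF μ p = valF μ r) : p = r := by
  have h1 := omega_ne_one hF hμ
  have h2 := four_two_eq_zero hF
  have h0 : μ ≠ 0 := fun h0 => by rw [h0] at hμ; simp at hμ
  rcases p with ⟨_ | _, _ | _⟩ <;> rcases r with ⟨_ | _, _ | _⟩ <;> simp [valF] at h ⊢
  all_goals first
    | exact h0 h
    | exact h0 h.symm
    | exact h1 h
    | exact h1 h.symm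
    | exact h1 (by linear_combination h - h2)
    | exact h1 (by linear_combination -h - h2)
    | exact h0 (by linear_combination h)
    | exact h0 (by linear_combination -h)

theorem omega_pow_enc (e : Fin 3) : μ ^ (e : ℕ) = valF μ (enc1 e) := by
  have h2 := four_two_eq_zero hF
  fin_cases e <;> simp [valF, enc1]
  linear_combination hμ - (μ + 1) * h2

theorem valF_xor (p r : Bool × Bool) : valF μ (xor p.1 r.1, xor p.2 r.2) = valF μ p + valF μ r := by
  have h2 := four_two_eq_zero hF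
  rcases p with ⟨_ | _, _ | _⟩ <;> rcases r with ⟨_ | _, _ | _⟩ <;> simp [valF]
  all_goals first
    | linear_combination (-μ) * h2
    | linear_combination (-1 : F) * h2
    | linear_combination (-(1 + μ)) * h2
    | ring

theorem sum_omega_pow (a : Fin 4 → Fin 3) : ∑ i, μ ^ (a i : ℕ) = valF μ (enc4 a) := by
  rw [Fin.sum_univ_four, omega_pow_enc hF hμ, omega_pow_enc hF hμ, omega_pow_enc hF hμ, omega_pow_enc hF hμ,
    add_assoc, ← valF_xor hF hμ, ← valF_xor hF hμ, ← valF_xor hF hμ]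
  rfl

theorem omega_mul_sq_ne {x y : Fin 3} (h : x ≠ y) : μ ^ (x : ℕ) * (μ ^ (y : ℕ)) ^ 2 ≠ 1 := fun he => h (by
  refine omega_pow_inj hF hμ ?_
  linear_combination (μ ^ (y : ℕ)) * he - μ ^ (x : ℕ) * omega_pow_cube hF hμ y)

/-- Eigenvectors with different exponents are orthogonal. -/
theorem coef_zero {m : ℕ} {A : ↥(SU m F 2)} {x y : Fin m → F} {e d : Fin 3}
    (hx : sv A x = μ ^ (e : ℕ) • x) (hy : sv A y = μ ^ (d : ℕ) • y) (hed : e ≠ d) : hermForm m F 2 x y = 0 :=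
  herm_eq_zero_of_eigen hF hx hy (omega_mul_sq_ne hF hμ hed)

/-- A joint orthonormal eigenframe of two commuting elements of order three. -/
theorem exists_exp_frame {P Q : ↥(SU 4 F 2)} (hP : P ^ 3 = 1) (hQ : Q ^ 3 = 1) (hPQ : Commute P Q) :
    ∃ f : Fin 4 → Fin 4 → F, Orthonorm 2 f ∧
      ∀ i, ∃ a b : Fin 3, sv P (f i) = μ ^ (a : ℕ) • f i ∧ sv Q (f i) = μ ^ (b : ℕ) • f i := by
  have h2 := four_two_eq_zero hF
  have h3 := omega_cube hF hμ
  have hcub : ∀ (s : ↥(SU 4 F 2)), s ^ 3 = 1 → ∀ x, sv s (sv s (sv s x)) = x := fun s hs x => by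
    rw [← sv_mul, ← sv_mul, ← pow_two, ← pow_succ, hs]; exact Matrix.one_mulVec _
  let comp : ↥(SU 4 F 2) → Fin 3 → (Fin 4 → F) → (Fin 4 → F) := fun s e u =>
    u + (μ ^ (e : ℕ)) ^ 2 • sv s u + μ ^ (e : ℕ) • sv s (sv s u)
  have heig : ∀ s, s ^ 3 = 1 → ∀ e u, sv s (comp s e u) = μ ^ (e : ℕ) • comp s e u := by
    intro s hs e u
    have hc := omega_pow_cube hF hμ e
    simp only [comp, sv_add, sv_smul, hcub s hs, smul_add, smul_smul]
    rw [show μ ^ (e : ℕ) * (μ ^ (e : ℕ)) ^ 2 = (μ ^ (e : ℕ)) ^ 3 by ring, hc, one_smul,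
      show μ ^ (e : ℕ) * μ ^ (e : ℕ) = (μ ^ (e : ℕ)) ^ 2 by ring]
    abel
  have hsum : ∀ s u, comp s 0 u + comp s 1 u + comp s 2 u = u := by
    intro s u
    funext i
    simp only [comp, Fin.val_zero, Fin.val_one, Fin.val_two, pow_zero, pow_one, one_pow, Pi.add_apply,
      Pi.smul_apply, smul_eq_mul]
    linear_combination (u i) * h2 + (sv s u i) * (hμ + μ * h3) + (sv s (sv s u) i) * hμ
  have split : ∀ s, s ^ 3 = 1 → ∀ u, hermForm 4 F 2 u u ≠ 0 →
      ∃ e, hermForm 4 F 2 (comp s e u) (comp s e u) ≠ 0 := by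
    intro s hs u hu
    by_contra h
    push Not at h
    apply hu
    have hz : ∀ e d, hermForm 4 F 2 (comp s e u) (comp s d u) = 0 := fun e d => by
      rcases eq_or_ne e d with rfl | hed
      · exact h e
      · exact coef_zero hF hμ (heig s hs e u) (heig s hs d u) hed
    rw [← hsum s u]
    simp only [herm_add_left, herm_add_right hF, hz, add_zero]
  obtain ⟨f, hf, hP'⟩ := exists_basis_of_step hF
    (fun x => ∃ a b : Fin 3, sv P x = μ ^ (a : ℕ) • x ∧ sv Q x = μ ^ (b : ℕ) • x) (by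
      intro k hk f hf hfP
      obtain ⟨u, -, hu, huf⟩ := exists_orthonorm_next hF (isNondeg_top hF) hf (fun _ => trivial) (by simpa using hk)
      have perp : ∀ (s : ↥(SU 4 F 2)) (x : Fin 4 → F), s ^ 3 = 1 →
          (∀ i, ∃ a : Fin 3, sv s (f i) = μ ^ (a : ℕ) • f i) → (∀ i, hermForm 4 F 2 x (f i) = 0) →
          ∀ e i, hermForm 4 F 2 (comp s e x) (f i) = 0 := by
        intro s x hs hfs hx e i
        obtain ⟨a, ha⟩ := hfs i
        have h0 : ∀ y, hermForm 4 F 2 y (f i) = 0 → hermForm 4 F 2 (sv s y) (f i) = 0 := fun y hy => by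
          have h1 := sv_herm s y (f i)
          rw [ha, herm_smul_right, hy] at h1
          exact (mul_eq_zero.1 h1).resolve_left fun h' => by
            have := pow_eq_zero_iff (n := 2) two_ne_zero |>.1 h'
            have hc := omega_pow_cube hF hμ a
            rw [this] at hc
            simp at hc
        simp only [comp, herm_add_left, herm_smul_left, hx, h0 _ (hx i), h0 _ (h0 _ (hx i)), mul_zero, add_zero]
      obtain ⟨a, hx0⟩ := split P hP u (by rw [hu]; exact one_ne_zero)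
      have hxP := heig P hP a u
      have hxf : ∀ i, hermForm 4 F 2 (comp P a u) (f i) = 0 :=
        perp P u hP (fun i => (hfP i).imp fun a h => h.elim fun b h' => h'.1) huf a
      generalize comp P a u = x at hx0 hxP hxf
      obtain ⟨b, hy0⟩ := split Q hQ x hx0
      have hyP : sv P (comp Q b x) = μ ^ (a : ℕ) • comp Q b x := by
        have hc : ∀ y, sv P (sv Q y) = sv Q (sv P y) := fun y => by rw [← sv_mul, hPQ.eq, sv_mul]
        simp only [comp, sv_add, sv_smul, hc, hxP, smul_add, smul_comm (μ ^ (a : ℕ))]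
      obtain ⟨c, -, hc⟩ := exists_unit_smul hF hy0
      refine ⟨c • comp Q b x, ⟨a, b, by rw [sv_smul, hyP, smul_comm], by rw [sv_smul, heig Q hQ, smul_comm]⟩, hc,
        fun i => ?_⟩
      rw [herm_smul_left, perp Q x hQ (fun i => (hfP i).elim fun a h => h.imp fun b h' => h'.2) hxf b i, mul_zero])
  exact ⟨f, hf, hP'⟩

theorem exp_sum_zero {f : Fin 4 → Fin 4 → F} (hf : Orthonorm 2 f) {A : ↥(SU 4 F 2)} {a : Fin 4 → Fin 3}
    (h : ∀ i, sv A (f i) = μ ^ (a i : ℕ) • f i) : a 0 + a 1 + a 2 + a 3 = 0 := by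
  have hp := prod_eigen_eq_one hF hf A h
  rw [Fin.prod_univ_four, ← omega_pow_add hF hμ, ← omega_pow_add hF hμ, ← omega_pow_add hF hμ] at hp
  exact omega_pow_inj hF hμ (hp.trans (by simp))

theorem trace_exp {f : Fin 4 → Fin 4 → F} (hf : Orthonorm 2 f) {A : ↥(SU 4 F 2)} {a : Fin 4 → Fin 3}
    (h : ∀ i, sv A (f i) = μ ^ (a i : ℕ) • f i) : (mat A).trace = valF μ (enc4 a) := by
  rw [trace_eq_sum_frame hF hf, ← sum_omega_pow hF hμ]
  exact Finset.sum_congr rfl fun i _ => by rw [h, herm_smul_left, hf, if_pos rfl, mul_one]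

theorem exp_mul {x : Fin 4 → F} {A B : ↥(SU 4 F 2)} {a b : Fin 3} (hA : sv A x = μ ^ (a : ℕ) • x)
    (hB : sv B x = μ ^ (b : ℕ) • x) : sv (A * B) x = μ ^ ((a + b : Fin 3) : ℕ) • x := by
  rw [sv_mul, hB, sv_smul, hA, smul_smul, omega_pow_add hF hμ, mul_comm]

/-- The frame of a pair of commuting elements with the invariants of a standard pair. -/
theorem exists_frame_two {P Q : ↥(SU 4 F 2)} (hP : P ^ 3 = 1) (hQ : Q ^ 3 = 1) (hPQ : Commute P Q)
    (hP1 : P ≠ 1) (hQ1 : Q ≠ 1) (hne : P ≠ Q) (hne' : P * Q ≠ 1) (t1 : (mat (P * P)).trace = (mat P).trace)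
    (t2 : (mat Q).trace = (mat P).trace) (t3 : (mat (P * Q)).trace = (mat P).trace) :
    ∃ (v : Fin 4 → Fin 4 → F) (a b : Fin 4 → Fin 3), Orthonorm 2 v ∧ GoodExp a b ∧
      (∀ i, sv P (v i) = μ ^ (a i : ℕ) • v i) ∧ ∀ i, sv Q (v i) = μ ^ (b i : ℕ) • v i := by
  obtain ⟨f, hf, hfe⟩ := exists_exp_frame hF hμ hP hQ hPQ
  choose a b ha hb using hfe
  have hone : ∀ (A : ↥(SU 4 F 2)) (c : Fin 4 → Fin 3) (g : Fin 4 → Fin 4 → F), Orthonorm 2 g →
      (∀ i, sv A (g i) = μ ^ (c i : ℕ) • g i) → c = 0 → A = 1 := by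
    intro A c g hg hA hc
    refine sv_eq_of_frame hF hg fun i => ?_
    rw [hA, hc]
    simp [sv]
  have hsa : enc4 (fun i => a i + a i) = enc4 a := valF_inj hF hμ (by
    rw [← trace_exp hF hμ hf (fun i => exp_mul hF hμ (ha i) (ha i)), ← trace_exp hF hμ hf ha, t1])
  obtain ⟨p, hp⟩ := exp_pattern_one a (exp_sum_zero hF hμ hf ha) hsa (fun h => hP1 (hone P a f hf ha h))
  have hfp := orthonorm_perm hF hf p
  have key : ∀ c : Fin 4 → Fin 3, a ∘ p = c → (∀ i, sv P (f (p i)) = μ ^ (c i : ℕ) • f (p i)) ∧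
      (b ∘ p) 0 + (b ∘ p) 1 + (b ∘ p) 2 + (b ∘ p) 3 = 0 ∧ b ∘ p ≠ 0 ∧ enc4 (b ∘ p) = enc4 c ∧
      enc4 (fun i => c i + (b ∘ p) i) = enc4 c ∧ b ∘ p ≠ c ∧ (fun i => c i + (b ∘ p) i) ≠ 0 := by
    rintro _ rfl
    have hP' : ∀ i, sv P (f (p i)) = μ ^ ((a ∘ p) i : ℕ) • f (p i) := fun i => ha _
    have hQ' : ∀ i, sv Q (f (p i)) = μ ^ ((b ∘ p) i : ℕ) • f (p i) := fun i => hb _
    have hm : ∀ i, sv (P * Q) (f (p i)) = μ ^ (((a ∘ p) i + (b ∘ p) i : Fin 3) : ℕ) • f (p i) :=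
      fun i => exp_mul hF hμ (hP' i) (hQ' i)
    refine ⟨hP', exp_sum_zero hF hμ hfp hQ', fun h => hQ1 (hone _ _ _ hfp hQ' h), valF_inj hF hμ ?_, valF_inj hF hμ ?_, ?_, ?_⟩
    · rw [← trace_exp hF hμ hfp hQ', ← trace_exp hF hμ hfp hP', t2]
    · rw [← trace_exp hF hμ hfp hm, ← trace_exp hF hμ hfp hP', t3]
    · intro h
      exact hne (sv_eq_of_frame hF hfp fun i => by rw [hP', hQ', h])
    · intro h
      exact hne' (hone _ _ _ hfp hm h)
  rcases hp with hp | hp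
  · obtain ⟨hP', k1, -, k2, k3, k4, k5⟩ := key _ hp
    obtain ⟨r, hr⟩ := exp_pattern_two _ k1 k2 k3 k4 k5
    exact ⟨fun i => f (p (r i)), _, _, orthonorm_perm hF hfp r, hr, fun i => hP' (r i), fun i => hb _⟩
  · obtain ⟨-, k1, k0, k2, k3, k4, k5⟩ := key _ hp
    exact (exp_pattern_free _ k1 k0 k2 k3 k4 k5).elim

end CfsgLib.Phan
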