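import Mathlib
import Cfsg.Agent.Phan.Contract

/-!
# `SU_N(q)` from compatible homomorphisms on windows of three coordinates
-/

set_option autoImplicit false

namespace CfsgLib.Phan

open Cfsg CfsgLib.Unitary

variable {F : Type*} [Field F] [Fintype F] {q : ℕ} (hF : Fintype.card F = q ^ 2)
include hF

/-- Standard vector. -/
local notation "sg" => fun i => Pi.single i (1 : F)

theorem herm_single (k : ℕ) (i j : Fin k) :
    hermForm k F q (Pi.single i 1) (Pi.single j 1) = if i = j then 1 else 0 := herm_single_single hF i j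

theorem stab_le_range {k l : ℕ} (f : Fin l ↪ Fin k) (i : Fin k) (hi : ∀ r, (∀ j, f j ≠ r) → r = i)
    {g : ↥(SU k F q)} (hg : g ∈ stab (q := q) (Pi.single i (1 : F))) : g ∈ (emb hF f).range := by
  obtain ⟨x, hx⟩ := exists_emb_eq hF f g fun r hr => by rw [hi r hr]; exact hg
  exact ⟨x, hx⟩

theorem notMem_win_last {k : ℕ} {r : Fin (k + 1)} (hr : ∀ j, win (m := k + 1) (k := k) 0 (by omega) j ≠ r) :
    r = Fin.last k := by
  by_contra h
  exact hr ⟨r, Fin.val_lt_last h⟩ (Fin.ext (by simp))

theorem notMem_win_first {k : ℕ} {r : Fin (k + 1)} (hr : ∀ j, win (m := k + 1) (k := k) 1 (by omega) j ≠ r) :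
    r = 0 := by
  by_contra h
  have h0 : (r : ℕ) ≠ 0 := fun h' => h (Fin.ext h')
  exact hr ⟨r - 1, by omega⟩ (Fin.ext (by simp; omega))

/-- `SU_k` is generated by the windows of three coordinates. -/
theorem windows_generate {k : ℕ} (hk : 3 ≤ k) (H : Subgroup ↥(SU k F q))
    (h : ∀ b (hb : b + 3 ≤ k), (emb hF (win b hb)).range ≤ H) : H = ⊤ := by
  induction k, hk using Nat.le_induction with
  | base =>
    refine eq_top_iff.2 fun x _ => h 0 le_rfl ⟨x, ?_⟩
    rw [win_zero_self, emb_refl]
  | succ k hk ih =>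
    have hA : (emb hF (win (m := k + 1) (k := k) 0 (by omega))).range ≤ H := by
      rintro _ ⟨x, rfl⟩
      have := ih (H.comap (emb hF (win (m := k + 1) 0 (by omega)))) fun b hb => by
        rintro _ ⟨y, rfl⟩
        show emb hF _ (emb hF _ y) ∈ H
        rw [emb_trans, win_trans]
        exact h _ _ ⟨y, rfl⟩
      exact (this ▸ Subgroup.mem_top x : x ∈ H.comap _)
    have hB : (emb hF (win (m := k + 1) (k := k) 1 (by omega))).range ≤ H := by
      rintro _ ⟨x, rfl⟩
      have := ih (H.comap (emb hF (win (m := k + 1) 1 (by omega)))) fun b hb => by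
        rintro _ ⟨y, rfl⟩
        show emb hF _ (emb hF _ y) ∈ H
        rw [emb_trans, win_trans]
        exact h _ _ ⟨y, rfl⟩
      exact (this ▸ Subgroup.mem_top x : x ∈ H.comap _)
    set eL : Fin (k + 1) → F := Pi.single (Fin.last k) 1 with heL
    set e0 : Fin (k + 1) → F := Pi.single 0 1 with he0
    set v1 : Fin (k + 1) → F := Pi.single ⟨k - 1, by omega⟩ 1 with hv1
    have hstabL : ∀ g, g ∈ stab (q := q) eL → g ∈ H := fun g hg =>
      hA (stab_le_range hF _ _ (fun r hr => notMem_win_last hF hr) hg)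
    have hstab0 : ∀ g, g ∈ stab (q := q) e0 → g ∈ H := fun g hg =>
      hB (stab_le_range hF _ _ (fun r hr => notMem_win_first hF hr) hg)
    have n1 : ∀ i : Fin (k + 1), hermForm (k + 1) F q (Pi.single i 1) (Pi.single i 1) = (1 : F) := fun i => by
      rw [herm_single hF, if_pos rfl]
    have n0 : ∀ i j : Fin (k + 1), i ≠ j → hermForm (k + 1) F q (Pi.single i 1) (Pi.single j 1) = (0 : F) :=
      fun i j hij => by rw [herm_single hF, if_neg hij]
    have h1L : (⟨k - 1, by omega⟩ : Fin (k + 1)) ≠ Fin.last k := fun h => by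
      have := congrArg Fin.val h; simp at this; omega
    have h0L : (0 : Fin (k + 1)) ≠ Fin.last k := fun h => by have := congrArg Fin.val h; simp at this; omega
    have h01 : (0 : Fin (k + 1)) ≠ ⟨k - 1, by omega⟩ := fun h => by have := congrArg Fin.val h; simp at this; omega
    obtain ⟨β, hβ⟩ := exists_SU_map_orthonorm hF (f := ![e0, eL]) (f' := ![e0, v1])
      (orthonorm_two hF (n1 _) (n1 _) (n0 _ _ h0L)) (orthonorm_two hF (n1 _) (n1 _) (n0 _ _ h01)) (by omega)
    have hβH : β ∈ H := hstab0 β (hβ 0)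
    have hmove : ∀ w, hermForm (k + 1) F q w w = 1 → hermForm (k + 1) F q w eL = 0 →
        ∃ g ∈ H, sv g eL = w := by
      intro w hw hwo
      obtain ⟨a, ha⟩ := exists_SU_map_orthonorm hF (f := ![eL, v1]) (f' := ![eL, w])
        (orthonorm_two hF (n1 _) (n1 _) (n0 _ _ (Ne.symm h1L)))
        (orthonorm_two hF (n1 _) hw (herm_eq_zero_comm hF hwo)) (by omega)
      refine ⟨a * β, H.mul_mem (hstabL a (ha 0)) hβH, ?_⟩
      rw [sv_mul, show sv β eL = v1 from hβ 1]
      exact ha 1
    refine eq_top_iff.2 fun g _ => ?_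
    obtain ⟨c, hc, c1, c2⟩ := exists_unit_perp_two hF (by omega) (n1 (Fin.last k)) (sv g eL)
    obtain ⟨x, hx, hxc⟩ := hmove c hc c1
    obtain ⟨y, hy, hyc⟩ := hmove (sv x⁻¹ (sv g eL)) (by rw [sv_herm, sv_herm, n1]) (by
      rw [← sv_herm x, sv_sv_inv, hxc]; exact herm_eq_zero_comm hF c2)
    have hs : (x * y)⁻¹ * g ∈ stab (q := q) eL := by
      rw [mem_stab, sv_mul]
      refine sv_inv_eq ?_
      rw [sv_mul, hyc, sv_sv_inv]
    have := H.mul_mem (H.mul_mem hx hy) (hstabL _ hs)
    rwa [mul_inv_cancel_left] at this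

theorem hom_ext_windows {k : ℕ} (hk : 3 ≤ k) {G : Type*} [Group G] {f f' : ↥(SU k F q) →* G}
    (h : ∀ b (hb : b + 3 ≤ k) (x : ↥(SU 3 F q)), f (emb hF (win b hb) x) = f' (emb hF (win b hb) x)) : f = f' := by
  have := windows_generate hF hk (f.eqLocus f') fun b hb => by rintro _ ⟨x, rfl⟩; exact h b hb x
  exact MonoidHom.ext fun x => (this ▸ Subgroup.mem_top x : x ∈ f.eqLocus f')

/-- Compatible homomorphisms on windows. -/
structure Windows (N : ℕ) (G : Type*) [Group G] where
  /-- homomorphism on the window starting at `a` -/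
  V : (a : ℕ) → ↥(SU 3 F q) →* G
  hW : ∀ a, a + 4 ≤ N → ∃ W : ↥(SU 4 F q) →* G,
    W.comp (emb hF (win 0 (show 0 + 3 ≤ 4 by omega))) = V a ∧
    W.comp (emb hF (win 1 (show 1 + 3 ≤ 4 by omega))) = V (a + 1)
  hU : ∀ a b, b + 3 ≤ N → a + 3 ≤ b + 1 → ∀ x (u : ↥(SU 2 F q)),
    Commute (V a x) (V b (emb hF (win 1 (show 1 + 2 ≤ 3 by omega)) u))
  h6 : q = 2 → ∀ a, a + 6 ≤ N → ∀ x y, Commute (V a x) (V (a + 3) y)

/-- Inverting an embedding on a subgroup of its range. -/
noncomputable def pullHom {k l : ℕ} {G : Type*} [Group G] (f : Fin l ↪ Fin k) (φ : ↥(SU l F q) →* G)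
    {S : Subgroup ↥(SU k F q)} (hS : S ≤ (emb hF f).range) : ↥S →* G :=
  φ.comp ((MonoidHom.ofInjective (emb_injective hF f)).symm.toMonoidHom.comp (Subgroup.inclusion hS))

theorem pullHom_apply {k l : ℕ} {G : Type*} [Group G] (f : Fin l ↪ Fin k) (φ : ↥(SU l F q) →* G)
    {S : Subgroup ↥(SU k F q)} (hS : S ≤ (emb hF f).range) (x : ↥(SU l F q)) (g : ↥(SU k F q)) (hg : g ∈ S)
    (h : emb hF f x = g) : pullHom hF f φ hS ⟨g, hg⟩ = φ x := by
  show φ ((MonoidHom.ofInjective (emb_injective hF f)).symm ⟨g, hS hg⟩) = φ x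
  congr 1
  exact (MulEquiv.symm_apply_eq _).2 (Subtype.ext h.symm)

theorem exists_hom_window {N : ℕ} {G : Type*} [Group G] (D : Windows hF N G) {m : ℕ} (hm : 3 ≤ m) :
    ∀ a, a + m ≤ N → ∃ f : ↥(SU m F q) →* G, ∀ b (hb : b + 3 ≤ m) (x : ↥(SU 3 F q)),
      f (emb hF (win b hb) x) = D.V (a + b) x := by
  induction m, hm using Nat.le_induction with
  | base =>
    intro a _
    refine ⟨D.V a, fun b hb x => ?_⟩
    obtain rfl : b = 0 := by omega
    rw [win_zero_self, emb_refl, add_zero]
  | succ k hk ih =>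
    intro a ha
    rcases hk.eq_or_lt with rfl | hk4
    · obtain ⟨W, h0, h1⟩ := D.hW a (by omega)
      refine ⟨W, fun b hb x => ?_⟩
      obtain rfl | rfl : b = 0 ∨ b = 1 := by omega
      · exact DFunLike.congr_fun h0 x
      · exact DFunLike.congr_fun h1 x
    obtain ⟨fA, hfA⟩ := ih a (by omega)
    obtain ⟨fB, hfB⟩ := ih (a + 1) (by omega)
    set w0 := win (m := k + 1) (k := k) 0 (by omega) with hw0
    set w1 := win (m := k + 1) (k := k) 1 (by omega) with hw1
    set eL : Fin (k + 1) → F := Pi.single (Fin.last k) 1 with heL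
    set e0 : Fin (k + 1) → F := Pi.single 0 1 with he0
    have hSA : stab (q := q) eL ≤ (emb hF w0).range := fun g hg =>
      stab_le_range hF _ _ (fun r hr => notMem_win_last hF hr) hg
    have hSB : stab (q := q) e0 ≤ (emb hF w1).range := fun g hg =>
      stab_le_range hF _ _ (fun r hr => notMem_win_first hF hr) hg
    have n1 : ∀ i : Fin (k + 1), hermForm (k + 1) F q (Pi.single i 1) (Pi.single i 1) = (1 : F) := fun i => by
      rw [herm_single hF, if_pos rfl]
    have h0L : (0 : Fin (k + 1)) ≠ Fin.last k := fun h => by have := congrArg Fin.val h; simp at this; omega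
    have h1L : (⟨k - 1, by omega⟩ : Fin (k + 1)) ≠ Fin.last k := fun h => by
      have := congrArg Fin.val h; simp at this; omega
    obtain ⟨u, hu⟩ := exists_SU_map_orthonorm hF (f := ![Pi.single (1 : Fin 2) (1 : F)])
      (f' := ![Pi.single (0 : Fin 2) (1 : F)]) (orthonorm_one (by rw [herm_single hF, if_pos rfl]))
      (orthonorm_one (by rw [herm_single hF, if_pos rfl])) (by omega)
    set wβ := win (m := k + 1) (k := 2) (k - 1) (by omega) with hwβ
    have hβL : sv (emb hF wβ u) eL = Pi.single (⟨k - 1, by omega⟩ : Fin (k + 1)) 1 := by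
      rw [heL, show (Fin.last k) = wβ 1 from Fin.ext (by simp [hwβ]; omega), ← incl_mulVec_single (F := F),
        sv_emb_incl, show sv u (Pi.single (1 : Fin 2) (1 : F)) = Pi.single 0 1 from hu 0, incl_mulVec_single]
      exact congrArg (fun i => Pi.single i (1 : F)) (Fin.ext (by simp [hwβ]))
    have hβ0 : emb hF wβ u ∈ stab (q := q) e0 :=
      sv_emb_single_of_notMem hF _ _ fun j h => by
        have := congrArg Fin.val h; simp [hwβ] at this; omega
    have hagree : ∀ (c : ↥(SU (k + 1) F q)) (h1 : c ∈ stab (q := q) eL) (h2 : c ∈ stab (q := q) e0),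
        pullHom hF w0 fA hSA ⟨c, h1⟩ = pullHom hF w1 fB hSB ⟨c, h2⟩ := by
      intro c h1 h2
      obtain ⟨x, rfl⟩ := exists_emb_eq hF (win (m := k + 1) (k := k - 1) 1 (by omega)) c fun r hr => by
        by_cases hr0 : r = 0
        · rw [hr0]; exact h2
        · have : r = Fin.last k := by
            by_contra hrl
            have h0 : (r : ℕ) ≠ 0 := fun h' => hr0 (Fin.ext h')
            have := Fin.val_lt_last hrl
            exact hr ⟨r - 1, by omega⟩ (Fin.ext (by simp; omega))
          rw [this]; exact h1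
      rw [pullHom_apply hF w0 fA hSA (emb hF (win 1 (show 1 + (k - 1) ≤ k by omega)) x) _ _
          (by rw [emb_trans, hw0, win_trans]),
        pullHom_apply hF w1 fB hSB (emb hF (win 0 (show 0 + (k - 1) ≤ k by omega)) x) _ _
          (by rw [emb_trans, hw1, win_trans])]
      have he : fA.comp (emb hF (win 1 (show 1 + (k - 1) ≤ k by omega)))
          = fB.comp (emb hF (win 0 (show 0 + (k - 1) ≤ k by omega))) :=
        hom_ext_windows hF (by omega) fun b hb y => by
          simp only [MonoidHom.comp_apply, emb_trans, win_trans]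
          rw [hfA, hfB]
          congr 2; omega
      exact DFunLike.congr_fun he x
    have hcond : ∀ (c : ↥(SU (k + 1) F q)) (h1 : c ∈ stab (q := q) eL),
        sv c (sv (emb hF wβ u) eL) = sv (emb hF wβ u) eL →
        ∀ h2 : (emb hF wβ u)⁻¹ * c * emb hF wβ u ∈ stab (q := q) eL,
          pullHom hF w0 fA hSA ⟨c, h1⟩ * pullHom hF w1 fB hSB ⟨_, hβ0⟩
            = pullHom hF w1 fB hSB ⟨_, hβ0⟩ * pullHom hF w0 fA hSA ⟨_, h2⟩ := by
      intro c h1 hc h2
      rw [hβL] at hc
      obtain ⟨x, rfl⟩ := exists_emb_eq hF (win (m := k + 1) (k := k - 1) 0 (by omega)) c fun r hr => by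
        have hge : k - 1 ≤ (r : ℕ) := by
          by_contra h
          exact hr ⟨r, by omega⟩ (Fin.ext (by simp))
        obtain hr' | hr' : r = ⟨k - 1, by omega⟩ ∨ r = Fin.last k := by
          rcases eq_or_ne (r : ℕ) (k - 1) with h | h
          · exact Or.inl (Fin.ext h)
          · exact Or.inr (Fin.ext (by simp; omega))
        · rw [hr']; exact hc
        · rw [hr']; exact h1
      have hcomm : Commute (emb hF (win (m := k + 1) (k := k - 1) 0 (by omega)) x) (emb hF wβ u) :=
        emb_commute hF _ _ (fun i j h => by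
          have := congrArg Fin.val h; simp [hwβ] at this; omega) x u
      rw [show (⟨_, h2⟩ : ↥(stab (q := q) eL)) = ⟨_, h1⟩ from
        Subtype.ext (by
          show (emb hF wβ u)⁻¹ * _ * emb hF wβ u = _
          rw [mul_assoc, hcomm.eq, inv_mul_cancel_left]),
        pullHom_apply hF w0 fA hSA (emb hF (win 0 (show 0 + (k - 1) ≤ k by omega)) x) _ _
          (by rw [emb_trans, hw0, win_trans]),
        pullHom_apply hF w1 fB hSB (emb hF (win (k - 3) (show k - 3 + 3 ≤ k by omega))
          (emb hF (win 1 (show 1 + 2 ≤ 3 by omega)) u)) _ _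
          (by rw [emb_trans, emb_trans, hw1, hwβ, win_trans, win_trans]; congr 2; ext i; simp; omega), hfB]
      have := windows_generate hF (k := k - 1) (by omega)
        ((Subgroup.centralizer {D.V (a + 1 + (k - 3)) (emb hF (win 1 (show 1 + 2 ≤ 3 by omega)) u)}).comap
          (fA.comp (emb hF (win 0 (show 0 + (k - 1) ≤ k by omega))))) fun b hb => by
        rintro _ ⟨y, rfl⟩
        show fA (emb hF _ (emb hF _ y)) ∈ Subgroup.centralizer _
        rw [emb_trans, win_trans, hfA, Subgroup.mem_centralizer_singleton_iff]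
        exact D.hU (a + (0 + b)) (a + 1 + (k - 3)) (by omega) (by omega) y u
      have h3 := Subgroup.mem_top x
      rw [← this] at h3
      exact Subgroup.mem_centralizer_singleton_iff.1 (Subgroup.mem_comap.1 h3)
    let A : Amalgam (k + 1) F q G :=
      { e0 := e0, eL := eL, h0 := n1 _, hL := n1 _
        h0L := by rw [heL, he0, herm_single hF, if_neg h0L]
        A := pullHom hF w0 fA hSA
        B := pullHom hF w1 fB hSB
        agree := hagree
        β := emb hF wβ u
        hβ := hβ0
        hβL := by rw [hβL, heL, herm_single hF, if_neg h1L]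
        cond := hcond
        extra := by
          intro hq2 hk6
          obtain rfl : k = 5 := by omega
          refine ⟨fun i => Pi.single i 1, fun i j => herm_single hF 6 i j, rfl, rfl, ?_⟩
          intro x y hx hy x3 x4 y1 y2
          obtain ⟨x', rfl⟩ := exists_emb_eq hF (win (m := 6) (k := 3) 0 (by omega)) x fun r hr => by
            fin_cases r
            · exact absurd rfl (hr 0)
            · exact absurd rfl (hr 1)
            · exact absurd rfl (hr 2)
            · exact x3
            · exact x4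
            · exact hx
          obtain ⟨y', rfl⟩ := exists_emb_eq hF (win (m := 6) (k := 3) 3 (by omega)) y fun r hr => by
            fin_cases r
            · exact hy
            · exact y1
            · exact y2
            · exact absurd rfl (hr 0)
            · exact absurd rfl (hr 1)
            · exact absurd rfl (hr 2)
          rw [pullHom_apply hF w0 fA hSA (emb hF (win 0 (show 0 + 3 ≤ 5 by omega)) x') _ _
              (by rw [emb_trans, hw0, win_trans]),
            pullHom_apply hF w1 fB hSB (emb hF (win 2 (show 2 + 3 ≤ 5 by omega)) y') _ _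
              (by rw [emb_trans, hw1, win_trans]), hfA, hfB, add_zero]
          exact D.h6 hq2 a (by omega) x' y' }
    obtain ⟨f, hA', hB'⟩ := A.exists_glue hF (by omega)
    refine ⟨f, fun b hb x => ?_⟩
    by_cases hb' : b + 3 ≤ k
    · have hmem : emb hF (win (m := k + 1) b hb) x ∈ stab (q := q) eL :=
        sv_emb_single_of_notMem hF _ _ fun j h => by
          have := congrArg Fin.val h; simp at this; omega
      rw [hA' _ hmem]
      show pullHom hF w0 fA hSA ⟨_, hmem⟩ = _
      rw [pullHom_apply hF w0 fA hSA (emb hF (win b hb') x) _ _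
        (by rw [emb_trans, hw0, win_trans]; congr 2; ext i; simp), hfA]
    · obtain rfl : b = k - 2 := by omega
      have hmem : emb hF (win (m := k + 1) (k - 2) hb) x ∈ stab (q := q) e0 :=
        sv_emb_single_of_notMem hF _ _ fun j h => by
          have := congrArg Fin.val h; simp at this; omega
      rw [hB' _ hmem]
      show pullHom hF w1 fB hSB ⟨_, hmem⟩ = _
      rw [pullHom_apply hF w1 fB hSB (emb hF (win (k - 3) (show k - 3 + 3 ≤ k by omega)) x) _ _
        (by rw [emb_trans, hw1, win_trans]; congr 2; ext i; simp; omega), hfB]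
      congr 2; omega

/-- A homomorphism on `SU_N` extending all windows. -/
theorem exists_hom {N : ℕ} {G : Type*} [Group G] (D : Windows hF N G) (hN : 3 ≤ N) :
    ∃ f : ↥(SU N F q) →* G, ∀ b (hb : b + 3 ≤ N) (x : ↥(SU 3 F q)), f (emb hF (win b hb) x) = D.V b x := by
  obtain ⟨f, hf⟩ := exists_hom_window hF D hN 0 (by omega)
  exact ⟨f, fun b hb x => by rw [hf b hb x, zero_add]⟩

end CfsgLib.Phan
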