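import Mathlib
import Cfsg.Agent.Phan.Induct
import Cfsg.Agent.Phan.Local

/-!
# Gluing four-dimensional charts
-/

set_option autoImplicit false

namespace CfsgLib.Phan

open Cfsg CfsgLib.Unitary

variable {F : Type*} [Field F] [Fintype F] {q : ℕ} (hF : Fintype.card F = q ^ 2)
include hF

theorem range_comp_twist {m : ℕ} {G : Type*} [Group G] (ρ : ↥(SU m F q) →* G)
    (d : Fin m → {x : F // x ^ (q + 1) = 1}) (σ : F ≃+* F) : (ρ.comp (twist hF d σ)).range = ρ.range := by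
  rw [MonoidHom.range_comp, MonoidHom.range_eq_top.2 (Finite.injective_iff_surjective.1 (twist_injective hF d σ)),
    ← MonoidHom.range_eq_map]

/-- Two parametrisations of a pair differ by a twist. -/
theorem exists_twist_of_ranges (hq : q = 2 ∨ q = 3) {G : Type*} [Group G] (ρ ρ' : ↥(SU 3 F q) →* G)
    (hρ : Function.Injective ρ) (hρ' : Function.Injective ρ') (hr : ρ.range = ρ'.range)
    (hA : (ρ.comp (emb hF w01)).range = (ρ'.comp (emb hF w01)).range)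
    (hB : (ρ.comp (emb hF w12)).range = (ρ'.comp (emb hF w12)).range) :
    ∃ (d : Fin 3 → {x : F // x ^ (q + 1) = 1}) (σ : F ≃+* F), ∀ x, ρ x = ρ' (twist hF d σ x) := by
  have hmem : ∀ x, ρ x ∈ ρ'.range := fun x => hr ▸ ⟨x, rfl⟩
  choose θ hθ using hmem
  let Θ : ↥(SU 3 F q) →* ↥(SU 3 F q) := MonoidHom.mk' θ fun x y => hρ' (by rw [map_mul, hθ, hθ, hθ, map_mul])
  have hΘ : ∀ x, ρ' (Θ x) = ρ x := hθ
  obtain ⟨b⟩ := exists_blockwise hF Θ (fun x y h => hρ (by rw [← hΘ, ← hΘ, h]))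
    (fun u => by
      obtain ⟨v, hv⟩ : ρ (emb hF w01 u) ∈ (ρ'.comp (emb hF w01)).range := hA ▸ ⟨u, rfl⟩
      exact ⟨v, hρ' (by rw [hΘ]; exact hv)⟩)
    (fun u => by
      obtain ⟨v, hv⟩ : ρ (emb hF w12 u) ∈ (ρ'.comp (emb hF w12)).range := hB ▸ ⟨u, rfl⟩
      exact ⟨v, hρ' (by rw [hΘ]; exact hv)⟩)
  obtain ⟨d, σ, h⟩ := exists_twist hF hq b
  exact ⟨d, σ, fun x => by rw [← h, hΘ]⟩

theorem range_comp_emb_twist {k m : ℕ} {G : Type*} [Group G] (g : ↥(SU m F q) →* G) (f : Fin k ↪ Fin m)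
    (d : Fin m → {x : F // x ^ (q + 1) = 1}) (σ : F ≃+* F) :
    ((g.comp (twist hF d σ)).comp (emb hF f)).range = (g.comp (emb hF f)).range := by
  have h : (g.comp (twist hF d σ)).comp (emb hF f) = (g.comp (emb hF f)).comp (twist hF (fun i => d (f i)) σ) :=
    MonoidHom.ext fun x => congrArg g (twist_emb hF f d σ x)
  rw [h, range_comp_twist hF]

theorem injective_comp_emb_twist {k m : ℕ} {G : Type*} [Group G] (g : ↥(SU m F q) →* G) (f : Fin k ↪ Fin m)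
    (d : Fin m → {x : F // x ^ (q + 1) = 1}) (σ : F ≃+* F) (h : Function.Injective (g.comp (emb hF f))) :
    Function.Injective ((g.comp (twist hF d σ)).comp (emb hF f)) := by
  intro x y hxy
  have e : ∀ z, ((g.comp (twist hF d σ)).comp (emb hF f)) z = (g.comp (emb hF f)) (twist hF (fun i => d (f i)) σ z) :=
    fun z => congrArg g (twist_emb hF f d σ z)
  rw [e, e] at hxy
  exact twist_injective hF _ σ (h hxy)

/-- A chart can be adjusted to agree with the previous one. -/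
theorem exists_next_chart (hq : q = 2 ∨ q = 3) {G : Type*} [Group G] {A B C D V V' V'' : Subgroup G}
    {g g' : ↥(SU 4 F q) →* G} (h : IsChart hF A B C V V' g) (h' : IsChart hF B C D V' V'' g') :
    ∃ g'' : ↥(SU 4 F q) →* G, IsChart hF B C D V' V'' g'' ∧
      g''.comp (emb hF (win 0 (show 0 + 3 ≤ 4 by omega))) = g.comp (emb hF (win 1 (show 1 + 3 ≤ 4 by omega))) := by
  set ρ := g.comp (emb hF (win 1 (show 1 + 3 ≤ 4 by omega))) with hρ
  set ρ' := g'.comp (emb hF (win 0 (show 0 + 3 ≤ 4 by omega))) with hρ'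
  have hw : ∀ (a b : ℕ) (ha : a + 3 ≤ 4) (hb : b + 2 ≤ 3) (hab : (a + b) + 2 ≤ 4) (k : ↥(SU 4 F q) →* G),
      (k.comp (emb hF (win a ha))).comp (emb hF (win b hb)) = k.comp (emb hF (win (a + b) hab)) := by
    intro a b ha hb hab k
    rw [MonoidHom.comp_assoc, emb_comp, win_trans]
  obtain ⟨d, σ, hd⟩ := exists_twist_of_ranges hF hq ρ ρ' h.inj' h'.inj (h.rV'.trans h'.rV.symm)
    (by rw [hρ, hρ', w01, hw 1 0 _ _ (by omega), hw 0 0 _ _ (by omega)]; exact h.rB.trans h'.rA.symm)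
    (by rw [hρ, hρ', w12, hw 1 1 _ _ (by omega), hw 0 1 _ _ (by omega)]; exact h.rC.trans h'.rB.symm)
  let e : Fin 4 → {x : F // x ^ (q + 1) = 1} := Fin.snoc d oneN
  have he : (fun i => e (win 0 (show 0 + 3 ≤ 4 by omega) i)) = d := funext fun i => by
    have : win 0 (show 0 + 3 ≤ 4 by omega) i = Fin.castSucc i := Fin.ext (by simp)
    rw [this]; exact Fin.snoc_castSucc (α := fun _ => {x : F // x ^ (q + 1) = 1}) _ _ _
  refine ⟨g'.comp (twist hF e σ), ⟨?_, ?_, ?_, ?_, ?_, ?_, ?_⟩, ?_⟩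
  · rw [range_comp_emb_twist hF, h'.rA]
  · rw [range_comp_emb_twist hF, h'.rB]
  · rw [range_comp_emb_twist hF, h'.rC]
  · rw [range_comp_emb_twist hF, h'.rV]
  · rw [range_comp_emb_twist hF, h'.rV']
  · exact injective_comp_emb_twist hF _ _ _ _ h'.inj
  · exact injective_comp_emb_twist hF _ _ _ _ h'.inj'
  · refine MonoidHom.ext fun x => ?_
    show g' (twist hF e σ (emb hF _ x)) = ρ x
    rw [twist_emb, he, hd]
    rfl

/-- Charts for all triples give the covering homomorphism. -/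
theorem exists_surjective_of_charts (hq : q = 2 ∨ q = 3) {G : Type*} [Group G] (n : ℕ) (hn : 4 ≤ n)
    (U : Fin n → Subgroup G) (V : Fin n → Fin n → Subgroup G)
    (hU : ∀ i j k : Fin n, (j : ℕ) + 1 = k → ((i : ℕ) + 2 ≤ j ∨ (k : ℕ) + 2 ≤ i) →
      ∀ x ∈ U i, ∀ y ∈ V j k, x * y = y * x)
    (h6 : q = 2 → ∀ i j k l : Fin n, (i : ℕ) + 1 = j → (k : ℕ) + 1 = l → (j : ℕ) + 2 ≤ k →
      ∀ x ∈ V i j, ∀ y ∈ V k l, x * y = y * x)
    (hgen : (⨆ i, U i) ⊔ (⨆ (i : Fin n) (j : Fin n) (_ : (i : ℕ) + 1 = j), V i j) = ⊤)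
    (hch : ∀ i j k : Fin n, (i : ℕ) + 1 = j → (j : ℕ) + 1 = k →
      ∃ g : ↥(SU 4 F q) →* G, IsChart hF (U i) (U j) (U k) (V i j) (V j k) g) :
    ∃ f : ↥(SU (n + 1) F q) →* G, Function.Surjective f := by
  let P : ℕ → (↥(SU 4 F q) →* G) → Prop := fun a W => ∀ (h : a + 3 ≤ n),
    IsChart hF (U ⟨a, by omega⟩) (U ⟨a + 1, by omega⟩) (U ⟨a + 2, by omega⟩) (V ⟨a, by omega⟩ ⟨a + 1, by omega⟩)
      (V ⟨a + 1, by omega⟩ ⟨a + 2, by omega⟩) W
  have hstep : ∀ (a : ℕ) (W : {W : ↥(SU 4 F q) →* G // P a W}), ∃ W' : {W : ↥(SU 4 F q) →* G // P (a + 1) W},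
      a + 4 ≤ n → W'.1.comp (emb hF (win 0 (show 0 + 3 ≤ 4 by omega)))
        = W.1.comp (emb hF (win 1 (show 1 + 3 ≤ 4 by omega))) := by
    intro a W
    by_cases ha : a + 4 ≤ n
    · obtain ⟨g', hg'⟩ := hch ⟨a + 1, by omega⟩ ⟨a + 2, by omega⟩ ⟨a + 3, by omega⟩ rfl rfl
      obtain ⟨g'', h1, h2⟩ := exists_next_chart hF hq (W.2 (by omega)) hg'
      exact ⟨⟨g'', fun _ => h1⟩, fun _ => h2⟩
    · exact ⟨⟨W.1, fun h => absurd h (by omega)⟩, fun h => absurd h ha⟩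
  choose next hnext using hstep
  obtain ⟨g0, hg0⟩ := hch ⟨0, by omega⟩ ⟨1, by omega⟩ ⟨2, by omega⟩ rfl rfl
  let W : ∀ a, {W : ↥(SU 4 F q) →* G // P a W} := fun a =>
    Nat.rec (motive := fun a => {W : ↥(SU 4 F q) →* G // P a W}) ⟨g0, fun _ => hg0⟩ next a
  let T : ℕ → ↥(SU 3 F q) →* G := fun a =>
    if a + 4 ≤ n + 1 then (W a).1.comp (emb hF (win 0 (show 0 + 3 ≤ 4 by omega)))
    else (W (a - 1)).1.comp (emb hF (win 1 (show 1 + 3 ≤ 4 by omega)))
  have hT : ∀ a, a + 4 ≤ n + 1 → T (a + 1) = (W a).1.comp (emb hF (win 1 (show 1 + 3 ≤ 4 by omega))) := by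
    intro a ha
    by_cases h : a + 1 + 4 ≤ n + 1
    · simp only [T, if_pos h]
      exact hnext a (W a) (by omega)
    · simp only [T, if_neg h]
      rfl
  have hT0 : ∀ a, a + 4 ≤ n + 1 → T a = (W a).1.comp (emb hF (win 0 (show 0 + 3 ≤ 4 by omega))) := fun a ha => by
    simp only [T, if_pos ha]
  have hrange : ∀ (a : ℕ) (ha : a + 2 ≤ n), (T a).range = V ⟨a, by omega⟩ ⟨a + 1, by omega⟩ ∧
      ((T a).comp (emb hF (win 0 (show 0 + 2 ≤ 3 by omega)))).range = U ⟨a, by omega⟩ ∧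
      ((T a).comp (emb hF (win 1 (show 1 + 2 ≤ 3 by omega)))).range = U ⟨a + 1, by omega⟩ := by
    intro a ha
    by_cases h : a + 4 ≤ n + 1
    · have hc := (W a).2 (by omega)
      rw [hT0 a h]
      refine ⟨hc.rV, ?_, ?_⟩
      · rw [MonoidHom.comp_assoc, emb_comp, win_trans]; exact hc.rA
      · rw [MonoidHom.comp_assoc, emb_comp, win_trans]; exact hc.rB
    · obtain ⟨b, rfl⟩ : ∃ b, a = b + 1 := ⟨a - 1, by omega⟩
      have hc := (W b).2 (by omega)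
      rw [hT b (by omega)]
      refine ⟨hc.rV', ?_, ?_⟩
      · rw [MonoidHom.comp_assoc, emb_comp, win_trans]; exact hc.rB
      · rw [MonoidHom.comp_assoc, emb_comp, win_trans]; exact hc.rC
  let D : Windows hF (n + 1) G :=
    { V := T
      hW := fun a ha => ⟨(W a).1, (hT0 a ha).symm, (hT a ha).symm⟩
      hU := fun a b hb hab x u => by
        obtain ⟨hV1, -, -⟩ := hrange a (by omega)
        obtain ⟨-, -, hU2⟩ := hrange b (by omega)
        exact (hU ⟨b + 1, by omega⟩ ⟨a, by omega⟩ ⟨a + 1, by omega⟩ rfl (Or.inr (by show a + 1 + 2 ≤ b + 1; omega))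
          (T b (emb hF (win 1 (show 1 + 2 ≤ 3 by omega)) u)) (by rw [← hU2]; exact ⟨u, rfl⟩) (T a x) (by rw [← hV1]; exact ⟨x, rfl⟩)).symm
      h6 := fun hq2 a ha x y => by
        obtain ⟨hV1, -, -⟩ := hrange a (by omega)
        obtain ⟨hV2, -, -⟩ := hrange (a + 3) (by omega)
        exact h6 hq2 ⟨a, by omega⟩ ⟨a + 1, by omega⟩ ⟨a + 3, by omega⟩ ⟨a + 3 + 1, by omega⟩ rfl rfl
          (by show a + 1 + 2 ≤ a + 3; omega) (T a x) (by rw [← hV1]; exact ⟨x, rfl⟩) (T (a + 3) y) (by rw [← hV2]; exact ⟨y, rfl⟩) }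
  obtain ⟨f, hf⟩ := exists_hom hF D (by omega)
  refine ⟨f, MonoidHom.range_eq_top.1 (top_unique ?_)⟩
  rw [← hgen]
  have hVle : ∀ i j : Fin n, (i : ℕ) + 1 = j → V i j ≤ f.range := by
    intro i j hij
    have hj := j.2
    obtain ⟨hV1, -, -⟩ := hrange i (by omega)
    intro y hy
    have hy' : y ∈ (T i).range := by
      rw [hV1]
      have e1 : (⟨i + 1, by omega⟩ : Fin n) = j := Fin.ext hij
      rw [e1]; exact hy
    obtain ⟨x, rfl⟩ := hy'
    exact ⟨_, hf i (by omega) x⟩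
  refine sup_le (iSup_le fun i => ?_) (iSup_le fun i => iSup_le fun j => iSup_le fun hij => hVle i j hij)
  by_cases hi : (i : ℕ) + 2 ≤ n
  · obtain ⟨hV1, hU1, -⟩ := hrange i hi
    refine le_trans ?_ (hVle i ⟨i + 1, by omega⟩ rfl)
    rw [← hV1]
    rw [show U i = _ from hU1.symm, MonoidHom.range_comp]
    exact Subgroup.map_le_range _ _
  · obtain ⟨a, ha⟩ : ∃ a, (i : ℕ) = a + 1 := ⟨i - 1, by omega⟩
    have hi' := i.2
    obtain ⟨hV1, -, hU2⟩ := hrange a (by omega)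
    rw [congrArg U (show i = (⟨a + 1, by omega⟩ : Fin n) from Fin.ext ha)]
    refine le_trans ?_ (hVle ⟨a, by omega⟩ ⟨a + 1, by omega⟩ rfl)
    rw [← hV1, ← hU2, MonoidHom.range_comp]
    exact Subgroup.map_le_range _ _

end CfsgLib.Phan
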