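import Mathlib
import Cfsg.Agent.Phan.EigenTwo

/-!
# The chart of two standard pairs over the field with four elements
-/

set_option autoImplicit false

namespace CfsgLib.Phan

open Cfsg CfsgLib.Unitary Matrix

variable {F : Type*} [Field F] [Fintype F] (hF : Fintype.card F = 2 ^ 2)
include hF

theorem sq_eq_one_two {c : F} (h : c ^ 2 = 1) : c = 1 := by
  have h2 := four_two_eq_zero hF
  have : (c - 1) ^ 2 = 0 := by linear_combination h - (c - 1) * h2
  exact sub_eq_zero.1 (eq_zero_of_pow_eq_zero this)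

theorem anti2_sq (a : {x : F // x ^ (2 + 1) = 1}) : anti2 hF a * anti2 hF a = 1 := by
  refine su_two_ext hF ?_ ?_
  · simp [mat_mul, mat_anti2, Matrix.mul_apply, Fin.sum_univ_two]
    rw [show (mat (1 : ↥(SU 2 F 2))) 0 0 = 1 from rfl, four_neg hF, ← pow_succ']
    exact a.2
  · simp [mat_mul, mat_anti2, Matrix.mul_apply, Fin.sum_univ_two]
    rfl

theorem su_two_cases (u : ↥(SU 2 F 2)) : (∃ a, u = diag2 hF a) ∨ ∃ a, u = anti2 hF a := by
  by_cases h : mat u 0 1 = 0
  · exact Or.inl (exists_diag2 hF h)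
  · refine Or.inr (exists_anti2 hF ?_)
    obtain ⟨-, -, h3⟩ := su_two_entries hF u
    rw [four_norm hF h] at h3
    exact eq_zero_of_pow_eq_zero (show mat u 0 0 ^ 3 = 0 by linear_combination h3)

theorem diag_of_cube {u : ↥(SU 2 F 2)} (h : u ^ 3 = 1) : ∃ a, u = diag2 hF a := by
  rcases su_two_cases hF u with h' | ⟨a, rfl⟩
  · exact h'
  · refine ⟨oneN, ?_⟩
    rw [pow_succ, pow_two, anti2_sq hF, one_mul] at h
    rw [h]
    exact su_two_ext hF (by simp [mat_diag2, oneN]; rfl) (by simp [mat_diag2]; rfl)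

theorem trace_conj {m : ℕ} (g x : ↥(SU m F 2)) : (mat (g * x * g⁻¹)).trace = (mat x).trace := by
  rw [mat_mul, Matrix.trace_mul_comm, ← mat_mul, inv_mul_cancel_left]

/-- Diagonal elements of `SU_3` with permuted eigenvalues are conjugate. -/
theorem exists_conj_diag {A B : ↥(SU 3 F 2)} (d : Fin 3 → F) (p : Equiv.Perm (Fin 3))
    (hA : ∀ i, sv A (Pi.single i 1) = d i • Pi.single i 1)
    (hB : ∀ i, sv B (Pi.single (p i) 1) = d i • Pi.single (p i) 1) :
    ∃ x, B = x * A * x⁻¹ := by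
  have hstd : ∀ q : Equiv.Perm (Fin 3),
      Orthonorm 2 fun i : Fin 3 => (Pi.single (q i) (1 : F) : Fin 3 → F) := fun q i j => by
    rw [herm_single_single hF]; simp [q.injective.eq_iff]
  obtain ⟨x, hx⟩ := exists_SU_map_orthonorm hF (f := ![Pi.single (0 : Fin 3) (1 : F), Pi.single 1 1])
    (f' := ![Pi.single (p 0) (1 : F), Pi.single (p 1) 1])
    (orthonorm_two hF (by rw [herm_single_single hF, if_pos rfl]) (by rw [herm_single_single hF, if_pos rfl])
      (by rw [herm_single_single hF, if_neg (by decide)]))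
    (orthonorm_two hF (by rw [herm_single_single hF, if_pos rfl]) (by rw [herm_single_single hF, if_pos rfl])
      (by rw [herm_single_single hF, if_neg (fun h => absurd (p.injective h) (by decide))]))
    (by omega)
  have hx0 : sv x (Pi.single (0 : Fin 3) 1) = Pi.single (p 0) 1 := hx 0
  have hx1 : sv x (Pi.single (1 : Fin 3) 1) = Pi.single (p 1) 1 := hx 1
  obtain ⟨c, hc⟩ : ∃ c : F, sv x (Pi.single (2 : Fin 3) 1) = c • Pi.single (p 2) 1 := by
    refine ⟨hermForm 3 F 2 (sv x (Pi.single (2 : Fin 3) 1)) (Pi.single (p 2) 1), ?_⟩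
    conv_lhs => rw [expand_orthonorm hF (hstd p) (sv x (Pi.single (2 : Fin 3) 1))]
    rw [Fin.sum_univ_three]
    have h0 : hermForm 3 F 2 (sv x (Pi.single (2 : Fin 3) 1)) (Pi.single (p 0) 1) = 0 := by
      rw [← hx0, sv_herm, herm_single_single hF, if_neg (by decide)]
    have h1 : hermForm 3 F 2 (sv x (Pi.single (2 : Fin 3) 1)) (Pi.single (p 1) 1) = 0 := by
      rw [← hx1, sv_herm, herm_single_single hF, if_neg (by decide)]
    rw [h0, h1, zero_smul, zero_smul, zero_add, zero_add]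
  have hB' : ∀ i, sv B (sv x (Pi.single i 1)) = sv x (sv A (Pi.single i 1)) := by
    intro i
    rw [hA, sv_smul]
    fin_cases i
    · show sv B (sv x (Pi.single (0 : Fin 3) 1)) = _ • sv x (Pi.single (0 : Fin 3) 1)
      rw [hx0, hB]
      rfl
    · show sv B (sv x (Pi.single (1 : Fin 3) 1)) = _ • sv x (Pi.single (1 : Fin 3) 1)
      rw [hx1, hB]
      rfl
    · show sv B (sv x (Pi.single (2 : Fin 3) 1)) = _ • sv x (Pi.single (2 : Fin 3) 1)
      rw [hc, sv_smul, hB, smul_comm]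
      rfl
  refine ⟨x, ?_⟩
  rw [eq_mul_inv_iff_mul_eq]
  exact sv_eq_of_frame hF (hstd 1) fun i => by rw [sv_mul, sv_mul]; exact hB' i

theorem not_commute_left {G : Type*} [Group G] (ρ : ↥(SU 3 F 2) →* G)
    (hk : ρ.ker ≤ Subgroup.center ↥(SU 3 F 2)) {u : ↥(SU 2 F 2)} (hu3 : u ^ 3 = 1) (hu1 : u ≠ 1) :
    ¬ Commute (ρ (emb hF w01 u)) (ρ (emb hF w12 (anti2 hF oneN))) := by
  intro h
  obtain ⟨a, rfl⟩ := diag_of_cube hF hu3
  set X := emb hF w01 (diag2 hF a) with hX
  set Fl := emb hF w12 (anti2 hF (oneN : {x : F // x ^ (2 + 1) = 1})) with hFl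
  have hX0 : sv X (Pi.single (0 : Fin 3) 1) = a.1 • Pi.single 0 1 := by
    rw [hX, sv_w01]; funext i; fin_cases i <;> simp [mat_diag2]
  have hX1 : sv X (Pi.single (1 : Fin 3) 1) = (a.1 ^ 2) • Pi.single 1 1 := by
    rw [hX, sv_w01]; funext i; fin_cases i <;> simp [mat_diag2]
  have hX2 : sv X (Pi.single (2 : Fin 3) 1) = Pi.single 2 1 := by
    rw [hX, sv_w01]; funext i; fin_cases i <;> simp
  have hF0 : sv Fl (Pi.single (0 : Fin 3) 1) = Pi.single 0 1 := by
    rw [hFl, sv_w12]; funext i; fin_cases i <;> simp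
  have hF1 : sv Fl (Pi.single (1 : Fin 3) 1) = Pi.single 2 1 := by
    rw [hFl, sv_w12]; funext i; fin_cases i <;> simp [mat_anti2, oneN, four_neg hF]
  have hc : X * Fl * X⁻¹ * Fl⁻¹ = 1 := by
    have hcz : X * Fl * X⁻¹ * Fl⁻¹ ∈ Subgroup.center ↥(SU 3 F 2) := hk (MonoidHom.mem_ker.2 (by
      rw [map_mul, map_mul, map_mul, map_inv, map_inv, h.eq]; group))
    refine eq_one_of_central hF (by omega) hcz (v := Pi.single 0 1) (fun h0 => by simpa using congrFun h0 0) ?_
    have e : sv (X * Fl * X⁻¹ * Fl⁻¹) (sv (Fl * X) (Pi.single (0 : Fin 3) 1)) = sv (X * Fl) (Pi.single 0 1) := by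
      rw [← sv_mul]; congr 1; group
    rw [sv_mul Fl, sv_mul X Fl (Pi.single 0 1), hX0, sv_smul, hF0, hX0, sv_smul] at e
    exact smul_right_injective _ (norm_one_ne_zero hF a) e
  have hcomm : X * Fl = Fl * X := by rwa [mul_inv_eq_one, mul_inv_eq_iff_eq_mul] at hc
  have e := congrArg (fun y => sv y (Pi.single (1 : Fin 3) 1) 2) hcomm
  simp only [sv_mul, hF1, hX2, hX1, sv_smul] at e
  simp at e
  refine hu1 (su_two_ext hF ?_ ?_)
  · show a.1 = 1
    have h3 := a.2
    exact sq_eq_one_two hF e.symm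
  · rfl

theorem not_commute_right {G : Type*} [Group G] (ρ : ↥(SU 3 F 2) →* G)
    (hk : ρ.ker ≤ Subgroup.center ↥(SU 3 F 2)) {u : ↥(SU 2 F 2)} (hu3 : u ^ 3 = 1) (hu1 : u ≠ 1) :
    ¬ Commute (ρ (emb hF w12 u)) (ρ (emb hF w01 (anti2 hF oneN))) := by
  intro h
  obtain ⟨a, rfl⟩ := diag_of_cube hF hu3
  set X := emb hF w12 (diag2 hF a) with hX
  set Fl := emb hF w01 (anti2 hF (oneN : {x : F // x ^ (2 + 1) = 1})) with hFl
  have hX0 : sv X (Pi.single (0 : Fin 3) 1) = Pi.single 0 1 := by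
    rw [hX, sv_w12]; funext i; fin_cases i <;> simp
  have hX1 : sv X (Pi.single (1 : Fin 3) 1) = a.1 • Pi.single 1 1 := by
    rw [hX, sv_w12]; funext i; fin_cases i <;> simp [mat_diag2]
  have hX2 : sv X (Pi.single (2 : Fin 3) 1) = (a.1 ^ 2) • Pi.single 2 1 := by
    rw [hX, sv_w12]; funext i; fin_cases i <;> simp [mat_diag2]
  have hF2 : sv Fl (Pi.single (2 : Fin 3) 1) = Pi.single 2 1 := by
    rw [hFl, sv_w01]; funext i; fin_cases i <;> simp
  have hF1 : sv Fl (Pi.single (1 : Fin 3) 1) = Pi.single 0 1 := by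
    rw [hFl, sv_w01]; funext i; fin_cases i <;> simp [mat_anti2, oneN]
  have hc : X * Fl * X⁻¹ * Fl⁻¹ = 1 := by
    have hcz : X * Fl * X⁻¹ * Fl⁻¹ ∈ Subgroup.center ↥(SU 3 F 2) := hk (MonoidHom.mem_ker.2 (by
      rw [map_mul, map_mul, map_mul, map_inv, map_inv, h.eq]; group))
    refine eq_one_of_central hF (by omega) hcz (v := Pi.single 2 1) (fun h0 => by simpa using congrFun h0 2) ?_
    have e : sv (X * Fl * X⁻¹ * Fl⁻¹) (sv (Fl * X) (Pi.single (2 : Fin 3) 1)) = sv (X * Fl) (Pi.single 2 1) := by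
      rw [← sv_mul]; congr 1; group
    rw [sv_mul Fl, sv_mul X Fl (Pi.single 2 1), hX2, sv_smul, hF2, hX2, sv_smul] at e
    exact smul_right_injective _ (pow_ne_zero 2 (norm_one_ne_zero hF a)) e
  have hcomm : X * Fl = Fl * X := by rwa [mul_inv_eq_one, mul_inv_eq_iff_eq_mul] at hc
  have e := congrArg (fun y => sv y (Pi.single (1 : Fin 3) 1) 0) hcomm
  simp only [sv_mul, hF1, hX0, hX1, sv_smul] at e
  simp at e
  exact hu1 (su_two_ext hF e.symm rfl)

variable {μ : F} (hμ : μ ^ 2 + μ + 1 = 0)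
include hμ

omit hF hμ in
omit [Fintype F] in
theorem omega_norm (h : μ ^ 3 = 1) : μ ^ (2 + 1) = 1 := h

/-- The generator of the diagonal of `SU_2(2)`. -/
def dgen : ↥(SU 2 F 2) := diag2 hF ⟨μ, omega_cube hF hμ⟩

theorem dgen_cube : dgen hF hμ ^ 3 = 1 := by
  rw [dgen, diag2_pow]
  refine su_two_ext hF ?_ rfl
  show μ ^ 3 = 1
  exact omega_cube hF hμ

theorem cube_root_cases {c : F} (h : c ^ 3 = 1) : ∃ e : Fin 3, c = μ ^ (e : ℕ) := by
  have h0 : (c - 1) * (c - μ) * (c - μ ^ 2) = 0 := by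
    linear_combination h + (-c ^ 2 + c * μ) * hμ + (-1 : F) * omega_cube hF hμ
  rcases mul_eq_zero.1 h0 with h0 | h0
  · rcases mul_eq_zero.1 h0 with h0 | h0
    · exact ⟨0, by simpa [sub_eq_zero] using h0⟩
    · exact ⟨1, by simpa [sub_eq_zero] using h0⟩
  · exact ⟨2, by simpa [sub_eq_zero] using h0⟩

theorem exists_pow_dgen {u : ↥(SU 2 F 2)} (h : u ^ 3 = 1) : ∃ e : Fin 3, u = dgen hF hμ ^ (e : ℕ) := by
  obtain ⟨a, rfl⟩ := diag_of_cube hF h
  obtain ⟨e, he⟩ := cube_root_cases hF hμ a.2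
  refine ⟨e, ?_⟩
  rw [dgen, diag2_pow]
  exact congrArg (diag2 hF) (Subtype.ext he)

/-- The exponents of the two generators on the standard basis. -/
theorem sv_dgen (i : Fin 3) :
    sv (emb hF w01 (dgen hF hμ)) (Pi.single i (1 : F)) = μ ^ ((![1, 2, 0] i : Fin 3) : ℕ) • Pi.single i 1 ∧
    sv (emb hF w12 (dgen hF hμ)) (Pi.single i (1 : F)) = μ ^ ((![0, 1, 2] i : Fin 3) : ℕ) • Pi.single i 1 := by
  rw [sv_w01, sv_w12, dgen]
  constructor <;> funext j <;> fin_cases i <;> fin_cases j <;> simp [mat_diag2]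

/-- The central scalar. -/
theorem sv_zeta (x : Fin 3 → F) :
    sv (emb hF w01 (dgen hF hμ) * (emb hF w12 (dgen hF hμ) * emb hF w12 (dgen hF hμ))) x = μ • x := by
  have h4 : μ ^ 2 * (μ ^ 2) = μ := by linear_combination μ * omega_cube hF hμ
  have hb : ∀ i : Fin 3, sv (emb hF w01 (dgen hF hμ) * (emb hF w12 (dgen hF hμ) * emb hF w12 (dgen hF hμ)))
      (Pi.single i (1 : F)) = μ • Pi.single i 1 := by
    intro i
    rw [sv_mul, sv_mul, (sv_dgen hF hμ i).2, sv_smul, (sv_dgen hF hμ i).2, sv_smul, sv_smul,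
      (sv_dgen hF hμ i).1, smul_smul, smul_smul]
    congr 1
    fin_cases i <;> simp
    · linear_combination h4
    · linear_combination h4
  have hstd : Orthonorm 2 fun i : Fin 3 => (Pi.single i (1 : F) : Fin 3 → F) := herm_single_single hF
  rw [expand_orthonorm hF hstd x, sv_sum, Finset.smul_sum]
  exact Finset.sum_congr rfl fun i _ => by rw [sv_smul, hb, smul_comm]

theorem zeta_central :
    emb hF w01 (dgen hF hμ) * (emb hF w12 (dgen hF hμ) * emb hF w12 (dgen hF hμ)) ∈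
      Subgroup.center ↥(SU 3 F 2) :=
  Subgroup.mem_center_iff.2 fun y => sv_ext fun x => by
    rw [sv_mul, sv_zeta hF hμ, sv_mul, sv_zeta hF hμ, sv_smul]

/-- An eigenvector lies on the line of the only frame vector with its exponent. -/
theorem exp_line {v : Fin 4 → Fin 4 → F} (hv : Orthonorm 2 v) {A : ↥(SU 4 F 2)} {e : Fin 4 → Fin 3}
    (hA : ∀ i, sv A (v i) = μ ^ (e i : ℕ) • v i) {x : Fin 4 → F} {k : Fin 4}
    (hx : sv A x = μ ^ (e k : ℕ) • x) (hne : ∀ i, i ≠ k → e i ≠ e k) :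
    x = hermForm 4 F 2 x (v k) • v k := by
  conv_lhs => rw [expand_orthonorm hF hv x]
  refine Finset.sum_eq_single k (fun i _ hik => ?_) (fun h => absurd (Finset.mem_univ k) h)
  rw [coef_zero hF hμ hx (hA i) (hne i hik).symm, zero_smul]

/-- A block whose elements preserve a line fixes it pointwise. -/
theorem fix_of_line {m : ℕ} (φ : ↥(SU 2 F 2) →* ↥(SU m F 2)) {w : Fin m → F}
    (hw : hermForm m F 2 w w = 1) (hline : ∀ u, ∃ c : F, sv (φ u) w = c • w) (u : ↥(SU 2 F 2)) :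
    sv (φ u) w = w := by
  have hw0 : w ≠ 0 := fun h => by rw [h, herm_zero_left] at hw; exact zero_ne_one hw
  have hinv : ∀ a, sv (φ (anti2 hF a)) w = w := by
    intro a
    obtain ⟨c, hc⟩ := hline (anti2 hF a)
    have h1 : sv (φ (anti2 hF a * anti2 hF a)) w = (c ^ 2) • w := by
      rw [map_mul, sv_mul, hc, sv_smul, hc, smul_smul, sq]
    rw [anti2_sq hF, map_one, show sv (1 : ↥(SU m F 2)) w = w from Matrix.one_mulVec _] at h1
    have h2 : c ^ 2 = 1 := smul_left_injective F hw0 (by simpa using h1.symm)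
    rw [hc, sq_eq_one_two hF h2, one_smul]
  rcases su_two_cases hF u with ⟨a, rfl⟩ | ⟨a, rfl⟩
  · have hd : diag2 hF a = anti2 hF a * anti2 hF oneN := by
      have h := diag2_mul_anti2 hF a oneN
      have h1 : mulN a oneN = a := Subtype.ext (mul_one _)
      rw [h1] at h
      rw [← h, mul_assoc, anti2_sq hF, mul_one]
    rw [hd, map_mul, sv_mul, hinv, hinv]
  · exact hinv a

/-- A map of `SU_3(2)` preserving a line and trivial on the blocks fixes it. -/
theorem all_fix (ρ : ↥(SU 3 F 2) →* ↥(SU 4 F 2)) {w : Fin 4 → F} (hw : hermForm 4 F 2 w w = 1)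
    (hline : ∀ x, sv (ρ x) w = hermForm 4 F 2 (sv (ρ x) w) w • w)
    (hA : ∀ u, sv (ρ (emb hF w01 u)) w = w) (hB : ∀ u, sv (ρ (emb hF w12 u)) w = w) (x : ↥(SU 3 F 2)) :
    sv (ρ x) w = w := by
  set c := fun x => hermForm 4 F 2 (sv (ρ x) w) w with hc
  have hn : ∀ x, c x ^ (2 + 1) = 1 := fun x => by
    have h := sv_herm (ρ x) w w
    rw [hline x, herm_self_smul, hw, mul_one] at h
    exact h
  have hc0 : ∀ x, c x ≠ 0 := fun x h => by
    have := hn x
    rw [h] at this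
    simp at this
  have hmul : ∀ x y, c (x * y) = c x * c y := fun x y => by
    show hermForm 4 F 2 (sv (ρ (x * y)) w) w = _
    rw [map_mul, sv_mul, hline y, sv_smul, herm_smul_left, mul_comm]
  let χ : ↥(SU 3 F 2) →* Fˣ := MonoidHom.mk' (fun x => Units.mk0 (c x) (hc0 x)) fun x y => Units.ext (hmul x y)
  have hker : ∀ u, sv (ρ u) w = w → χ u = 1 := fun u hu => Units.ext (by
    show hermForm 4 F 2 (sv (ρ u) w) w = 1
    rw [hu, hw])
  have hle : blockHull hF ≤ χ.ker := by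
    refine sup_le ?_ ?_ <;> rintro _ ⟨u, rfl⟩
    · exact hker _ (hA u)
    · exact hker _ (hB u)
  have h1 := hom_eq_one hF rfl χ (fun x => Units.ext (by rw [Units.val_pow_eq_pow_val]; exact hn x)) (fun y hy => hle hy) x
  have h2 : c x = 1 := congrArg Units.val h1
  rw [hline x, show hermForm 4 F 2 (sv (ρ x) w) w = 1 from h2, one_smul]

/-- A chart for two standard pairs over the field with four elements. -/
theorem exists_chart_two {G : Type*} [Group G] {A B C V V' : Subgroup G}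
    (hV : IsStandardUnitaryPair V A B F 2) (hV' : IsStandardUnitaryPair V' B C F 2)
    (hAC : ∀ x ∈ A, ∀ y ∈ C, x * y = y * x)
    (g : ↥(SU 4 F 2) →* G) (hg : g.range = V ⊔ V') : ∃ g', IsChart hF A B C V V' g' := by
  obtain ⟨π, hπV, hπk, hπd, hπA, hπB⟩ := exists_pair_hom hF hV
  obtain ⟨π', hπV', hπk', hπd', hπB', hπC⟩ := exists_pair_hom hF hV'
  rw [← range_w01 hF, ← MonoidHom.range_comp] at hπA hπB'
  rw [← range_w12 hF, ← MonoidHom.range_comp] at hπB hπC
  set d := dgen hF hμ with hd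
  set c1 := emb hF w01 d with hc1
  set c2 := emb hF w12 d with hc2
  set ζ := c1 * (c2 * c2) with hζ
  have hd3 : d ^ 3 = 1 := dgen_cube hF hμ
  have hd1 : d ≠ 1 := fun h => omega_ne_one hF hμ (congrArg (fun x => mat x 0 0) h)
  have hc23 : c2 * c2 * c2 = 1 := by rw [hc2, ← map_mul, ← map_mul, ← pow_two, ← pow_succ, hd3, map_one]
  have hquot : ∀ (ρ : ↥(SU 3 F 2) →* G), ρ.ker = Subgroup.center ↥(SU 3 F 2) → ρ c1 = ρ c2 := by
    intro ρ hρ
    have h1 : ρ ζ = 1 := MonoidHom.mem_ker.1 (hρ ▸ zeta_central hF hμ)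
    calc ρ c1 = ρ (ζ * c2) := by rw [hζ, mul_assoc c1, hc23, mul_one]
    _ = ρ c2 := by rw [map_mul, h1, one_mul]
  have hcube : ∀ (ρ : ↥(SU 3 F 2) →* G) (f : Fin 2 ↪ Fin 3) (r : Fin 3), (∀ j, f j ≠ r) →
      ρ.ker ≤ Subgroup.center ↥(SU 3 F 2) → Function.Injective (ρ.comp (emb hF f)) :=
    fun ρ f r hr hk => injective_comp_emb hF (by omega) ρ hk f hr
  have hi01 : ∀ (ρ : ↥(SU 3 F 2) →* G), ρ.ker ≤ Subgroup.center ↥(SU 3 F 2) →
      Function.Injective (ρ.comp (emb hF w01)) := fun ρ hk => hcube ρ w01 2 (fun j => by fin_cases j <;> simp [w01, Fin.ext_iff]) hk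
  have hi12 : ∀ (ρ : ↥(SU 3 F 2) →* G), ρ.ker ≤ Subgroup.center ↥(SU 3 F 2) →
      Function.Injective (ρ.comp (emb hF w12)) := fun ρ hk => hcube ρ w12 0 (fun j => by fin_cases j <;> simp [w12, Fin.ext_iff]) hk
  have hinj : Function.Injective π := by
    refine (MonoidHom.ker_eq_bot_iff _).1 (hπd.resolve_right fun h => ?_)
    obtain ⟨u, hu⟩ : π c2 ∈ (π'.comp (emb hF w01)).range := hπB'.symm ▸ hπB ▸ ⟨d, rfl⟩
    have hu3 : u ^ 3 = 1 := hi01 π' hπk' (by
      rw [map_pow, hu, ← map_pow, hc2, ← map_pow, hd3, map_one, map_one, map_one])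
    have hu1 : u ≠ 1 := fun h1 => hd1 (hi12 π hπk (by
      show π c2 = _; rw [← hu, h1, map_one, map_one]))
    refine not_commute_left hF π' hπk' hu3 hu1 ?_
    show Commute ((π'.comp (emb hF w01)) u) _
    rw [hu, ← hquot π h]
    exact hAC _ (hπA ▸ ⟨d, rfl⟩) _ (hπC ▸ ⟨_, rfl⟩)
  have hinj' : Function.Injective π' := by
    refine (MonoidHom.ker_eq_bot_iff _).1 (hπd'.resolve_right fun h => ?_)
    obtain ⟨u, hu⟩ : π' c1 ∈ (π.comp (emb hF w12)).range := hπB.symm ▸ hπB' ▸ ⟨d, rfl⟩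
    have hu3 : u ^ 3 = 1 := hi12 π hπk (by
      rw [map_pow, hu, ← map_pow, hc1, ← map_pow, hd3, map_one, map_one, map_one])
    have hu1 : u ≠ 1 := fun h1 => hd1 (hi01 π' hπk' (by
      show π' c1 = _; rw [← hu, h1, map_one, map_one]))
    refine not_commute_right hF π hπk hu3 hu1 ?_
    show Commute ((π.comp (emb hF w12)) u) _
    rw [hu, hquot π' h]
    exact (hAC _ (hπA ▸ ⟨_, rfl⟩) _ (hπC ▸ ⟨d, rfl⟩)).symm
  -- pull back to `SU_4`
  have hgne : g.range ≠ ⊥ := fun h => by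
    have hmem : π c1 ∈ g.range := hg ▸ Subgroup.mem_sup_left (hπV ▸ ⟨c1, rfl⟩)
    rw [h, Subgroup.mem_bot, ← map_one π] at hmem
    exact hd1 (emb_injective hF w01 (by rw [← hc1, hinj hmem, map_one]))
  have hker := ker_le_center_of_ne hF g hgne
  have hg' : Function.Injective g := by
    rw [← MonoidHom.ker_eq_bot_iff]
    exact le_bot_iff.1 (hker.trans (center_eq_bot hF (by omega) rfl).le)
  have hlift : ∀ (σ : ↥(SU 3 F 2) →* G), σ.range ≤ g.range → ∃ ρ : ↥(SU 3 F 2) →* ↥(SU 4 F 2), g.comp ρ = σ := by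
    intro σ hσ
    choose r hr using fun x => hσ ⟨x, rfl⟩
    exact ⟨MonoidHom.mk' r fun x y => hg' (by rw [map_mul, hr, hr, hr, map_mul]), MonoidHom.ext hr⟩
  obtain ⟨ρ, hρ⟩ := hlift π (by rw [hπV, hg]; exact le_sup_left)
  obtain ⟨ρ', hρ'⟩ := hlift π' (by rw [hπV', hg]; exact le_sup_right)
  have hρi : Function.Injective ρ := fun x y h => hinj (by rw [← hρ]; exact congrArg g h)
  have hρi' : Function.Injective ρ' := fun x y h => hinj' (by rw [← hρ']; exact congrArg g h)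
  set φA := ρ.comp (emb hF w01) with hφA
  set φB := ρ.comp (emb hF w12) with hφB
  set φC := ρ'.comp (emb hF w12) with hφC
  have hgA : φA.range.map g = A := by rw [← MonoidHom.range_comp, hφA, ← MonoidHom.comp_assoc, hρ, hπA]
  have hgB : φB.range.map g = B := by rw [← MonoidHom.range_comp, hφB, ← MonoidHom.comp_assoc, hρ, hπB]
  have hgC : φC.range.map g = C := by rw [← MonoidHom.range_comp, hφC, ← MonoidHom.comp_assoc, hρ', hπC]
  have hB2 : (ρ'.comp (emb hF w01)).range = φB.range := Subgroup.map_injective hg' (by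
    rw [hgB, ← MonoidHom.range_comp, ← MonoidHom.comp_assoc, hρ', hπB'])
  have hcomm : ∀ u u', Commute (φA u) (φC u') := fun u u' => hg' (by
    rw [map_mul, map_mul]
    exact hAC _ (hgA ▸ Subgroup.mem_map_of_mem g ⟨u, rfl⟩) _ (hgC ▸ Subgroup.mem_map_of_mem g ⟨u', rfl⟩))
  -- the frame
  set P := φA d with hP
  set Q := φB d with hQ
  have hPc : P = ρ c1 := rfl
  have hQc : Q = ρ c2 := rfl
  have hs1 : ∀ i : Fin 3, sv c1 (Pi.single i (1 : F)) = μ ^ ((![1, 2, 0] i : Fin 3) : ℕ) • Pi.single i 1 :=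
    fun i => (sv_dgen hF hμ i).1
  have hs2 : ∀ i : Fin 3, sv c2 (Pi.single i (1 : F)) = μ ^ ((![0, 1, 2] i : Fin 3) : ℕ) • Pi.single i 1 :=
    fun i => (sv_dgen hF hμ i).2
  have hmul : ∀ (x y : ↥(SU 3 F 2)) (a b : Fin 3 → Fin 3),
      (∀ i, sv x (Pi.single i (1 : F)) = μ ^ (a i : ℕ) • Pi.single i 1) →
      (∀ i, sv y (Pi.single i (1 : F)) = μ ^ (b i : ℕ) • Pi.single i 1) →
      ∀ i, sv (x * y) (Pi.single i (1 : F)) = μ ^ ((a i + b i : Fin 3) : ℕ) • Pi.single i 1 := by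
    intro x y a b hx hy i
    rw [sv_mul, hy, sv_smul, hx, smul_smul, omega_pow_add hF hμ, mul_comm]
  have hconj : ∀ (y : ↥(SU 3 F 2)) (b : Fin 3 → Fin 3) (p : Equiv.Perm (Fin 3)),
      (∀ i, sv y (Pi.single i (1 : F)) = μ ^ (b i : ℕ) • Pi.single i 1) → (∀ i, b (p i) = ![1, 2, 0] i) →
      (mat (ρ y)).trace = (mat (ρ c1)).trace := by
    intro y b p hy hb
    obtain ⟨x, rfl⟩ := exists_conj_diag hF (fun i => μ ^ ((![1, 2, 0] i : Fin 3) : ℕ)) p hs1 (B := y)
      (fun i => by rw [hy, hb])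
    rw [map_mul, map_mul, map_inv, trace_conj hF]
  have hne12 : c1 ≠ c2 := fun h => omega_ne_one hF hμ (by
    have := congrFun ((hs1 0).symm.trans ((congrArg (fun x => sv x (Pi.single (0 : Fin 3) (1 : F))) h).trans (hs2 0))) 0
    simpa using this)
  have hne12' : c1 * c2 ≠ 1 := fun h => omega_ne_one hF hμ (by
    have := congrFun ((hmul c1 c2 _ _ hs1 hs2 0).symm.trans
      ((congrArg (fun x => sv x (Pi.single (0 : Fin 3) (1 : F))) h).trans (Matrix.one_mulVec _))) 0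
    simpa using this)
  have hstd : Orthonorm 2 fun i : Fin 3 => (Pi.single i (1 : F) : Fin 3 → F) := herm_single_single hF
  obtain ⟨v, a, b, hv, hab, hPv, hQv⟩ := exists_frame_two hF hμ (P := P) (Q := Q)
    (by rw [hP, ← map_pow, hd3, map_one]) (by rw [hQ, ← map_pow, hd3, map_one])
    (Commute.map (show Commute c1 c2 from sv_eq_of_frame hF hstd fun i => by
      rw [hmul c1 c2 _ _ hs1 hs2, hmul c2 c1 _ _ hs2 hs1, add_comm]) ρ)
    (fun h => hd1 (hρi.comp (emb_injective hF w01) (h.trans (map_one φA).symm)))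
    (fun h => hd1 (hρi.comp (emb_injective hF w12) (h.trans (map_one φB).symm)))
    (fun h => hne12 (hρi h)) (fun h => hne12' (hρi (by rw [map_mul, ← hPc, ← hQc, h, map_one])))
    (by rw [hPc, ← map_mul]; exact hconj _ _ (Equiv.swap 0 1) (hmul c1 c1 _ _ hs1 hs1) (by decide))
    (by rw [hPc, hQc]; exact hconj _ _ (finRotate 3) hs2 (by decide))
    (by rw [hPc, hQc, ← map_mul]; exact hconj _ _ (Equiv.swap 1 2) (hmul c1 c2 _ _ hs1 hs2) (by decide))
  obtain ⟨ha2, ha3, ha0, ha1, ha01, hb0, hb3, hb1, hb2, hb12, he0, he1, he2⟩ := hab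
  have hvn : ∀ i, hermForm 4 F 2 (v i) (v i) = 1 := fun i => by rw [hv, if_pos rfl]
  -- an element commuting with a diagonal one maps eigenvectors to eigenvectors
  have heig : ∀ (A y : ↥(SU 4 F 2)) (k : Fin 4) (e : Fin 3), Commute A y → sv A (v k) = μ ^ (e : ℕ) • v k →
      sv A (sv y (v k)) = μ ^ (e : ℕ) • sv y (v k) := fun A y k e hc h => by
    rw [← sv_mul, hc.eq, sv_mul, h, sv_smul]
  set z := ρ ζ with hz
  have hzv : ∀ i, sv z (v i) = μ ^ ((a i + (b i + b i) : Fin 3) : ℕ) • v i := fun i => by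
    rw [hz, hζ, map_mul, map_mul]
    exact exp_mul hF hμ (hPv i) (exp_mul hF hμ (hQv i) (hQv i))
  have hzc : ∀ x, Commute z (ρ x) := fun x =>
    (show Commute ζ x from (Subgroup.mem_center_iff.1 (zeta_central hF hμ) x).symm).map ρ
  have hline3 : ∀ x, sv (ρ x) (v 3) = hermForm 4 F 2 (sv (ρ x) (v 3)) (v 3) • v 3 := fun x =>
    exp_line hF hμ hv hzv (heig z (ρ x) 3 _ (hzc x) (hzv 3)) fun i hi => by
      rw [ha3, hb3]
      fin_cases i
      · exact he0
      · exact he1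
      · exact he2
      · exact absurd rfl hi
  have hA3 : ∀ u, sv (φA u) (v 3) = v 3 := fix_of_line hF hμ φA (hvn 3) fun u => ⟨_, hline3 _⟩
  have hB3 : ∀ u, sv (φB u) (v 3) = v 3 := fix_of_line hF hμ φB (hvn 3) fun u => ⟨_, hline3 _⟩
  have hblock : ∀ (φ : ↥(SU 2 F 2) →* ↥(SU 4 F 2)) (e : Fin 4 → Fin 3) (i : Fin 4),
      (∀ l, sv (φ d) (v l) = μ ^ (e l : ℕ) • v l) → e i = 0 → i ≠ 3 → (∀ l, l ≠ i → l ≠ 3 → e l ≠ 0) →
      (∀ u, sv (φ u) (v 3) = v 3) → ∀ u, sv (φ u) (v i) = v i := by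
    intro φ e i he hei hi3 hne h3
    refine fix_of_line hF hμ φ (hvn i) fun u => ⟨hermForm 4 F 2 (sv (φ u) (v i)) (v i), ?_⟩
    obtain ⟨k, hk⟩ := exists_pow_dgen hF hμ (u := u⁻¹ * d * u) (by
      have h := conj_pow (a := u⁻¹) (b := d) (i := 3)
      rw [inv_inv, hd3, mul_one, inv_mul_cancel] at h
      exact h)
    have hfix : sv (φ d) (v i) = v i := by rw [he, hei, Fin.val_zero, pow_zero, one_smul]
    have hfix' : ∀ n : ℕ, sv (φ d ^ n) (v i) = v i := by
      intro n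
      induction n with
      | zero => rw [pow_zero]; exact Matrix.one_mulVec _
      | succ n ih => rw [pow_succ, sv_mul, hfix, ih]
    have hx : sv (φ d) (sv (φ u) (v i)) = μ ^ ((0 : Fin 3) : ℕ) • sv (φ u) (v i) := by
      rw [← sv_mul, ← map_mul, show d * u = u * (u⁻¹ * d * u) by group, hk, map_mul, sv_mul, map_pow, hfix',
        Fin.val_zero, pow_zero, one_smul]
    conv_lhs => rw [expand_orthonorm hF hv (sv (φ u) (v i))]
    refine Finset.sum_eq_single i (fun l _ hl => ?_) (fun h => absurd (Finset.mem_univ i) h)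
    rcases eq_or_ne l 3 with rfl | hl3
    · rw [show v 3 = sv (φ u) (v 3) from (h3 u).symm, sv_herm, hv, if_neg hi3, zero_smul]
    · rw [coef_zero hF hμ hx (he l) (hne l hl hl3).symm, zero_smul]
  have hA2 : ∀ u, sv (φA u) (v 2) = v 2 := hblock φA a 2 hPv ha2 (by decide) (fun l h2 h3 => by
    fin_cases l
    · exact ha0
    · exact ha1
    · exact absurd rfl h2
    · exact absurd rfl h3) hA3
  have hB0 : ∀ u, sv (φB u) (v 0) = v 0 := hblock φB b 0 hQv hb0 (by decide) (fun l h2 h3 => by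
    fin_cases l
    · exact absurd rfl h2
    · exact hb1
    · exact hb2
    · exact absurd rfl h3) hB3
  have hPC : ∀ u, Commute P (φC u) := fun u => hcomm d u
  have hC0 : ∀ u, sv (φC u) (v 0) = v 0 := fix_of_line hF hμ φC (hvn 0) fun u =>
    ⟨_, exp_line hF hμ hv hPv (heig P (φC u) 0 _ (hPC u) (hPv 0)) fun i hi => by
      fin_cases i
      · exact absurd rfl hi
      · exact ha01.symm
      · exact ne_of_eq_of_ne ha2 ha0.symm
      · exact ne_of_eq_of_ne ha3 ha0.symm⟩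
  have hC1 : ∀ u, sv (φC u) (v 1) = v 1 := fix_of_line hF hμ φC (hvn 1) fun u =>
    ⟨_, exp_line hF hμ hv hPv (heig P (φC u) 1 _ (hPC u) (hPv 1)) fun i hi => by
      fin_cases i
      · exact ha01
      · exact absurd rfl hi
      · exact ne_of_eq_of_ne ha2 ha1.symm
      · exact ne_of_eq_of_ne ha3 ha1.symm⟩
  -- the second centre
  set z' := ρ' ζ with hz'
  have hz'c : ∀ x, Commute z' (ρ' x) := fun x =>
    (show Commute ζ x from (Subgroup.mem_center_iff.1 (zeta_central hF hμ) x).symm).map ρ'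
  have hz'B : ∀ u, Commute z' (φB u) := fun u => by
    obtain ⟨u', hu'⟩ : φB u ∈ (ρ'.comp (emb hF w01)).range := hB2.symm ▸ ⟨u, rfl⟩
    rw [← hu']
    exact hz'c _
  have hB'0 : ∀ u, sv (ρ' (emb hF w01 u)) (v 0) = v 0 := fun u => by
    obtain ⟨u', hu'⟩ : (ρ'.comp (emb hF w01)) u ∈ φB.range := hB2 ▸ ⟨u, rfl⟩
    show sv ((ρ'.comp (emb hF w01)) u) (v 0) = v 0
    rw [← hu', hB0]
  have hz0 : sv z' (v 0) = v 0 := by
    have h2 : sv (ρ' c2) (v 0) = v 0 := hC0 d
    rw [hz', hζ, map_mul, map_mul, sv_mul, sv_mul, h2, h2]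
    exact hB'0 d
  have hbb : b 1 + b 1 = b 2 := by
    revert hb1 hb2 hb12; generalize b 1 = x; generalize b 2 = y; revert x y; decide
  have hl1 : ∀ l, l ≠ 1 → b l ≠ b 1 := fun l hl => by
    fin_cases l
    · exact ne_of_eq_of_ne hb0 hb1.symm
    · exact absurd rfl hl
    · exact hb12.symm
    · exact ne_of_eq_of_ne hb3 hb1.symm
  have hl2 : ∀ l, l ≠ 2 → b l ≠ b 2 := fun l hl => by
    fin_cases l
    · exact ne_of_eq_of_ne hb0 hb2.symm
    · exact hb12
    · exact absurd rfl hl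
    · exact ne_of_eq_of_ne hb3 hb2.symm
  have hdiag : ∀ l, ∃ e : Fin 3, sv z' (v l) = μ ^ (e : ℕ) • v l := by
    intro l
    have hline : sv z' (v l) = hermForm 4 F 2 (sv z' (v l)) (v l) • v l := by
      have hx := heig Q z' l _ (hz'B d).symm (hQv l)
      fin_cases l
      · show sv z' (v 0) = hermForm 4 F 2 (sv z' (v 0)) (v 0) • v 0
        rw [hz0, hv, if_pos rfl, one_smul]
      · exact exp_line hF hμ hv hQv hx hl1
      · exact exp_line hF hμ hv hQv hx hl2
      · show sv z' (v 3) = hermForm 4 F 2 (sv z' (v 3)) (v 3) • v 3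
        conv_lhs => rw [expand_orthonorm hF hv (sv z' (v (3 : Fin 4)))]
        refine Finset.sum_eq_single (3 : Fin 4) (fun i _ hi => ?_) (fun h => absurd (Finset.mem_univ _) h)
        have h0 : i = 0 ∨ b i ≠ b 3 := by
          fin_cases i
          · exact Or.inl rfl
          · exact Or.inr (ne_of_ne_of_eq hb1 hb3.symm)
          · exact Or.inr (ne_of_ne_of_eq hb2 hb3.symm)
          · exact absurd rfl hi
        rcases h0 with rfl | h0
        · rw [show hermForm 4 F 2 (sv z' (v 3)) (v 0) = 0 from by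
            rw [← hz0, sv_herm, hv, if_neg (by decide)], zero_smul]
        · exact (congrArg (· • v i) (coef_zero hF hμ hx (hQv i) h0.symm)).trans (zero_smul F (v i))
    obtain ⟨e, he⟩ := cube_root_cases hF hμ (c := hermForm 4 F 2 (sv z' (v l)) (v l)) (by
      have h := sv_herm z' (v l) (v l)
      rw [hline, herm_self_smul, hvn, mul_one] at h
      exact h)
    exact ⟨e, by rw [← he]; exact hline⟩
  choose e he using hdiag
  have hez : e 0 = 0 := by
    refine omega_pow_inj hF hμ ?_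
    have h := congrArg (fun x => hermForm 4 F 2 x (v 0)) ((he 0).symm.trans hz0)
    simp only [herm_smul_left, hvn, mul_one] at h
    rw [h, Fin.val_zero, pow_zero]
  set J := φB (anti2 hF oneN) with hJ
  have hJQ : Q * J = J * (Q * Q) := by
    rw [hQ, hJ, ← map_mul, ← map_mul, ← map_mul]
    congr 1
    refine su_two_ext hF ?_ ?_ <;>
      simp [mat_mul, hd, dgen, mat_diag2, mat_anti2, oneN, Matrix.mul_apply, Fin.sum_univ_two, four_neg hF]
    linear_combination (-μ) * omega_cube hF hμ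
  have hJv : sv J (v 1) = hermForm 4 F 2 (sv J (v 1)) (v 2) • v 2 :=
    exp_line hF hμ hv hQv (by
      rw [← sv_mul, hJQ, sv_mul, exp_mul hF hμ (hQv 1) (hQv 1), sv_smul, hbb]) hl2
  have he12 : e 1 = e 2 := by
    refine omega_pow_inj hF hμ ?_
    have h1 : sv z' (sv J (v 1)) = μ ^ (e 1 : ℕ) • sv J (v 1) := by
      rw [← sv_mul, (hz'B _).eq, sv_mul, he, sv_smul]
    have hn : hermForm 4 F 2 (sv J (v 1)) (sv J (v 1)) = 1 := by rw [sv_herm, hvn]
    rw [hJv] at h1 hn
    rw [sv_smul, he, smul_comm] at h1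
    generalize hermForm 4 F 2 (sv J (v 1)) (v 2) • v 2 = w at h1 hn
    have h := congrArg (fun x => hermForm 4 F 2 x w) h1
    rw [herm_smul_left, herm_smul_left, hn, mul_one, mul_one] at h
    exact h.symm
  have hsum : e 0 + e 1 + e 2 + e 3 = 0 := exp_sum_zero hF hμ hv he
  have hne1 : e 1 ≠ 0 := fun h1 => by
    have h3 : e 3 = 0 := by
      rw [← hsum, hez, ← he12, h1, zero_add, zero_add, zero_add]
    have hz1 : z' = 1 := sv_eq_of_frame hF hv fun i => by
      rw [he, show sv (1 : ↥(SU 4 F 2)) (v i) = v i from Matrix.one_mulVec _]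
      fin_cases i
      · simp [hez]
      · simp [h1]
      · simp [← he12, h1]
      · simp [h3]
    have hζ1 : ζ = 1 := hρi' (hz1.trans (map_one _).symm)
    have := congrFun ((sv_zeta hF hμ (Pi.single 0 1)).symm.trans
      ((congrArg (fun x => sv x (Pi.single (0 : Fin 3) (1 : F))) hζ1).trans (Matrix.one_mulVec _))) 0
    simp at this
    exact omega_ne_one hF hμ this
  have he3 : e 3 = e 1 := by
    rw [hez, ← he12, zero_add] at hsum
    revert hsum; generalize e 1 = x; generalize e 3 = y; revert x y; decide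
  have hline0 : ∀ x, sv (ρ' x) (v 0) = hermForm 4 F 2 (sv (ρ' x) (v 0)) (v 0) • v 0 := fun x =>
    exp_line hF hμ hv he (heig z' (ρ' x) 0 _ (hz'c x) (he 0)) fun i hi => by
      rw [hez]
      fin_cases i
      · exact absurd rfl hi
      · exact hne1
      · exact ne_of_eq_of_ne he12.symm hne1
      · exact ne_of_eq_of_ne he3 hne1
  have hV3 : ∀ x, sv (ρ x) (v 3) = v 3 := all_fix hF hμ ρ (hvn 3) hline3 hA3 hB3
  have hV0 : ∀ x, sv (ρ' x) (v 0) = v 0 := all_fix hF hμ ρ' (hvn 0) hline0 hB'0 hC0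
  -- identification of the images
  have hcardA : ∀ (φ : ↥(SU 2 F 2) →* ↥(SU 4 F 2)) (i j : Fin 4), i ≠ j → Function.Injective φ →
      (∀ u, sv (φ u) (v i) = v i) → (∀ u, sv (φ u) (v j) = v j) →
      stab (q := 2) (v i) ⊓ stab (q := 2) (v j) = φ.range := by
    intro φ i j hij hφ hi hj
    refine (Subgroup.eq_of_le_of_card_ge (by rintro _ ⟨u, rfl⟩; exact ⟨hi u, hj u⟩) ?_).symm
    rw [card_stab_two hF hv hij, ← Nat.card_congr (MonoidHom.ofInjective hφ).toEquiv]
  have hcardV : ∀ (σ : ↥(SU 3 F 2) →* ↥(SU 4 F 2)) (i : Fin 4), Function.Injective σ →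
      (∀ x, sv (σ x) (v i) = v i) → Nat.card (stab (q := 2) (v i)) = Nat.card ↥(SU 3 F 2) →
      stab (q := 2) (v i) = σ.range := by
    intro σ i hσ hi hc
    refine (Subgroup.eq_of_le_of_card_ge (by rintro _ ⟨u, rfl⟩; exact hi u) ?_).symm
    rw [hc, ← Nat.card_congr (MonoidHom.ofInjective hσ).toEquiv]
  refine exists_chart_of_frame hF g hker v hv ?_ ?_ ?_ ?_ ?_
  · rw [hcardA φA 2 3 (by decide) (hρi.comp (emb_injective hF w01)) hA2 hA3, hgA]
  · rw [hcardA φB 0 3 (by decide) (hρi.comp (emb_injective hF w12)) hB0 hB3, hgB]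
  · rw [hcardA φC 0 1 (by decide) (hρi'.comp (emb_injective hF w12)) hC0 hC1, hgC]
  · rw [hcardV ρ 3 hρi hV3 (card_stab_one hF hv), ← MonoidHom.range_comp, hρ, hπV]
  · rw [hcardV ρ' 0 hρi' hV0 (card_stab_first hF hv), ← MonoidHom.range_comp, hρ', hπV']

end CfsgLib.Phan
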