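import Mathlib
import Cfsg.Agent.Phan.Induct
import Cfsg.Agent.Phan.Small
import Cfsg.Agent.Phan.ContractFour

/-!
# `SU_N(q)`, `q ≥ 4`, from compatible homomorphisms on windows of three coordinates

Two homomorphisms on the windows `012` and `123` of `SU_4` which agree on the window `12` and map the windows `01`
and `23` to commuting subgroups extend to `SU_4`; hence a chain of such windows gives a homomorphism on `SU_N`.
-/

set_option autoImplicit false

namespace CfsgLib.Phan

open Cfsg CfsgLib.Unitary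

variable {F : Type*} [Field F] [Fintype F] {q : ℕ} (hF : Fintype.card F = q ^ 2)
include hF

/-- Two windows of three coordinates extend to `SU_4`. -/
theorem exists_hom_four (hq : 4 ≤ q) {G : Type*} [Group G] (V0 V1 : ↥(SU 3 F q) →* G)
    (hagree : ∀ u : ↥(SU 2 F q), V0 (emb hF (win 1 (show 1 + 2 ≤ 3 by omega)) u)
      = V1 (emb hF (win 0 (show 0 + 2 ≤ 3 by omega)) u))
    (hcomm : ∀ x y : ↥(SU 2 F q), Commute (V0 (emb hF (win 0 (show 0 + 2 ≤ 3 by omega)) x))
      (V1 (emb hF (win 1 (show 1 + 2 ≤ 3 by omega)) y))) :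
    ∃ W : ↥(SU 4 F q) →* G, W.comp (emb hF (win 0 (show 0 + 3 ≤ 4 by omega))) = V0 ∧
      W.comp (emb hF (win 1 (show 1 + 3 ≤ 4 by omega))) = V1 := by
  set w0 := win (m := 4) (k := 3) 0 (by omega) with hw0
  set w1 := win (m := 4) (k := 3) 1 (by omega) with hw1
  set eL : Fin 4 → F := Pi.single 3 1 with heL
  set e0 : Fin 4 → F := Pi.single 0 1 with he0
  have hSA : stab (q := q) eL ≤ (emb hF w0).range := fun g hg =>
    stab_le_range hF _ _ (fun r hr => notMem_win_last hF hr) hg
  have hSB : stab (q := q) e0 ≤ (emb hF w1).range := fun g hg =>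
    stab_le_range hF _ _ (fun r hr => notMem_win_first hF hr) hg
  have hout : ∀ (a : ℕ) (ha : a + 2 ≤ 4) (i : Fin 4), (∀ j, win (m := 4) (k := 2) a ha j ≠ i) →
      (i : ℕ) < a ∨ a + 2 ≤ (i : ℕ) := fun a ha i hi => by
    by_contra h
    exact hi ⟨i - a, by omega⟩ (Fin.ext (by simp; omega))
  obtain ⟨u, hu⟩ := exists_SU_map_orthonorm hF (f := ![Pi.single (1 : Fin 2) (1 : F)])
    (f' := ![Pi.single (0 : Fin 2) (1 : F)]) (orthonorm_one (by rw [herm_single hF, if_pos rfl]))
    (orthonorm_one (by rw [herm_single hF, if_pos rfl])) (by omega)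
  set wβ := win (m := 4) (k := 2) 2 (by omega) with hwβ
  have hβL : sv (emb hF wβ u) eL = Pi.single (2 : Fin 4) 1 := by
    rw [heL, show (3 : Fin 4) = wβ 1 from Fin.ext (by simp [hwβ]), ← incl_mulVec_single (F := F),
      sv_emb_incl, show sv u (Pi.single (1 : Fin 2) (1 : F)) = Pi.single 0 1 from hu 0, incl_mulVec_single]
    exact congrArg (fun i => Pi.single i (1 : F)) (Fin.ext (by simp [hwβ]))
  have hβ0 : emb hF wβ u ∈ stab (q := q) e0 :=
    sv_emb_single_of_notMem hF _ _ fun j h => by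
      have := congrArg Fin.val h; simp [hwβ] at this
  have hA : ∀ (x : ↥(SU 2 F q)) (h : emb hF (win (m := 4) (k := 2) 0 (by omega)) x ∈ stab (q := q) eL),
      pullHom hF w0 V0 hSA ⟨_, h⟩ = V0 (emb hF (win 0 (show 0 + 2 ≤ 3 by omega)) x) := fun x h =>
    pullHom_apply hF w0 V0 hSA _ _ _ (by rw [emb_trans, hw0, win_trans])
  have hB : ∀ (y : ↥(SU 2 F q)) (h : emb hF wβ y ∈ stab (q := q) e0),
      pullHom hF w1 V1 hSB ⟨_, h⟩ = V1 (emb hF (win 1 (show 1 + 2 ≤ 3 by omega)) y) := fun y h =>
    pullHom_apply hF w1 V1 hSB _ _ _ (by rw [emb_trans, hw1, hwβ, win_trans])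
  have hagree' : ∀ (c : ↥(SU 4 F q)) (h1 : c ∈ stab (q := q) eL) (h2 : c ∈ stab (q := q) e0),
      pullHom hF w0 V0 hSA ⟨c, h1⟩ = pullHom hF w1 V1 hSB ⟨c, h2⟩ := by
    intro c h1 h2
    obtain ⟨x, rfl⟩ := exists_emb_eq hF (win (m := 4) (k := 2) 1 (by omega)) c fun i hi => by
      rcases hout 1 _ i hi with h | h
      · rw [show i = 0 from Fin.ext (by omega)]; exact h2
      · rw [show i = 3 from Fin.ext (by show (i : ℕ) = 3; omega)]; exact h1
    rw [pullHom_apply hF w0 V0 hSA (emb hF (win 1 (show 1 + 2 ≤ 3 by omega)) x) _ _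
        (by rw [emb_trans, hw0, win_trans]),
      pullHom_apply hF w1 V1 hSB (emb hF (win 0 (show 0 + 2 ≤ 3 by omega)) x) _ _
        (by rw [emb_trans, hw1, win_trans]), hagree]
  have hfix : ∀ c : ↥(SU 4 F q), c ∈ stab (q := q) eL → sv c (Pi.single (2 : Fin 4) (1 : F)) = Pi.single 2 1 →
      ∃ x, emb hF (win (m := 4) (k := 2) 0 (by omega)) x = c := fun c h1 hc =>
    exists_emb_eq hF _ c fun i hi => by
      rcases hout 0 _ i hi with h | h
      · omega
      · obtain rfl | rfl : i = 2 ∨ i = 3 := by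
          rcases eq_or_ne (i : ℕ) 2 with h' | h'
          · exact Or.inl (Fin.ext h')
          · exact Or.inr (Fin.ext (by show (i : ℕ) = 3; omega))
        · exact hc
        · exact h1
  have hcond : ∀ (c : ↥(SU 4 F q)) (h1 : c ∈ stab (q := q) eL),
      sv c (sv (emb hF wβ u) eL) = sv (emb hF wβ u) eL →
      ∀ h2 : (emb hF wβ u)⁻¹ * c * emb hF wβ u ∈ stab (q := q) eL,
        pullHom hF w0 V0 hSA ⟨c, h1⟩ * pullHom hF w1 V1 hSB ⟨_, hβ0⟩
          = pullHom hF w1 V1 hSB ⟨_, hβ0⟩ * pullHom hF w0 V0 hSA ⟨_, h2⟩ := by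
    intro c h1 hc h2
    rw [hβL] at hc
    obtain ⟨x, rfl⟩ := hfix c h1 hc
    have hcm : Commute (emb hF (win (m := 4) (k := 2) 0 (by omega)) x) (emb hF wβ u) :=
      emb_commute hF _ _ (fun i j h => by
        have := congrArg Fin.val h; simp [hwβ] at this; omega) x u
    rw [show (⟨_, h2⟩ : ↥(stab (q := q) eL)) = ⟨_, h1⟩ from
      Subtype.ext (by
        show (emb hF wβ u)⁻¹ * _ * emb hF wβ u = _
        rw [mul_assoc, hcm.eq, inv_mul_cancel_left]), hA, hB]
    exact hcomm x u
  let D : Amalgam 4 F q G :=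
    { e0 := e0, eL := eL, h0 := by rw [he0, herm_single hF, if_pos rfl]
      hL := by rw [heL, herm_single hF, if_pos rfl]
      h0L := by rw [heL, he0, herm_single hF, if_neg (by decide)]
      A := pullHom hF w0 V0 hSA
      B := pullHom hF w1 V1 hSB
      agree := hagree'
      β := emb hF wβ u
      hβ := hβ0
      hβL := by rw [hβL, heL, herm_single hF, if_neg (by decide)]
      cond := hcond
      extra := fun _ h => by omega }
  have hDβ : sv D.β D.eL = Pi.single (2 : Fin 4) 1 := hβL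
  have C : D.CommFour :=
    { e1 := Pi.single 1 1
      h1 := by rw [herm_single hF, if_pos rfl]
      h10 := by show hermForm 4 F q _ e0 = 0; rw [he0, herm_single hF, if_neg (by decide)]
      h1L := by show hermForm 4 F q _ eL = 0; rw [heL, herm_single hF, if_neg (by decide)]
      h1β := by rw [hDβ, herm_single hF, if_neg (by decide)]
      comm := by
        intro x y hx hy hx2 hy1
        rw [hDβ] at hx2
        obtain ⟨a, rfl⟩ := hfix x hx hx2
        obtain ⟨b, rfl⟩ := exists_emb_eq hF wβ y fun i hi => by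
          rcases hout 2 _ i hi with h | h
          · obtain rfl | rfl : i = 0 ∨ i = 1 := by
              rcases eq_or_ne (i : ℕ) 0 with h' | h'
              · exact Or.inl (Fin.ext h')
              · exact Or.inr (Fin.ext (by show (i : ℕ) = 1; omega))
            · exact hy
            · exact hy1
          · omega
        show Commute (pullHom hF w0 V0 hSA ⟨_, hx⟩) (pullHom hF w1 V1 hSB ⟨_, hy⟩)
        rw [hA, hB]
        exact hcomm a b }
  obtain ⟨f, hfA, hfB⟩ := D.exists_glue_four hF rfl hq C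
  refine ⟨f, MonoidHom.ext fun x => ?_, MonoidHom.ext fun x => ?_⟩
  · have hm : emb hF w0 x ∈ stab (q := q) eL :=
      sv_emb_single_of_notMem hF _ _ fun j h => by
        have := congrArg Fin.val h; simp [hw0] at this; omega
    exact (hfA _ hm).trans (pullHom_apply hF w0 V0 hSA x _ _ rfl)
  · have hm : emb hF w1 x ∈ stab (q := q) e0 :=
      sv_emb_single_of_notMem hF _ _ fun j h => by
        have := congrArg Fin.val h; simp [hw1] at this
    exact (hfB _ hm).trans (pullHom_apply hF w1 V1 hSB x _ _ rfl)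

/-- A chain of windows for `q ≥ 4` extends to `SU_N`: consecutive windows agree on their overlap and the images of
distant windows of two coordinates commute. -/
theorem exists_hom_of_chain (hq : 4 ≤ q) {N : ℕ} (hN : 3 ≤ N) {G : Type*} [Group G]
    (V : ℕ → ↥(SU 3 F q) →* G)
    (hagree : ∀ a, a + 4 ≤ N → ∀ u : ↥(SU 2 F q), V a (emb hF (win 1 (show 1 + 2 ≤ 3 by omega)) u)
      = V (a + 1) (emb hF (win 0 (show 0 + 2 ≤ 3 by omega)) u))
    (hcomm : ∀ a b, a + 1 ≤ b → b + 3 ≤ N → ∀ x y : ↥(SU 2 F q),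
      Commute (V a (emb hF (win 0 (show 0 + 2 ≤ 3 by omega)) x))
        (V b (emb hF (win 1 (show 1 + 2 ≤ 3 by omega)) y))) :
    ∃ f : ↥(SU N F q) →* G, ∀ b (hb : b + 3 ≤ N) (x : ↥(SU 3 F q)), f (emb hF (win b hb) x) = V b x := by
  refine exists_hom hF (D :=
    { V := V
      hW := fun a ha => exists_hom_four hF hq (V a) (V (a + 1)) (hagree a ha)
        (fun x y => hcomm a (a + 1) le_rfl (by omega) x y)
      hU := fun a b hb hab x u => ?_
      h6 := fun h => by omega }) hN
  have key := blocks_generate_three hF (by omega)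
    ((Subgroup.centralizer {V b (emb hF (win 1 (show 1 + 2 ≤ 3 by omega)) u)}).comap (V a)) ?_ ?_
  · have h := Subgroup.mem_top x
    rw [← key] at h
    exact Subgroup.mem_centralizer_singleton_iff.1 (Subgroup.mem_comap.1 h)
  · rintro _ ⟨y, rfl⟩
    rw [Subgroup.mem_comap, Subgroup.mem_centralizer_singleton_iff]
    exact hcomm a b (by omega) hb y u
  · rintro _ ⟨y, rfl⟩
    rw [Subgroup.mem_comap, Subgroup.mem_centralizer_singleton_iff]
    have h := hcomm (a + 1) b (by omega) hb y u
    rw [← hagree a (by omega) y] at h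
    exact h

end CfsgLib.Phan
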